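import Cfsg.Agent.Lib.CyclicStandard.Tools
import Cfsg.Prelude.Def_Local

/-!
Standard subgroups `A` whose centralizer has cyclic Sylow 2-subgroups of order at least 4, none of which is conjugate
into `N(A)` from outside: conjugates of an involution `z` of `C(A)` which commute with it.

Blueprint: `blueprint/S3148.md`, steps 1-3.
-/

set_option autoImplicit false
set_option linter.unusedSectionVars false
set_option linter.style.haveILetI false

namespace CfsgLib.CyclicStandard

open Subgroup Cfsg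

universe u

variable {G : Type u} [Group G] [Finite G]

/-- The standing hypotheses. -/
structure Ctx (A : Subgroup G) : Prop where
  std : IsStandardSubgroup A
  cyc : ∀ R : Sylow 2 ↥(centralizer (A : Set G)), IsCyclic ↥(R : Subgroup ↥(centralizer (A : Set G)))
  four : ∀ z ∈ centralizer (A : Set G), z * z = 1 → z ≠ 1 → ∃ y ∈ centralizer (A : Set G), y * y = z
  noThird : ∀ g : G, g ∉ normalizer (A : Set G) → ∀ R : Sylow 2 ↥(centralizer (A : Set G)),
    ∃ r ∈ (R : Subgroup ↥(centralizer (A : Set G))).map (centralizer (A : Set G)).subtype,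
      g * r * g⁻¹ ∉ normalizer (A : Set G)

variable {A : Subgroup G}

/-- The elements considered: an involution of `C(A)`, a conjugate of it, different and commuting. -/
structure IsPair (A : Subgroup G) (z t : G) : Prop where
  zK : z ∈ centralizer (A : Set G)
  z2 : z * z = 1
  z1 : z ≠ 1
  conj : ∃ g : G, t = g * z * g⁻¹
  ne : t ≠ z
  comm : t * z = z * t

theorem IsPair.t2 {z t : G} (h : IsPair A z t) : t * t = 1 := by
  obtain ⟨g, rfl⟩ := h.conj
  rw [show g * z * g⁻¹ * (g * z * g⁻¹) = g * (z * z) * g⁻¹ by group, h.z2]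
  group

theorem IsPair.t1 {z t : G} (h : IsPair A z t) : t ≠ 1 := by
  obtain ⟨g, rfl⟩ := h.conj
  exact fun e => h.z1 (conj_eq_one_iff.mp e)

theorem IsPair.tinv {z t : G} (h : IsPair A z t) : t⁻¹ = t := inv_eq_of_mul_eq_one_right h.t2

theorem IsPair.zinv {z t : G} (h : IsPair A z t) : z⁻¹ = z := inv_eq_of_mul_eq_one_right h.z2

namespace Ctx

variable (C : Ctx A)
include C

theorem hN : normalizer (A : Set G) = normalizer (centralizer (A : Set G) : Set G) := C.std.2.2.2

theorem K_le_N : centralizer (A : Set G) ≤ normalizer (A : Set G) := by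
  rw [C.hN]; exact le_normalizer

theorem fix {z : G} (hz : z ∈ centralizer (A : Set G)) (hz2 : z * z = 1) (hz1 : z ≠ 1) {g : G}
    (hg : g * z = z * g) : g ∈ normalizer (A : Set G) := by
  by_contra hn
  rw [C.hN] at hn
  have h := C.std.2.1.2 g hn
  have hzI : z ∈ centralizer (A : Set G) ⊓ (centralizer (A : Set G)).map (MulAut.conj g).toMonoidHom :=
    mem_inf.mpr ⟨hz, z, hz, show g * z * g⁻¹ = z by rw [hg, mul_inv_cancel_right]⟩
  have h2 := Subgroup.orderOf_dvd_natCard _ hzI
  rw [show orderOf z = 2 from orderOf_eq_prime (by rw [pow_two, hz2]) hz1] at h2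
  exact (Nat.not_even_iff_odd.mpr h) (even_iff_two_dvd.mpr h2)

/-- A 2-element of `K` and of a different conjugate of `K` is trivial. -/
theorem ti {g : G} (hg : g ∉ normalizer (A : Set G)) {x : G} (hx : x ∈ centralizer (A : Set G))
    (hx' : g⁻¹ * x * g ∈ centralizer (A : Set G)) {k : ℕ} (hk : x ^ 2 ^ k = 1) : x = 1 := by
  rw [C.hN] at hg
  have h := C.std.2.1.2 g hg
  have hxI : x ∈ centralizer (A : Set G) ⊓ (centralizer (A : Set G)).map (MulAut.conj g).toMonoidHom :=
    mem_inf.mpr ⟨hx, g⁻¹ * x * g, hx', show g * (g⁻¹ * x * g) * g⁻¹ = x by group⟩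
  refine orderOf_eq_one_iff.mp (Nat.eq_one_of_dvd_coprimes ?_ (Subgroup.orderOf_dvd_natCard _ hxI)
    (orderOf_dvd_of_pow_eq_one hk))
  exact (Nat.coprime_two_right.mpr h).pow_right k

/-- A 2-group in `C(z)` normalises a Sylow 2-subgroup of `K` through `z`. -/
theorem exists_sylow {z : G} (hzK : z ∈ centralizer (A : Set G)) (hz2 : z * z = 1) (hz1 : z ≠ 1)
    {P : Subgroup G} (hP : IsPGroup 2 ↥P) (hPz : ∀ p ∈ P, p * z = z * p) :
    ∃ R : Sylow 2 ↥(centralizer (A : Set G)),
      z ∈ (R : Subgroup ↥(centralizer (A : Set G))).map (centralizer (A : Set G)).subtype ∧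
      (∀ x ∈ P, x ∈ centralizer (A : Set G) →
        x ∈ (R : Subgroup ↥(centralizer (A : Set G))).map (centralizer (A : Set G)).subtype) ∧
      ∀ p ∈ P, ∀ r ∈ (R : Subgroup ↥(centralizer (A : Set G))).map (centralizer (A : Set G)).subtype,
        p * r * p⁻¹ ∈ (R : Subgroup ↥(centralizer (A : Set G))).map (centralizer (A : Set G)).subtype := by
  have hzp : IsPGroup 2 ↥(zpowers z) := isPGroup_zpowers (k := 1) (by rw [pow_one, pow_two, hz2])
  have hn : P ≤ normalizer (zpowers z : Set G) := by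
    refine le_trans ?_ (centralizer_le_normalizer _)
    intro p hp
    rw [mem_centralizer_iff]
    rintro x ⟨i, rfl⟩
    exact ((show Commute p z from hPz p hp).zpow_right i).eq.symm
  have hsup : P ⊔ zpowers z ≤ normalizer (A : Set G) :=
    sup_le (fun p hp => C.fix hzK hz2 hz1 (hPz p hp)) (zpowers_le.mpr (C.K_le_N hzK))
  obtain ⟨R, h1, h2⟩ := exists_invariant_sylow C.K_le_N (C.hN.le)
    (hP.to_sup_of_normal_right' hzp hn) hsup
  exact ⟨R, h1 z (mem_sup_right (mem_zpowers z)) hzK, fun x hx => h1 x (mem_sup_left hx),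
    fun p hp => h2 p (mem_sup_left hp)⟩

theorem isCyclic_map (R : Sylow 2 ↥(centralizer (A : Set G))) :
    IsCyclic ↥((R : Subgroup ↥(centralizer (A : Set G))).map (centralizer (A : Set G)).subtype) := by
  haveI := C.cyc R
  exact isCyclic_of_surjective _
    (equivMapOfInjective (R : Subgroup ↥(centralizer (A : Set G))) _ (subtype_injective _)).surjective

/-- Commuting involutions of `K` are equal. -/
theorem eq_of_comm {z k : G} (hzK : z ∈ centralizer (A : Set G)) (hz2 : z * z = 1) (hz1 : z ≠ 1)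
    (hkK : k ∈ centralizer (A : Set G)) (hk2 : k * k = 1) (hk1 : k ≠ 1) (h : k * z = z * k) : k = z := by
  obtain ⟨R, hR, hR', -⟩ := C.exists_sylow hzK hz2 hz1
    (P := zpowers k) (isPGroup_zpowers (k := 1) (by rw [pow_one, pow_two, hk2]))
    (fun p hp => by obtain ⟨i, rfl⟩ := hp; exact ((show Commute k z from h).zpow_left i).eq)
  haveI := C.isCyclic_map R
  exact cyclic_involution (hR' k (mem_zpowers k) hkK) hR hk2 hz2 hk1 hz1

/-- The conjugating element lies outside `N(A)`. -/
theorem not_mem {z t g : G} (h : IsPair A z t) (hg : t = g * z * g⁻¹) : g ∉ normalizer (A : Set G) := fun hgN => by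
  have htK : t ∈ centralizer (A : Set G) := by
    rw [C.hN] at hgN
    exact hg ▸ (mem_normalizer_iff.mp hgN z).mp h.zK
  exact h.ne (C.eq_of_comm h.zK h.z2 h.z1 htK h.t2 h.t1 h.comm)

/-- **No square root of `z` in `K` commutes with another conjugate.** -/
theorem inverts {z t y : G} (h : IsPair A z t) (hy : y ∈ centralizer (A : Set G)) (hyy : y * y = z)
    (hty : y * t = t * y) : False := by
  haveI : Fact (Nat.Prime 2) := ⟨Nat.prime_two⟩
  obtain ⟨g, hg⟩ := h.conj
  have hgN := C.not_mem h hg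
  have hy4 : y ^ 2 ^ 2 = 1 := by
    rw [show 2 ^ 2 = 2 + 2 from rfl, pow_add, pow_two, hyy, h.z2]
  set y' := g⁻¹ * y * g with hy'
  have hy'z : y' * z = z * y' := by
    have e : z = g⁻¹ * t * g := by rw [hg]; group
    calc y' * z = g⁻¹ * (y * t) * g := by rw [hy', e]; group
      _ = g⁻¹ * (t * y) * g := by rw [hty]
      _ = z * y' := by rw [hy', e]; group
  obtain ⟨R, -, -, hR⟩ := C.exists_sylow h.zK h.z2 h.z1
    (P := zpowers y') (isPGroup_zpowers (k := 2) (by
      rw [hy', show g⁻¹ * y * g = MulAut.conj g⁻¹ y by simp, ← map_pow, hy4, map_one]))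
    (fun p hp => by obtain ⟨i, rfl⟩ := hp; exact ((show Commute y' z from hy'z).zpow_left i).eq)
  set Rm := (R : Subgroup ↥(centralizer (A : Set G))).map (centralizer (A : Set G)).subtype with hRm
  have hRK : Rm ≤ centralizer (A : Set G) := map_subtype_le _
  haveI := C.isCyclic_map R
  have hRp : IsPGroup 2 ↥Rm := R.2.map _
  have e : y' * y' = g⁻¹ * z * g := by rw [hy', ← hyy]; group
  have hfix : ∀ r ∈ Rm, y' * y' * r = r * (y' * y') := by
    refine sq_fix_of_fix hRp (hR y' (mem_zpowers _)) fun r hr hrz => ?_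
    set b := g * r * g⁻¹ with hb
    have hbz : b * z = z * b := by
      rw [e] at hrz
      calc b * z = g * (r * (g⁻¹ * z * g)) * g⁻¹ := by rw [hb]; group
        _ = g * (g⁻¹ * z * g * r) * g⁻¹ := by rw [hrz]
        _ = z * b := by rw [hb]; group
    have hbN : b ∈ normalizer (centralizer (A : Set G) : Set G) := C.hN ▸ C.fix h.zK h.z2 h.z1 hbz
    set c := y * b * y⁻¹ * b⁻¹ with hc
    have hcK : c ∈ centralizer (A : Set G) := by
      rw [show c = y * (b * y⁻¹ * b⁻¹) by rw [hc]; group]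
      exact mul_mem hy ((mem_normalizer_iff.mp hbN _).mp (inv_mem hy))
    have hcR : g⁻¹ * c * g ∈ Rm := by
      rw [show g⁻¹ * c * g = y' * r * y'⁻¹ * r⁻¹ by rw [hc, hb, hy']; group]
      exact mul_mem (hR y' (mem_zpowers _) r hr) (inv_mem hr)
    obtain ⟨k, hk⟩ := hRp ⟨_, hcR⟩
    have hc1 : c = 1 := C.ti hgN hcK (hRK hcR) (k := k) (by
      have h' := congrArg Subtype.val hk
      rw [coe_pow, OneMemClass.coe_one] at h'
      rw [show c = MulAut.conj g (g⁻¹ * c * g) by simp [mul_assoc], ← map_pow, h', map_one])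
    rw [hc, mul_inv_eq_one, mul_inv_eq_iff_eq_mul] at hc1
    calc y' * r = g⁻¹ * (y * b) * g := by rw [hy', hb]; group
      _ = g⁻¹ * (b * y) * g := by rw [hc1]
      _ = r * y' := by rw [hy', hb]; group
  obtain ⟨r, hr, hrN⟩ := C.noThird g hgN R
  refine hrN (C.fix h.zK h.z2 h.z1 ?_)
  have := hfix r hr
  rw [e] at this
  calc g * r * g⁻¹ * z = g * (r * (g⁻¹ * z * g)) * g⁻¹ := by group
    _ = g * (g⁻¹ * z * g * r) * g⁻¹ := by rw [this]
    _ = z * (g * r * g⁻¹) := by group

/-- A 2-group in `C(z)` normalises a cyclic group of order 4 of `K` above `z`. -/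
theorem exists_root {z : G} (hzK : z ∈ centralizer (A : Set G)) (hz2 : z * z = 1) (hz1 : z ≠ 1)
    {P : Subgroup G} (hP : IsPGroup 2 ↥P) (hPz : ∀ p ∈ P, p * z = z * p) :
    ∃ y ∈ centralizer (A : Set G), y * y = z ∧ ∀ p ∈ P, p * y * p⁻¹ = y ∨ p * y * p⁻¹ = y⁻¹ := by
  haveI : Fact (Nat.Prime 2) := ⟨Nat.prime_two⟩
  obtain ⟨R, hzR, -, hR⟩ := C.exists_sylow hzK hz2 hz1 hP hPz
  set Rm := (R : Subgroup ↥(centralizer (A : Set G))).map (centralizer (A : Set G)).subtype with hRm
  haveI := C.isCyclic_map R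
  -- a square root of `z` in the Sylow subgroup
  obtain ⟨w, hwK, hww⟩ := C.four z hzK hz2 hz1
  have hw4 : w ^ 2 ^ 2 = 1 := by rw [show 2 ^ 2 = 2 + 2 from rfl, pow_add, pow_two, hww, hz2]
  obtain ⟨R1, -, hR1, -⟩ := C.exists_sylow hzK hz2 hz1 (P := zpowers w) (isPGroup_zpowers hw4)
    (fun p hp => by
      obtain ⟨i, rfl⟩ := hp
      exact ((show Commute w z from by rw [← hww]; exact (Commute.refl w).mul_right (Commute.refl w)).zpow_left i).eq)
  obtain ⟨c, hc⟩ := MulAction.exists_smul_eq ↥(centralizer (A : Set G)) R1 R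
  obtain ⟨w', hw'R, hw'e⟩ := hR1 w (mem_zpowers w) hwK
  have hy : ((c * w' * c⁻¹ : ↥(centralizer (A : Set G))) : G) ∈ Rm := by
    refine ⟨c * w' * c⁻¹, ?_, rfl⟩
    rw [← hc, Sylow.coe_subgroup_smul]
    exact ⟨w', hw'R, rfl⟩
  set y := ((c * w' * c⁻¹ : ↥(centralizer (A : Set G))) : G) with hydef
  have hye : y = (c : G) * w * (c : G)⁻¹ := by
    rw [hydef, Subgroup.coe_mul, Subgroup.coe_mul, Subgroup.coe_inv]
    rw [show (w' : G) = w from hw'e]
  have hy2 : y * y = (c : G) * z * (c : G)⁻¹ := by rw [hye, ← hww]; group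
  have hzR' : y * y = z := by
    refine cyclic_involution (mul_mem hy hy) hzR ?_ hz2 ?_ hz1
    · rw [hy2, show (c : G) * z * (c : G)⁻¹ * ((c : G) * z * (c : G)⁻¹) = c * (z * z) * (c : G)⁻¹ by group, hz2]
      group
    · rw [hy2]; exact fun e => hz1 (conj_eq_one_iff.mp e)
  refine ⟨y, (c * w' * c⁻¹).2, hzR', fun p hp => ?_⟩
  set q := p * y * p⁻¹ with hq
  have hqR : q ∈ Rm := hR p hp y hy
  have hq2 : q * q = z := by
    rw [hq, show p * y * p⁻¹ * (p * y * p⁻¹) = p * (y * y) * p⁻¹ by group, hzR', hPz p hp, mul_inv_cancel_right]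
  haveI : IsMulCommutative ↥Rm := IsCyclic.isMulCommutative
  have hc' : q * y = y * q := congrArg Subtype.val (mul_comm' (⟨q, hqR⟩ : ↥Rm) ⟨y, hy⟩)
  have h2 : q * y * (q * y) = 1 := by
    calc q * y * (q * y) = q * (y * q) * y := by group
      _ = q * (q * y) * y := by rw [hc']
      _ = (q * q) * (y * y) := by group
      _ = 1 := by rw [hq2, hzR', hz2]
  by_cases h3 : q * y = 1
  · exact Or.inr (eq_inv_of_mul_eq_one_left h3)
  · left
    have h4 : q * y = z := cyclic_involution (mul_mem hqR hy) hzR h2 hz2 h3 hz1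
    rw [← hzR'] at h4
    exact mul_right_cancel h4

end Ctx

end CfsgLib.CyclicStandard
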