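import Mathlib
import Cfsg.Prelude.Def_TwoFusion
import Cfsg.Agent.Lib.Fusion.Alperin
import Cfsg.Agent.Lib.LocalFusion
import Cfsg.Agent.Lib.LocalFusionExtra
import Cfsg.Agent.Lib.WeakClosed.Reduce

/-!
If a strongly closed subgroup `Q` of a Sylow 2-subgroup `S` has one involution, then `C_S(Q)` is strongly closed.

Blueprint: `blueprint/S3148.md`, step 6.
-/

set_option autoImplicit false
set_option linter.unusedSectionVars false
set_option linter.style.haveILetI false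

namespace CfsgLib.CyclicStandard

open Subgroup Cfsg Cfsg.FusionSystem

variable {H : Type*} [Group H] [Finite H]

/-- A fully normalised subgroup has the Sylow subgroup of its normaliser in `S`. -/
theorem full_of_fullyNormalized {p : ℕ} [Fact p.Prime] (S : Sylow p H) {E : Subgroup H}
    (hn : (groupFusionSystem (S : Subgroup H)).IsFullyNormalized E) :
    ¬ p ∣ ((S : Subgroup H) ⊓ normalizer (E : Set H)).relIndex (normalizer (E : Set H)) := by
  obtain ⟨hES, hmax⟩ := hn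
  obtain ⟨y, -, hyle, hfull⟩ := CfsgLib.WeakClosed.exists_full_in (p := p) (H := ⊤) (T := (S : Subgroup H)) (U := E)
    le_top S.2 (by rw [relIndex_top_right]; exact S.not_dvd_index) hES
  set E' := CfsgLib.StrongFusion.cm y E with hE'
  have hE'S : E' ≤ (S : Subgroup H) :=
    (map_mono (le_inf hES le_normalizer)).trans hyle
  have hconj : (groupFusionSystem (S : Subgroup H)).IsConj E E' := by
    refine ⟨conjHom E y, conjHom_mem_groupFusionSystem hES fun x hx => hE'S ⟨x, hx, rfl⟩, ?_⟩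
    ext w
    constructor
    · rintro ⟨x, rfl⟩; exact ⟨x, x.2, rfl⟩
    · rintro ⟨x, hx, rfl⟩; exact ⟨⟨x, hx⟩, rfl⟩
  have h1 := hmax E' hconj
  set N := normalizer (E : Set H)
  set N' := normalizer (E' : Set H)
  have hNN' : Nat.card ↥N' = Nat.card ↥N := by
    have : N' = N.map (MulAut.conj y).toMonoidHom := by
      rw [map_equiv_normalizer_eq]
    rw [this, card_map_of_injective (MulEquiv.injective _)]
  have hcard : Nat.card ↥((S : Subgroup H) ⊓ N') ≤ Nat.card ↥((S : Subgroup H) ⊓ N) := h1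
  rw [top_inf_eq] at hfull
  intro hd
  have e1 := card_mul_index (((S : Subgroup H) ⊓ N).subgroupOf N)
  have e2 := card_mul_index (((S : Subgroup H) ⊓ N').subgroupOf N')
  rw [Nat.card_congr (subgroupOfEquivOfLe inf_le_right).toEquiv] at e1 e2
  rw [hNN'] at e2
  obtain ⟨k, hk⟩ := IsPGroup.iff_card.mp (S.2.to_le (inf_le_left : (S : Subgroup H) ⊓ N ≤ S))
  obtain ⟨k', hk'⟩ := IsPGroup.iff_card.mp (S.2.to_le (inf_le_left : (S : Subgroup H) ⊓ N' ≤ S))
  have hle : k' ≤ k := (Nat.pow_le_pow_iff_right (Fact.out : p.Prime).one_lt).mp (hk' ▸ hk ▸ hcard)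
  obtain ⟨l, hl⟩ := hd
  refine hfull ?_
  have h3 : p ^ (k + 1) * l = p ^ k' * (((S : Subgroup H) ⊓ N').subgroupOf N').index := by
    rw [← hk', e2, ← e1, hk, show (((S : Subgroup H) ⊓ N).subgroupOf N).index = p * l from hl, pow_succ, mul_assoc]
  have hd' : p ∣ (((S : Subgroup H) ⊓ N').subgroupOf N').index := by
    refine Nat.dvd_of_mul_dvd_mul_left (pow_pos (Fact.out : p.Prime).pos k') ?_
    rw [← h3, ← pow_succ]
    exact dvd_mul_of_dvd_left (pow_dvd_pow p (by omega)) l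
  exact hd'

/-- Alperin's theorem for membership in a set normalised by `S`. -/
theorem fusion_mem {p : ℕ} [Fact p.Prime] (S : Sylow p H) (M : Set H)
    (hS : ∀ s ∈ (S : Subgroup H), ∀ x ∈ (S : Subgroup H), x ∈ M → s * x * s⁻¹ ∈ M)
    (h : ∀ E : Subgroup H, E ≤ (S : Subgroup H) →
      ¬ p ∣ ((S : Subgroup H) ⊓ normalizer (E : Set H)).relIndex (normalizer (E : Set H)) →
      (∀ E' : Subgroup H, E' ≤ (S : Subgroup H) → Nat.card ↥E < Nat.card ↥E' → ∀ n ∈ normalizer (E' : Set H),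
        ∀ x ∈ E', x ∈ M → n * x * n⁻¹ ∈ M) →
      ∀ n ∈ normalizer (E : Set H), ∀ x ∈ E, x ∈ M → n * x * n⁻¹ ∈ M)
    {x g : H} (hx : x ∈ (S : Subgroup H)) (hg : g * x * g⁻¹ ∈ (S : Subgroup H)) (hxM : x ∈ M) :
    g * x * g⁻¹ ∈ M := by
  set F := groupFusionSystem (S : Subgroup H) with hF
  let E : FusionSystem (S : Subgroup H) :=
    { Hom := fun P => {φ | φ ∈ F.Hom P ∧ ∀ y : P, ((y : H) ∈ M ↔ φ y ∈ M)}
      le_of_mem := fun h => F.le_of_mem h.1
      injective_of_mem := fun h => F.injective_of_mem h.1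
      conj_mem := fun {P s} hP hs => ⟨F.conj_mem hP hs, fun y => ⟨hS s hs y (hP y.2), fun hy => by
        have h2 : s * (y : H) * s⁻¹ ∈ M := hy
        have h3 := hS s⁻¹ (inv_mem hs) _ (mul_mem (mul_mem hs (hP y.2)) (inv_mem hs)) h2
        simpa [mul_assoc] using h3⟩⟩
      comp_mem := fun {P Q φ ψ} hφ hψ h => ⟨F.comp_mem hφ.1 hψ.1 h, fun y =>
        (hφ.2 y).trans (hψ.2 ⟨φ y, h y⟩)⟩
      inv_mem := fun {P φ} hφ => by
        obtain ⟨ψ, hψ, hl⟩ := F.inv_mem hφ.1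
        refine ⟨ψ, ⟨hψ, ?_⟩, hl⟩
        rintro ⟨_, y, rfl⟩
        rw [hl]
        exact (hφ.2 y).symm }
  have key : F ≤ E := by
    refine (groupFusionSystem_isSaturated S).le_of_autGroup_le' S.2 E fun P hP hbig => ?_
    have hPS : P ≤ (S : Subgroup H) := by
      rcases hP with rfl | hP
      exacts [le_rfl, hP.2.1.1]
    have hn : F.IsFullyNormalized P := by
      rcases hP with rfl | hP
      exacts [isFullyNormalized_self, hP.2.1]
    have hbig' : ∀ E' : Subgroup H, E' ≤ (S : Subgroup H) → Nat.card ↥P < Nat.card ↥E' →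
        ∀ n ∈ normalizer (E' : Set H), ∀ x ∈ E', x ∈ M → n * x * n⁻¹ ∈ M := fun E' hE' hlt n hn x hx hxM =>
      ((hbig E' hlt (conjHom_mem_groupFusionSystem (g := n) hE' fun y hy =>
        hE' ((mem_normalizer_iff.mp hn y).mp hy))).2 ⟨x, hx⟩).mp hxM
    intro α hα
    refine (E.mem_autGroup_iff hPS).mpr ⟨(F.mem_autGroup_iff hPS).mp hα, ?_⟩
    rw [show F.autGroup P = _ from autGroup_groupFusionSystem hPS] at hα
    obtain ⟨s, -, hN, he⟩ := mem_autInducedBy_iff.mp hα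
    intro y
    show (y : H) ∈ M ↔ ((α y : P) : H) ∈ M
    rw [he]
    have hfull := full_of_fullyNormalized S hn
    refine ⟨h P hPS hfull hbig' s hN y y.2, fun hy => ?_⟩
    have h4 := h P hPS hfull hbig' s⁻¹ (inv_mem hN) _ ((mem_normalizer_iff.mp hN y).mp y.2) hy
    simpa [mul_assoc] using h4
  have hmap : conjHom (zpowers x) g ∈ F.Hom (zpowers x) := by
    refine conjHom_mem_groupFusionSystem (zpowers_le.mpr hx) ?_
    rintro _ ⟨n, rfl⟩
    show g * x ^ n * g⁻¹ ∈ (S : Subgroup H)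
    rw [← conj_zpow]
    exact zpow_mem hg n
  exact ((key _ hmap).2 ⟨x, mem_zpowers x⟩).mp hxM

/-- An element of odd order centralises an abelian 2-group with one involution which it normalises. -/
theorem odd_fix {W : Subgroup H} (hW : IsPGroup 2 ↥W) (hab : ∀ a ∈ W, ∀ b ∈ W, a * b = b * a)
    (hone : ∀ a ∈ W, ∀ b ∈ W, a * a = 1 → b * b = 1 → a ≠ 1 → b ≠ 1 → a = b) {g : H}
    (hg : ∀ w ∈ W, g * w * g⁻¹ ∈ W) (hodd : Odd (orderOf g)) {w : H} (hw : w ∈ W) : g * w * g⁻¹ = w := by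
  suffices key : ∀ (k : ℕ) (w : H), w ∈ W → w ^ 2 ^ k = 1 → g * w * g⁻¹ = w by
    obtain ⟨k, hk⟩ := hW ⟨w, hw⟩
    exact key k w hw (congrArg Subtype.val hk)
  intro k
  induction k with
  | zero => intro w _ h; rw [pow_zero, pow_one] at h; rw [h]; simp
  | succ k ih =>
    intro w hw hk
    have hsq := ih (w * w) (mul_mem hw hw) (by rw [← pow_two, ← pow_mul, ← pow_succ', hk])
    set f := g * w * g⁻¹ * w⁻¹ with hf
    have hfW : f ∈ W := mul_mem (hg w hw) (inv_mem hw)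
    have hf2 : f * f = 1 := by
      have hc : Commute (g * w * g⁻¹) w⁻¹ := hab _ (hg w hw) _ (inv_mem hw)
      calc f * f = g * w * g⁻¹ * (w⁻¹ * (g * w * g⁻¹)) * w⁻¹ := by rw [hf]; group
        _ = g * w * g⁻¹ * (g * w * g⁻¹ * w⁻¹) * w⁻¹ := by rw [hc.eq]
        _ = g * (w * w) * g⁻¹ * (w * w)⁻¹ := by group
        _ = 1 := by rw [hsq]; group
    have hgf : g * f * g⁻¹ = f := by
      by_cases h1 : f = 1
      · rw [h1]; simp
      refine hone _ (hg f hfW) _ hfW ?_ hf2 (fun e => h1 (conj_eq_one_iff.mp e)) h1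
      rw [show g * f * g⁻¹ * (g * f * g⁻¹) = g * (f * f) * g⁻¹ by group, hf2]; group
    have hpow : ∀ n : ℕ, g ^ n * w * (g ^ n)⁻¹ = f ^ n * w := by
      intro n
      induction n with
      | zero => simp
      | succ n ihn =>
        calc g ^ (n + 1) * w * (g ^ (n + 1))⁻¹ = g * (g ^ n * w * (g ^ n)⁻¹) * g⁻¹ := by rw [pow_succ']; group
          _ = g * f ^ n * g⁻¹ * (g * w * g⁻¹) := by rw [ihn]; group
          _ = f ^ n * (f * w) := by rw [← conj_pow, hgf, show g * w * g⁻¹ = f * w by rw [hf]; group]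
          _ = f ^ (n + 1) * w := by rw [pow_succ]; exact (mul_assoc _ _ _).symm
    have h2 := hpow (orderOf g)
    rw [pow_orderOf_eq_one, one_mul, inv_one, mul_one] at h2
    obtain ⟨q, hq⟩ := hodd
    rw [hq, pow_succ, pow_mul, pow_two, hf2, one_pow, one_mul] at h2
    rw [hf, inv_mul_cancel_right] at h2
    exact h2.symm

/-- **`C_S(Q)` is strongly closed.** -/
theorem centralizer_closed (S : Sylow 2 H) (Q : Subgroup H) (hQ : IsStronglyClosed Q (S : Subgroup H))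
    (hone : ∀ a ∈ Q, ∀ b ∈ Q, a * a = 1 → b * b = 1 → a ≠ 1 → b ≠ 1 → a = b) :
    IsStronglyClosed ((S : Subgroup H) ⊓ centralizer (Q : Set H)) (S : Subgroup H) := by
  haveI : Fact (Nat.Prime 2) := ⟨Nat.prime_two⟩
  obtain ⟨hQS, hQc⟩ := hQ
  have hQn : ∀ s ∈ (S : Subgroup H), ∀ x ∈ Q, s * x * s⁻¹ ∈ Q := fun s hs x hx =>
    hQc x hx s (mul_mem (mul_mem hs (hQS hx)) (inv_mem hs))
  refine ⟨inf_le_left, fun x hx g hg => mem_inf.mpr ⟨hg, ?_⟩⟩
  refine fusion_mem S (centralizer (Q : Set H) : Set H) (fun s hs x _ hx q hq => ?_) ?_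
    (mem_inf.mp hx).1 hg (mem_inf.mp hx).2
  · have h1 : s⁻¹ * q * s * x = x * (s⁻¹ * q * s) :=
      hx _ (by simpa using hQn s⁻¹ (inv_mem hs) q hq)
    calc q * (s * x * s⁻¹) = s * (s⁻¹ * q * s * x) * s⁻¹ := by group
      _ = s * (x * (s⁻¹ * q * s)) * s⁻¹ := by rw [h1]
      _ = s * x * s⁻¹ * q := by group
  intro E hES hfull hbig n hn x hxE hxM q hq
  by_cases hQE : Q ≤ E
  · have hq' : n⁻¹ * q * n ∈ Q := by
      have := hQc q hq n⁻¹ (hES (by simpa using (mem_normalizer_iff.mp (inv_mem hn) q).mp (hQE hq)))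
      simpa using this
    have h1 : n⁻¹ * q * n * x = x * (n⁻¹ * q * n) := hxM _ hq'
    calc q * (n * x * n⁻¹) = n * (n⁻¹ * q * n * x) * n⁻¹ := by group
      _ = n * (x * (n⁻¹ * q * n)) * n⁻¹ := by rw [h1]
      _ = n * x * n⁻¹ * q := by group
  revert q
  show n * x * n⁻¹ ∈ centralizer (Q : Set H)
  set NE := normalizer (E : Set H) with hNE
  set D := E ⊓ Q with hD
  have hDn : ∀ m ∈ NE, ∀ e ∈ D, m * e * m⁻¹ ∈ D := fun m hm e he => by
    have h1 := (mem_normalizer_iff.mp hm e).mp (mem_inf.mp he).1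
    exact mem_inf.mpr ⟨h1, hQc e (mem_inf.mp he).2 m (hES h1)⟩
  -- the elements centralising `E / D`
  let L : Subgroup H :=
    { carrier := {m | m ∈ NE ∧ ∀ e ∈ E, m * e * m⁻¹ * e⁻¹ ∈ D}
      one_mem' := ⟨one_mem _, fun e _ => by simp⟩
      mul_mem' := by
        rintro a b ⟨ha, ha'⟩ ⟨hb, hb'⟩
        refine ⟨mul_mem ha hb, fun e he => ?_⟩
        rw [show a * b * e * (a * b)⁻¹ * e⁻¹ = a * (b * e * b⁻¹ * e⁻¹) * a⁻¹ * (a * e * a⁻¹ * e⁻¹) by group]
        exact mul_mem (hDn a ha _ (hb' e he)) (ha' e he)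
      inv_mem' := by
        rintro a ⟨ha, ha'⟩
        refine ⟨inv_mem ha, fun e he => ?_⟩
        have h1 := ha' (a⁻¹ * e * a⁻¹⁻¹) ((mem_normalizer_iff.mp (inv_mem ha) e).mp he)
        rw [show a * (a⁻¹ * e * a⁻¹⁻¹) * a⁻¹ * (a⁻¹ * e * a⁻¹⁻¹)⁻¹ = (a⁻¹ * e * a⁻¹⁻¹ * e⁻¹)⁻¹ by group] at h1
        exact inv_mem_iff.mp h1 }
  have hLN : L ≤ NE := fun m hm => hm.1
  have hLn : NE ≤ normalizer (L : Set H) := by
    have key : ∀ a ∈ NE, ∀ m ∈ L, a * m * a⁻¹ ∈ L := fun a ha m hm => by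
      refine ⟨mul_mem (mul_mem ha (hLN hm)) (inv_mem ha), fun e he => ?_⟩
      rw [show a * m * a⁻¹ * e * (a * m * a⁻¹)⁻¹ * e⁻¹ =
        a * (m * (a⁻¹ * e * a⁻¹⁻¹) * m⁻¹ * (a⁻¹ * e * a⁻¹⁻¹)⁻¹) * a⁻¹ by group]
      exact hDn a ha _ (hm.2 _ ((mem_normalizer_iff.mp (inv_mem ha) e).mp he))
    exact fun a ha => mem_normalizer_iff.mpr fun m => ⟨key a ha m, fun h => by
      simpa [mul_assoc] using key a⁻¹ (inv_mem ha) _ h⟩
  set L' := E ⊔ L with hL'
  have hEN : E ≤ NE := le_normalizer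
  have hL'N : L' ≤ NE := sup_le hEN hLN
  haveI : (L'.subgroupOf NE).Normal := by
    refine (normal_subgroupOf_iff_le_normalizer hL'N).mpr fun a ha => mem_normalizer_iff.mpr fun w => ?_
    have key : ∀ a ∈ NE, L'.map (MulAut.conj a).toMonoidHom ≤ L' := fun a ha => by
      rw [hL', Subgroup.map_sup]
      refine sup_le ?_ ?_
      · rintro _ ⟨e, he, rfl⟩; exact mem_sup_left ((mem_normalizer_iff.mp ha e).mp he)
      · rintro _ ⟨e, he, rfl⟩; exact mem_sup_right ((mem_normalizer_iff.mp (hLn ha) e).mp he)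
    refine ⟨fun hw => key a ha ⟨w, hw, rfl⟩, fun hw => ?_⟩
    have h1 : a⁻¹ * (a * w * a⁻¹) * a⁻¹⁻¹ ∈ L' := key a⁻¹ (inv_mem ha) ⟨_, hw, rfl⟩
    simpa [mul_assoc] using h1
  -- an element of `Q` normalising `E`
  obtain ⟨g0, hg0, hg0N, hg0E⟩ : ∃ g0, g0 ∈ Q ∧ g0 ∈ NE ∧ g0 ∉ E := by
    have hEQ : E < E ⊔ Q := lt_of_le_of_ne le_sup_left fun e => hQE (e.symm ▸ le_sup_right)
    have hp : IsPGroup 2 ↥(E ⊔ Q) := S.2.to_le (sup_le hES hQS)
    obtain ⟨w, hw, hwE⟩ := SetLike.exists_of_lt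
      (CfsgLib.WeakClosed.lt_inf_normalizer' hp le_sup_left hEQ.ne)
    obtain ⟨hwS, hwN⟩ := mem_inf.mp hw
    rw [sup_comm] at hwS
    obtain ⟨q, hq, e, he, rfl⟩ := CfsgLib.mem_sup_of_le_normalizer
      (show E ≤ normalizer (Q : Set H) from fun e he => mem_normalizer_iff.mpr fun q => ⟨hQn e (hES he) q,
        fun h => by simpa [mul_assoc] using hQn e⁻¹ (inv_mem (hES he)) _ h⟩) hwS
    exact ⟨q, hq, by simpa [mul_assoc] using mul_mem hwN (inv_mem (hEN he)), fun h => hwE (mul_mem h he)⟩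
  have hg0L : g0 ∈ L := ⟨hg0N, fun e he => mem_inf.mpr
    ⟨mul_mem ((mem_normalizer_iff.mp hg0N e).mp he) (inv_mem he), by
      rw [show g0 * e * g0⁻¹ * e⁻¹ = g0 * (e * g0⁻¹ * e⁻¹) by group]
      exact mul_mem hg0 (hQn e (hES he) _ (inv_mem hg0))⟩⟩
  let S1 : Sylow 2 ↥NE := ((S.2.to_le inf_le_left).of_equiv
    (subgroupOfEquivOfLe (inf_le_right : (S : Subgroup H) ⊓ NE ≤ NE)).symm).toSylow hfull
  let K := L'.subgroupOf NE
  let TK : Sylow 2 ↥K := CfsgLib.sylowInfNormal S1 K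
  have hTK : ∀ w : ↥K, w ∈ (TK : Subgroup ↥K) ↔ ((w : ↥NE) : H) ∈ (S : Subgroup H) := fun w =>
    ⟨fun h => (mem_inf.mp h).1, fun h => mem_inf.mpr ⟨h, (w : ↥NE).2⟩⟩
  -- `L'` fixes `E ∩ C(Q)`
  have hMS : ∀ m ∈ (S : Subgroup H), ∀ v ∈ centralizer (Q : Set H), m * v * m⁻¹ ∈ centralizer (Q : Set H) :=
    fun m hm v hv q hq => by
      have h1 : m⁻¹ * q * m * v = v * (m⁻¹ * q * m) := hv _ (by simpa using hQn m⁻¹ (inv_mem hm) q hq)
      calc q * (m * v * m⁻¹) = m * (m⁻¹ * q * m * v) * m⁻¹ := by group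
        _ = m * (v * (m⁻¹ * q * m)) * m⁻¹ := by rw [h1]
        _ = m * v * m⁻¹ * q := by group
  have hoddL : ∀ o ∈ L', Odd (orderOf o) → o ∈ L := by
    intro o ho hoo
    rw [hL', sup_comm] at ho
    obtain ⟨l1, hl1, e, he, rfl⟩ := CfsgLib.mem_sup_of_le_normalizer (hEN.trans hLn) ho
    have hpow : ∀ k : ℕ, (l1 * e) ^ k * (e ^ k)⁻¹ ∈ L := by
      intro k
      induction k with
      | zero => simp
      | succ k ihk =>
        have h1 := (mem_normalizer_iff.mp (hLn (pow_mem (hEN he) k)) l1).mp hl1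
        have e1 : (l1 * e) ^ (k + 1) * (e ^ (k + 1))⁻¹ =
            (l1 * e) ^ k * (e ^ k)⁻¹ * (e ^ k * l1 * (e ^ k)⁻¹) := by
          rw [pow_succ, pow_succ]; group
        rw [e1]
        exact mul_mem ihk h1
    obtain ⟨k, hk⟩ := (S.2.to_le hES) ⟨e, he⟩
    have h2 := hpow (2 ^ k)
    rw [show e ^ 2 ^ k = 1 from congrArg Subtype.val hk, inv_one, mul_one] at h2
    exact CfsgLib.LocalFusion.mem_of_pow_two hoo h2
  have hfix : ∀ o ∈ L', Odd (orderOf o) → ∀ v ∈ E, v ∈ centralizer (Q : Set H) → o * v * o⁻¹ = v := by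
    intro o ho hoo v hvE hvQ
    obtain ⟨hoN, hoL⟩ := hoddL o ho hoo
    let W : Subgroup H := D ⊓ centralizer (D : Set H)
    have hW : ∀ w ∈ W, o * w * o⁻¹ ∈ W := fun w hw => mem_inf.mpr ⟨hDn o hoN w (mem_inf.mp hw).1, fun d hd => by
      have h1 : o⁻¹ * d * o * w = w * (o⁻¹ * d * o) :=
        (mem_inf.mp hw).2 _ (by simpa using hDn o⁻¹ (inv_mem hoN) d hd)
      calc d * (o * w * o⁻¹) = o * (o⁻¹ * d * o * w) * o⁻¹ := by group
        _ = o * (w * (o⁻¹ * d * o)) * o⁻¹ := by rw [h1]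
        _ = o * w * o⁻¹ * d := by group⟩
    have hWfix : ∀ w ∈ W, o * w * o⁻¹ = w := fun w hw => odd_fix (W := W)
      (S.2.to_le ((inf_le_left.trans inf_le_left).trans hES))
      (fun a ha b hb => (mem_inf.mp hb).2 a (mem_inf.mp ha).1)
      (fun a ha b hb => hone a (mem_inf.mp (mem_inf.mp ha).1).2 b (mem_inf.mp (mem_inf.mp hb).1).2) hW hoo hw
    set f := o * v * o⁻¹ * v⁻¹ with hf
    have hvD : ∀ d ∈ D, d * v = v * d := fun d hd => hvQ d (mem_inf.mp hd).2
    have hfW : f ∈ W := mem_inf.mpr ⟨hoL v hvE, fun d hd => by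
      have h1 : o⁻¹ * d * o * v = v * (o⁻¹ * d * o) := hvD _ (by simpa using hDn o⁻¹ (inv_mem hoN) d hd)
      have h2 : d * (o * v * o⁻¹) = o * v * o⁻¹ * d := by
        calc d * (o * v * o⁻¹) = o * (o⁻¹ * d * o * v) * o⁻¹ := by group
          _ = o * (v * (o⁻¹ * d * o)) * o⁻¹ := by rw [h1]
          _ = o * v * o⁻¹ * d := by group
      exact ((show Commute d (o * v * o⁻¹) from h2).mul_right (show Commute d v from hvD d hd).inv_right).eq⟩
    have hpow : ∀ k : ℕ, o ^ k * v * (o ^ k)⁻¹ = f ^ k * v := by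
      intro k
      induction k with
      | zero => simp
      | succ k ihk =>
        calc o ^ (k + 1) * v * (o ^ (k + 1))⁻¹ = o * (o ^ k * v * (o ^ k)⁻¹) * o⁻¹ := by rw [pow_succ']; group
          _ = o * f ^ k * o⁻¹ * (o * v * o⁻¹) := by rw [ihk]; group
          _ = f ^ k * (f * v) := by rw [← conj_pow, hWfix f hfW, show o * v * o⁻¹ = f * v by rw [hf]; group]
          _ = f ^ (k + 1) * v := by rw [pow_succ]; exact (mul_assoc _ _ _).symm
    have h2 := hpow (orderOf o)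
    rw [pow_orderOf_eq_one, one_mul, inv_one, mul_one] at h2
    have hf1 : f = 1 := by
      have hd1 : orderOf f ∣ orderOf o := orderOf_dvd_of_pow_eq_one (mul_eq_right.mp h2.symm)
      obtain ⟨k, hk⟩ := (S.2.to_le hES) ⟨f, (mem_inf.mp (mem_inf.mp hfW).1).1⟩
      exact orderOf_eq_one_iff.mp (Nat.eq_one_of_dvd_coprimes ((Nat.coprime_two_right.mpr hoo).pow_right k) hd1
        (orderOf_dvd_of_pow_eq_one (congrArg Subtype.val hk)))
    exact mul_inv_eq_one.mp hf1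
  have hall : ∀ w : ↥K, ∀ v ∈ E, v ∈ centralizer (Q : Set H) →
      ((w : ↥NE) : H) * v * ((w : ↥NE) : H)⁻¹ ∈ centralizer (Q : Set H) ∧
        ((w : ↥NE) : H)⁻¹ * v * ((w : ↥NE) : H) ∈ centralizer (Q : Set H) := by
    set X : Subgroup ↥K := closure {o | Odd (orderOf o)} with hX
    haveI : X.Normal := by
      refine ⟨fun o ho w => ?_⟩
      have h1 : closure {o : ↥K | Odd (orderOf o)} ≤ X.comap (MulAut.conj w).toMonoidHom := by
        rw [closure_le]
        intro o ho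
        refine subset_closure ?_
        show Odd (orderOf (MulAut.conj w o))
        rw [MulEquiv.orderOf_eq]
        exact ho
      exact h1 ho
    have htop : (TK : Subgroup ↥K) ⊔ X = ⊤ := by
      have hq : IsPGroup 2 (↥K ⧸ X) := fun w => by
        obtain ⟨w, rfl⟩ := QuotientGroup.mk'_surjective X w
        obtain ⟨a, m, hm, hwo⟩ := Nat.exists_eq_two_pow_mul_odd (n := orderOf w) (orderOf_pos w).ne'
        refine ⟨a, ?_⟩
        rw [← map_pow]
        refine (QuotientGroup.eq_one_iff _).mpr (subset_closure ?_)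
        show Odd (orderOf (w ^ 2 ^ a))
        rw [orderOf_pow' _ (pow_ne_zero a two_ne_zero), hwo, Nat.gcd_eq_right (dvd_mul_right _ _),
          Nat.mul_div_cancel_left _ (pow_pos two_pos a)]
        exact hm
      let T' := TK.mapSurjective (QuotientGroup.mk'_surjective X)
      have h1 : ((⊤ : Subgroup (↥K ⧸ X))) = (T' : Subgroup (↥K ⧸ X)) :=
        T'.3 (hq.to_subgroup ⊤) le_top
      refine eq_top_iff.mpr fun w _ => ?_
      obtain ⟨u, hu, e⟩ : (QuotientGroup.mk' X w) ∈ (T' : Subgroup (↥K ⧸ X)) := h1 ▸ mem_top _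
      rw [show w = u * (u⁻¹ * w) by group]
      exact mul_mem_sup hu ((QuotientGroup.eq_one_iff _).mp (by
        show QuotientGroup.mk' X (u⁻¹ * w) = 1
        rw [map_mul, map_inv, e, inv_mul_cancel]))
    intro w
    have hw : w ∈ closure (((TK : Subgroup ↥K) : Set ↥K) ∪ {o | Odd (orderOf o)}) := by
      rw [Subgroup.closure_union, Subgroup.closure_eq]
      exact htop ▸ mem_top w
    induction hw using closure_induction with
    | mem u hu =>
      rcases hu with hu | hu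
      · intro v _ hv
        exact ⟨hMS _ ((hTK u).mp hu) v hv, by simpa using hMS _ (inv_mem ((hTK u).mp hu)) v hv⟩
      · intro v hvE hv
        have ho : Odd (orderOf ((u : ↥NE) : H)) := by rw [Subgroup.orderOf_coe, Subgroup.orderOf_coe]; exact hu
        have hu2 : ((u : ↥NE) : H) ∈ L' := u.2
        refine ⟨by rw [hfix _ hu2 ho v hvE hv]; exact hv, ?_⟩
        have := hfix _ (inv_mem hu2) (by rw [orderOf_inv]; exact ho) v hvE hv
        rw [inv_inv] at this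
        rw [this]; exact hv
    | one => intro v _ hv; simpa using hv
    | mul u u' _ _ hu hu' =>
      intro v hvE hv
      constructor
      · have h1 := (hu _ ((mem_normalizer_iff.mp (u' : ↥NE).2 v).mp hvE) (hu' v hvE hv).1).1
        simpa [mul_assoc] using h1
      · have h1 := (hu' _ ((mem_normalizer_iff''.mp (u : ↥NE).2 v).mp hvE) (hu v hvE hv).2).2
        simpa [mul_assoc] using h1
    | inv u _ hu =>
      intro v hvE hv
      exact ⟨by simpa using (hu v hvE hv).2, by simpa using (hu v hvE hv).1⟩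
  -- Frattini
  obtain ⟨b, hb, l, hl, he⟩ := Subgroup.mem_sup_of_normal_right.mp
    ((Sylow.normalizer_sup_eq_top TK).symm ▸ mem_top (⟨n, hn⟩ : ↥NE) :
      (⟨n, hn⟩ : ↥NE) ∈ normalizer ((TK : Subgroup ↥K).map K.subtype : Set ↥NE) ⊔ K)
  have he' : (b : H) * l = n := congrArg Subtype.val he
  set TL := (S : Subgroup H) ⊓ L' with hTL
  have hbTL : (b : H) ∈ normalizer (TL : Set H) := by
    have key : ∀ u : ↥NE, u ∈ (TK : Subgroup ↥K).map K.subtype ↔ (u : H) ∈ TL := fun u => by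
      constructor
      · rintro ⟨u, hu, rfl⟩; exact mem_inf.mpr ⟨(hTK u).mp hu, u.2⟩
      · intro hu; exact ⟨⟨u, (mem_inf.mp hu).2⟩, (hTK _).mpr (mem_inf.mp hu).1, rfl⟩
    refine mem_normalizer_iff.mpr fun u => ⟨fun hu => ?_, fun hu => ?_⟩
    · exact (key (b * ⟨u, hL'N (mem_inf.mp hu).2⟩ * b⁻¹)).mp
        ((mem_normalizer_iff.mp hb _).mp ((key ⟨u, hL'N (mem_inf.mp hu).2⟩).mpr hu))
    · have h1 : u ∈ NE := by
        simpa [mul_assoc] using mul_mem (mul_mem (inv_mem b.2) (hL'N (mem_inf.mp hu).2)) b.2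
      exact (key ⟨u, h1⟩).mp ((mem_normalizer_iff.mp hb _).mpr ((key (b * ⟨u, h1⟩ * b⁻¹)).mpr hu))
  have hlt : Nat.card ↥E < Nat.card ↥TL := Set.ncard_lt_ncard (s := (E : Set H)) (t := (TL : Set H))
    ⟨fun e he => mem_inf.mpr ⟨hES he, mem_sup_left he⟩, fun h => hg0E (h (mem_inf.mpr
      ⟨hQS hg0, mem_sup_right hg0L⟩))⟩ (Set.toFinite _)
  have h1 := hbig TL inf_le_left hlt (b : H) hbTL ((l : H) * x * (l : H)⁻¹)
    (mem_inf.mpr ⟨hES ((mem_normalizer_iff.mp l.2 x).mp hxE), mem_sup_left ((mem_normalizer_iff.mp l.2 x).mp hxE)⟩)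
    (hall ⟨l, hl⟩ x hxE hxM).1
  rw [← he']
  simpa [mul_assoc] using h1

end CfsgLib.CyclicStandard
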