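import Mathlib
import Cfsg.Agent.Lib.WeakClosed.Reduce

/-!
A 2-group generated by a normal set of involutions, each commuting with one other only and with no root of `z` in its
centralizer, is dihedral.

Blueprint: `blueprint/S3148.md`, step 4.
-/

set_option autoImplicit false
set_option linter.unusedSectionVars false
set_option linter.style.haveILetI false

namespace CfsgLib.CyclicStandard

open Subgroup

variable {G : Type*} [Group G] [Finite G]

theorem exists_bezout {a : ℤ} (ha : Odd a) (m : ℕ) : ∃ u v : ℤ, u * a + v * 2 ^ m = 1 := by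
  have h : IsCoprime a (2 : ℤ) := by
    obtain ⟨j, rfl⟩ := ha
    exact ⟨1, -j, by ring⟩
  obtain ⟨u, v, huv⟩ := h.pow_right (n := m)
  exact ⟨u, v, huv⟩

theorem refl_zpow {t r : G} (htr : t * r * t⁻¹ = r⁻¹) (x : ℤ) : t * r ^ x * t⁻¹ = r ^ (-x) := by
  rw [← conj_zpow, htr, inv_zpow']

theorem zpow_refl {t r : G} (htr : t * r * t⁻¹ = r⁻¹) (x : ℤ) : r ^ x * t = t * r ^ (-x) := by
  have h := refl_zpow htr (-x)
  rw [neg_neg] at h
  exact (mul_inv_eq_iff_eq_mul.mp h).symm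

theorem exists_dihedral {P : Subgroup G} (hP : IsPGroup 2 ↥P) {z : G} (hz2 : z * z = 1) {Ω : Set G}
    (hΩP : ∀ u ∈ Ω, u ∈ P) (h2 : ∀ u ∈ Ω, u * u = 1) (h1 : (1 : G) ∉ Ω)
    (hconj : ∀ u ∈ Ω, ∀ w ∈ Ω, w * u * w⁻¹ ∈ Ω)
    (mates : ∀ u ∈ Ω, ∀ v ∈ Ω, v * u = u * v → v = u ∨ v = u * z)
    (nosq : ∀ u ∈ Ω, ∀ r ∈ P, r * u = u * r → r * r ≠ z) {t : G} (ht : t ∈ Ω) :
    ∃ r ∈ P, t * r * t⁻¹ = r⁻¹ ∧ (∀ x : ℤ, t * r ^ x ∈ Ω) ∧ ∀ u ∈ Ω, ∃ x : ℤ, u = t * r ^ x := by
  classical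
  haveI : Fact (Nat.Prime 2) := ⟨Nat.prime_two⟩
  obtain ⟨v, ⟨hv, -⟩, hmax⟩ := Set.Finite.exists_maximalFor (fun v => orderOf (t * v)) {v | v ∈ Ω ∧ True}
    (Set.toFinite _) ⟨t, ht, trivial⟩
  have hinv : ∀ u ∈ Ω, u⁻¹ = u := fun u hu => inv_eq_of_mul_eq_one_right (h2 u hu)
  set r := t * v with hr
  have hrP : r ∈ P := mul_mem (hΩP t ht) (hΩP v hv)
  have htr : t * r * t⁻¹ = r⁻¹ := by
    rw [hr, ← mul_assoc t t v, h2 t ht, one_mul, mul_inv_rev, hinv t ht, hinv v hv]
  have htinv : t⁻¹ = t := hinv t ht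
  have hvr : t * r = v := by rw [hr, ← mul_assoc, h2 t ht, one_mul]
  have hWΩ : ∀ w ∈ closure Ω, ∀ u ∈ Ω, w * u * w⁻¹ ∈ Ω := by
    intro w hw
    induction hw using closure_induction with
    | mem w hw => exact fun u hu => hconj u hu w hw
    | one => intro u hu; simpa using hu
    | mul a b _ _ iha ihb => intro u hu; simpa [mul_assoc] using iha _ (ihb u hu)
    | inv a _ iha =>
      intro u hu
      have hinj : Set.InjOn (fun u => a * u * a⁻¹) Ω := fun x _ y _ e => mul_left_cancel (mul_right_cancel e)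
      have himg : (fun u => a * u * a⁻¹) '' Ω = Ω := Set.eq_of_subset_of_ncard_le (Set.image_subset_iff.mpr iha)
        (Set.ncard_image_of_injOn hinj).ge (Set.toFinite _)
      obtain ⟨w, hw, e⟩ := himg.ge hu
      rw [← e]
      simpa [mul_assoc] using hw
  have hrW : r ∈ closure Ω := mul_mem (subset_closure ht) (subset_closure hv)
  have hall : ∀ x : ℤ, t * r ^ x ∈ Ω := by
    intro x
    obtain ⟨i, rfl | rfl⟩ := x.even_or_odd'
    · have e : r ^ (-i) * t * (r ^ (-i))⁻¹ = t * r ^ (2 * i) := by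
        rw [zpow_refl htr, neg_neg, ← zpow_neg, neg_neg, mul_assoc, ← zpow_add, two_mul]
      exact e ▸ hWΩ _ (zpow_mem hrW _) t ht
    · have e : r ^ (-i) * (t * r) * (r ^ (-i))⁻¹ = t * r ^ (2 * i + 1) := by
        rw [← mul_assoc, zpow_refl htr, neg_neg, ← zpow_neg, neg_neg, mul_assoc, mul_assoc, ← zpow_one_add,
          ← zpow_add]
        congr 2
        ring
      exact e ▸ hWΩ _ (zpow_mem hrW _) _ (hvr ▸ hv)
  refine ⟨r, hrP, htr, hall, ?_⟩
  have hmem : ∀ u ∈ Ω, ∀ x : ℤ, u ≠ r ^ x := by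
    intro u hu x e
    have hru : ∀ y : ℤ, r ^ y * u = u * r ^ y := fun y => by rw [e, ← zpow_add, ← zpow_add, add_comm]
    have hut : u * t = t * u := by
      have h3 : u⁻¹ = u := hinv u hu
      have h4 := refl_zpow htr x
      rw [zpow_neg, ← e, h3] at h4
      exact (mul_inv_eq_iff_eq_mul.mp h4).symm
    have huv : u * (t * r) = t * r * u := by
      rw [← mul_assoc, hut, mul_assoc, mul_assoc]
      have := hru 1
      rw [zpow_one] at this
      rw [this]
    have htur : ¬ u = t := by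
      intro e2
      have h5 : r * r = 1 := by
        have h6 := refl_zpow htr 1
        have h7 := hru 1
        rw [zpow_one, e2] at h7
        rw [zpow_one, ← h7, mul_inv_cancel_right, zpow_neg, zpow_one] at h6
        calc r * r = r * r⁻¹ := by nth_rw 2 [h6]
          _ = 1 := mul_inv_cancel r
      obtain ⟨i, rfl | rfl⟩ := x.even_or_odd'
      · rw [zpow_mul, zpow_two, h5, one_zpow] at e
        exact h1 (e ▸ hu)
      · rw [zpow_add, zpow_mul, zpow_two, h5, one_zpow, one_mul, zpow_one, e2] at e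
        rw [← e] at hvr
        exact h1 (by rw [← h2 t ht, hvr]; exact hv)
    rcases mates t ht u hu hut with e1 | e1
    · exact htur e1
    rcases mates _ (hvr ▸ hv) u hu huv with e3 | e3
    · have hut' : z = r := by rw [e3] at e1; exact (mul_left_cancel e1).symm
      have : t * r = r ^ x := e3.symm.trans e
      have ht' : t = r ^ (x - 1) := by rw [zpow_sub_one, ← this, mul_inv_cancel_right]
      have h8 : t * r = r * t := by
        conv_lhs => rw [ht']
        conv_rhs => rw [ht']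
        rw [← zpow_add_one, ← zpow_one_add, add_comm]
      have h9 : r⁻¹ = r := by rw [← htr, h8, mul_inv_cancel_right]
      have h5 : r * r = 1 := by nth_rw 1 [← h9]; exact inv_mul_cancel r
      obtain ⟨i, e5 | e5⟩ := (x - 1).even_or_odd'
      · rw [e5, zpow_mul, zpow_two, h5, one_zpow] at ht'
        exact h1 (ht' ▸ ht)
      · rw [e5, zpow_add, zpow_mul, zpow_two, h5, one_zpow, one_mul, zpow_one] at ht'
        rw [← ht', h2 t ht] at hvr
        exact h1 (hvr ▸ hv)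
    · rw [e1, mul_assoc] at e3
      have h3 : r = 1 := by
        have := mul_left_cancel e3
        exact mul_eq_right.mp this.symm
      rw [h3, one_zpow] at e
      exact h1 (e ▸ hu)
  -- `D`, and an element of `Ω` normalising it
  let D : Subgroup G :=
    { carrier := {g | ∃ x : ℤ, g = r ^ x ∨ g = t * r ^ x}
      one_mem' := ⟨0, Or.inl (zpow_zero r).symm⟩
      mul_mem' := by
        rintro a b ⟨x, rfl | rfl⟩ ⟨y, rfl | rfl⟩
        · exact ⟨x + y, Or.inl (zpow_add r x y).symm⟩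
        · exact ⟨-x + y, Or.inr (by rw [← mul_assoc, zpow_refl htr, mul_assoc, zpow_add])⟩
        · exact ⟨x + y, Or.inr (by rw [mul_assoc, zpow_add])⟩
        · refine ⟨-x + y, Or.inl ?_⟩
          rw [mul_assoc, ← mul_assoc (r ^ x), zpow_refl htr, mul_assoc t (r ^ (-x)), ← mul_assoc t t, h2 t ht, one_mul,
            zpow_add]
      inv_mem' := by
        rintro a ⟨x, rfl | rfl⟩
        · exact ⟨-x, Or.inl (zpow_neg r x).symm⟩
        · exact ⟨x, Or.inr (by rw [mul_inv_rev, htinv, ← zpow_neg, zpow_refl htr, neg_neg])⟩ }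
  by_contra hsub
  push Not at hsub
  obtain ⟨u0, hu0, hu0D⟩ := hsub
  have hu0D' : u0 ∉ D := by
    rintro ⟨x, e | e⟩
    exacts [hmem u0 hu0 x e, hu0D x e]
  obtain ⟨w, hwΩ, hwD, hwn⟩ : ∃ w ∈ Ω, w ∉ D ∧ ∀ g ∈ D, w * g * w⁻¹ ∈ D := by
    set W := closure Ω with hW
    set N := W ⊓ normalizer (D : Set G) with hN
    by_cases hNW : N = W
    · have : u0 ∈ normalizer (D : Set G) := (mem_inf.mp (hNW.ge (subset_closure hu0))).2
      exact ⟨u0, hu0, hu0D', fun g hg => (mem_normalizer_iff.mp this g).mp hg⟩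
    have hWp : IsPGroup 2 ↥W := hP.to_le ((closure_le P).mpr hΩP)
    have hlt := CfsgLib.WeakClosed.lt_inf_normalizer' hWp (inf_le_left : N ≤ W) hNW
    obtain ⟨m, hm, hmN⟩ := SetLike.exists_of_lt hlt
    have hmW := (mem_inf.mp hm).1
    have hDW : D ≤ W := by
      rintro g ⟨x, rfl | rfl⟩
      exacts [zpow_mem hrW x, mul_mem (subset_closure ht) (zpow_mem hrW x)]
    have hin : ∀ g ∈ D, ∀ h ∈ D, (m * g * m⁻¹) * h * (m * g * m⁻¹)⁻¹ ∈ D := by
      intro g hg h hh
      have h3 : m * g * m⁻¹ ∈ N := (mem_normalizer_iff.mp (mem_inf.mp hm).2 g).mp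
        (mem_inf.mpr ⟨hDW hg, le_normalizer hg⟩)
      exact (mem_normalizer_iff.mp (mem_inf.mp h3).2 h).mp hh
    by_cases hc : m * t * m⁻¹ ∈ D ∧ m * (t * r) * m⁻¹ ∈ D
    · exfalso
      refine hmN (mem_inf.mpr ⟨hmW, ?_⟩)
      have hr' : m * r * m⁻¹ ∈ D := by
        have h4 := mul_mem hc.1 hc.2
        rwa [show m * t * m⁻¹ * (m * (t * r) * m⁻¹) = m * (t * t * r) * m⁻¹ by group, h2 t ht, one_mul] at h4
      have hle : D.map (MulAut.conj m).toMonoidHom ≤ D := by
        rintro _ ⟨g, ⟨x, rfl | rfl⟩, rfl⟩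
        · show m * r ^ x * m⁻¹ ∈ D
          rw [← conj_zpow]; exact zpow_mem hr' x
        · show m * (t * r ^ x) * m⁻¹ ∈ D
          rw [show m * (t * r ^ x) * m⁻¹ = m * t * m⁻¹ * (m * r ^ x * m⁻¹) by group, ← conj_zpow]
          exact mul_mem hc.1 (zpow_mem hr' x)
      have heq := eq_of_le_of_card_ge hle (card_map_of_injective (MulEquiv.injective _)).ge
      refine mem_normalizer_iff.mpr fun g => ⟨fun hg => hle ⟨g, hg, rfl⟩, fun hg => ?_⟩
      obtain ⟨g', hg', e⟩ := heq.ge hg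
      replace e : m * g' * m⁻¹ = m * g * m⁻¹ := e
      rwa [← mul_left_cancel (mul_right_cancel e)]
    · rcases not_and_or.mp hc with h3 | h3
      · exact ⟨_, hWΩ m hmW t ht, h3, hin t ⟨0, Or.inr (by simp)⟩⟩
      · exact ⟨_, hWΩ m hmW _ (hvr ▸ hv), h3, hin _ ⟨1, Or.inr (by simp)⟩⟩
  have hwinv : w⁻¹ = w := hinv w hwΩ
  have hrefl : ∀ x : ℤ, ∃ y : ℤ, w * (t * r ^ x) * w⁻¹ = t * r ^ y := by
    intro x
    obtain ⟨y, e | e⟩ := hwn _ ⟨x, Or.inr rfl⟩
    · exact absurd e (hmem _ (hconj _ (hall x) w hwΩ) y)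
    · exact ⟨y, e⟩
  obtain ⟨j, hj⟩ := hrefl 0
  rw [zpow_zero, mul_one] at hj
  obtain ⟨l, hl⟩ := hrefl 1
  rw [zpow_one] at hl
  have hwr : w * r * w⁻¹ = r ^ (l - j) := by
    calc w * r * w⁻¹ = w * (t * t * r) * w⁻¹ := by rw [h2 t ht, one_mul]
      _ = w * t * w⁻¹ * (w * (t * r) * w⁻¹) := by group
      _ = t * r ^ j * (t * r ^ l) := by rw [hj, hl]
      _ = t * (r ^ j * t) * r ^ l := by group
      _ = r ^ (l - j) := by
        rw [zpow_refl htr, ← mul_assoc, h2 t ht, one_mul, ← zpow_add, neg_add_eq_sub]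
  set k := l - j with hk
  obtain ⟨⟨m, hm⟩, -⟩ : (∃ m : ℕ, orderOf r = 2 ^ m) ∧ True := by
    refine ⟨?_, trivial⟩
    obtain ⟨n, hn⟩ := hP ⟨r, hrP⟩
    obtain ⟨m, -, hm⟩ := (Nat.dvd_prime_pow Nat.prime_two).mp (orderOf_dvd_of_pow_eq_one (congrArg Subtype.val hn))
    exact ⟨m, hm⟩
  have hone : ∀ {x : ℤ}, (2 ^ m : ℤ) ∣ x → r ^ x = 1 := fun {x} hx => by
    rw [← orderOf_dvd_iff_zpow_eq_one, hm]; exact_mod_cast hx
  rcases Int.even_or_odd j with ⟨i, hi⟩ | hjodd
  swap
  · -- a longer rotation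
    obtain ⟨a, b, hab⟩ := exists_bezout hjodd m
    have hsq : (t * w) * (t * w) = r ^ j := by
      calc t * w * (t * w) = t * (w * t * w⁻¹) := by rw [hwinv]; group
        _ = r ^ j := by rw [hj, ← mul_assoc, h2 t ht, one_mul]
    have hrtw : r ∈ zpowers (t * w) := by
      have e : r = (r ^ j) ^ a := by
        rw [← zpow_mul, show j * a = 1 - b * 2 ^ m by linear_combination hab, zpow_sub, hone (dvd_mul_left _ b),
          zpow_one, inv_one, mul_one]
      rw [e]
      exact zpow_mem (hsq ▸ mul_mem (mem_zpowers _) (mem_zpowers _)) a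
    have hle : zpowers r ≤ zpowers (t * w) := zpowers_le.mpr hrtw
    have h4 : orderOf r ≤ orderOf (t * w) := by
      rw [← Nat.card_zpowers, ← Nat.card_zpowers]; exact card_le_of_le hle
    have h5 : orderOf (t * w) ≤ orderOf r := hmax ⟨hwΩ, trivial⟩ h4
    have heq := eq_of_le_of_card_ge hle (by rw [Nat.card_zpowers, Nat.card_zpowers]; exact h5)
    obtain ⟨x, hx⟩ := heq.ge (mem_zpowers (t * w))
    refine hwD ⟨x, Or.inr ?_⟩
    rw [show r ^ x = t * w from hx, ← mul_assoc, h2 t ht, one_mul]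
  -- a fixed reflection
  suffices hfix : ∃ x : ℤ, w * (t * r ^ x) * w⁻¹ = t * r ^ x by
    obtain ⟨x, hx⟩ := hfix
    have hc : w * (t * r ^ x) = t * r ^ x * w := mul_inv_eq_iff_eq_mul.mp hx
    rcases mates _ (hall x) w hwΩ hc with e | e
    · exact hwD ⟨x, Or.inr e⟩
    rcases Nat.lt_or_ge m 1 with hm0 | hm0
    · have hr1 : r = 1 := orderOf_eq_one_iff.mp (by rw [hm, show m = 0 by omega, pow_zero])
      rw [hr1, one_zpow, mul_one] at e
      have h6 : orderOf (t * w) ≤ orderOf r := hmax ⟨hwΩ, trivial⟩ (by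
        show orderOf r ≤ orderOf (t * w)
        rw [hr1, orderOf_one]; exact orderOf_pos _)
      rw [hr1, orderOf_one] at h6
      have h7 : t * w = 1 := orderOf_eq_one_iff.mp (le_antisymm h6 (orderOf_pos _))
      rw [mul_eq_one_iff_eq_inv, hwinv] at h7
      exact hwD ⟨0, Or.inr (by rw [zpow_zero, mul_one]; exact h7.symm)⟩
    -- then `z` is a rotation
    set c := r ^ ((2 : ℤ) ^ (m - 1)) with hc'
    have hc2 : c * c = 1 := by
      rw [hc', ← zpow_add, ← two_mul, ← pow_succ', Nat.sub_add_cancel hm0]; exact hone dvd_rfl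
    have hc1 : c ≠ 1 := by
      intro e2
      rw [hc', ← orderOf_dvd_iff_zpow_eq_one, hm] at e2
      have h6 : (2 : ℕ) ^ m ∣ 2 ^ (m - 1) := by exact_mod_cast e2
      have := Nat.le_of_dvd (pow_pos two_pos _) h6
      have := Nat.pow_lt_pow_right (a := 2) one_lt_two (show m - 1 < m by omega)
      omega
    have hct : (t * c) * t = t * (t * c) := by
      have h8 := refl_zpow htr ((2 : ℤ) ^ (m - 1))
      rw [zpow_neg, ← hc', inv_eq_of_mul_eq_one_right hc2] at h8
      rw [mul_assoc, ← mul_inv_eq_iff_eq_mul.mp h8]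
    rcases mates t ht (t * c) (hall _) hct with e2 | e2
    · exact hc1 (by simpa using e2)
    rw [mul_assoc, ← mul_left_cancel e2, hc', ← zpow_add] at e
    exact hwD ⟨_, Or.inr e⟩
  have himg : ∀ x : ℤ, w * (t * r ^ x) * w⁻¹ = t * r ^ (j + k * x) := fun x => by
    rw [show w * (t * r ^ x) * w⁻¹ = w * t * w⁻¹ * (w * r ^ x * w⁻¹) by group, hj, ← conj_zpow, hwr, ← zpow_mul,
      mul_assoc, ← zpow_add]
  rcases Nat.lt_or_ge m 2 with hm2 | hm2
  · refine ⟨0, ?_⟩
    rw [himg, mul_zero, add_zero, zpow_zero, mul_one, hone (x := j) ?_, mul_one]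
    rcases Nat.lt_or_ge m 1 with h | h
    · rw [show m = 0 by omega, pow_zero]; exact one_dvd _
    · rw [show m = 1 by omega, pow_one]; exact ⟨i, by omega⟩
  set d := r ^ ((2 : ℤ) ^ (m - 2)) with hd
  have hdd : d * d = r ^ ((2 : ℤ) ^ (m - 1)) := by
    rw [hd, ← zpow_add, ← two_mul, ← pow_succ']
    congr 2
    omega
  have hz : d * d = z := by
    have hc1 : d * d ≠ 1 := by
      intro e2
      rw [hdd, ← orderOf_dvd_iff_zpow_eq_one, hm] at e2
      have h6 : (2 : ℕ) ^ m ∣ 2 ^ (m - 1) := by exact_mod_cast e2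
      have := Nat.le_of_dvd (pow_pos two_pos _) h6
      have := Nat.pow_lt_pow_right (a := 2) one_lt_two (show m - 1 < m by omega)
      omega
    have hc2 : d * d * (d * d) = 1 := by
      rw [hdd, ← zpow_add, ← two_mul, ← pow_succ', Nat.sub_add_cancel (by omega)]; exact hone dvd_rfl
    have hct : (t * (d * d)) * t = t * (t * (d * d)) := by
      have h8 := refl_zpow htr ((2 : ℤ) ^ (m - 1))
      rw [zpow_neg, ← hdd, inv_eq_of_mul_eq_one_right hc2] at h8
      rw [mul_assoc, ← mul_inv_eq_iff_eq_mul.mp h8]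
    rcases mates t ht (t * (d * d)) (hdd ▸ hall _) hct with e2 | e2
    · exact absurd (by simpa using e2) hc1
    · exact mul_left_cancel e2
  have hwd : w * d * w⁻¹ = d ^ k := by rw [hd, ← conj_zpow, hwr, ← zpow_mul, ← zpow_mul, mul_comm]
  have hd4 : d ^ (4 : ℤ) = 1 := by
    rw [show (4 : ℤ) = 2 + 2 from rfl, zpow_add, zpow_two, hz, hz2]
  obtain ⟨q, hq⟩ : ∃ q : ℤ, k = 2 * q + 1 := by
    rcases k.even_or_odd' with ⟨q, hq | hq⟩
    · exfalso
      have h3 : w * (d * d) * w⁻¹ = 1 := by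
        rw [show w * (d * d) * w⁻¹ = (w * d * w⁻¹) * (w * d * w⁻¹) by group, hwd, ← zpow_add,
          show k + k = 4 * q by rw [hq]; ring, zpow_mul, hd4, one_zpow]
      have h4 := conj_eq_one_iff.mp h3
      rw [hdd, ← orderOf_dvd_iff_zpow_eq_one, hm] at h4
      have h6 : (2 : ℕ) ^ m ∣ 2 ^ (m - 1) := by exact_mod_cast h4
      have := Nat.le_of_dvd (pow_pos two_pos _) h6
      have := Nat.pow_lt_pow_right (a := 2) one_lt_two (show m - 1 < m by omega)
      omega
    · exact ⟨q, hq⟩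
  rcases Int.even_or_odd q with ⟨q', hq'⟩ | hqodd
  · exfalso
    have : d ^ k = d := by
      rw [show k = 4 * q' + 1 by rw [hq, hq']; ring, zpow_add, zpow_mul, hd4, one_zpow, one_mul, zpow_one]
    rw [this] at hwd
    exact nosq w hwΩ d (zpow_mem hrP _) (mul_inv_eq_iff_eq_mul.mp hwd).symm hz
  obtain ⟨a, b, hab⟩ := exists_bezout hqodd m
  refine ⟨-i * a, ?_⟩
  rw [himg]
  congr 1
  rw [← mul_inv_eq_one, ← zpow_neg, ← zpow_add]
  refine hone ⟨2 * i * b, ?_⟩
  rw [hq, hi]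
  linear_combination (-2 * i) * hab

end CfsgLib.CyclicStandard
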