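import Cfsg.Agent.Lib.CyclicStandard.Fusion
import Cfsg.Agent.Lib.AfterFT.StandardComponent
import Cfsg.Agent.Lib.RankTwoModel.Rows.Main
import Cfsg.Agent.Lib.PSLThreeInvolution
import Cfsg.Agent.Lib.SimpleM11.Columns
import Cfsg.Agent.Lib.Basic

/-!
S3148 from the main theorem on groups with semidihedral or wreathed Sylow 2-subgroups.

Blueprint: `blueprint/S3148.md`, step 9.
-/

set_option autoImplicit false
set_option linter.unusedSectionVars false
set_option linter.style.haveILetI false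

namespace CfsgLib.CyclicStandard

open Subgroup Cfsg

universe u

variable {G : Type u} [Group G] [Finite G] {A : Subgroup G}

/-- An involution of `K` has a conjugate under an element outside `N(A)` commuting with it. -/
theorem exists_outside_conj (hO : oddCore G = ⊥) (hA : IsStandardSubgroup A) (hn : ¬ A.Normal)
    (hcyc : ∀ R : Sylow 2 ↥(centralizer (A : Set G)), IsCyclic ↥(R : Subgroup ↥(centralizer (A : Set G))))
    {z : G} (hzK : z ∈ centralizer (A : Set G)) (hz : orderOf z = 2) :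
    ∃ g : G, g ∉ normalizer (A : Set G) ∧ g * z * g⁻¹ ≠ z ∧ g * z * g⁻¹ * z = z * (g * z * g⁻¹) := by
  haveI : Fact (Nat.Prime 2) := ⟨Nat.prime_two⟩
  have hz2 : z * z = 1 := by rw [← pow_two, ← hz, pow_orderOf_eq_one]
  have hz1 : z ≠ 1 := fun h => by rw [h, orderOf_one] at hz; omega
  obtain ⟨g, hgne, hgc⟩ : ∃ g : G, g * z * g⁻¹ ≠ z ∧ g * z * g⁻¹ * z = z * (g * z * g⁻¹) := by
    by_contra hcon
    push_neg at hcon
    have hiso : IsIsolated z := fun g hg => by
      by_contra hne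
      exact hcon g hne hg.eq.symm
    have hc : ∀ g : G, g * z = z * g := by
      intro g
      have h1 := CfsgLib.ZStar.commutator_mem hz hiso g
      rw [show pPrimeCore 2 G = oddCore G from rfl, hO, Subgroup.mem_bot] at h1
      rw [mul_inv_eq_one, mul_inv_eq_iff_eq_mul] at h1
      first
        | exact h1
        | exact h1.symm
    exact hn (normalizer_eq_top_iff.mp (eq_top_iff.mpr fun g _ => CfsgLib.AfterFT.standard_fix hA hz hzK (hc g)))
  refine ⟨g, fun hgN => hgne ?_, hgne, hgc⟩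
  set t := g * z * g⁻¹ with ht
  have htK : t ∈ centralizer (A : Set G) := by
    rw [hA.2.2.2] at hgN
    exact (mem_normalizer_iff.mp hgN z).mp hzK
  have htt : t * t = 1 := by
    rw [ht, show g * z * g⁻¹ * (g * z * g⁻¹) = g * (z * z) * g⁻¹ by group, hz2]; group
  have hzp : IsPGroup 2 ↥(zpowers z) := isPGroup_zpowers (k := 1) (by rw [pow_one, pow_two, hz2])
  have htp : IsPGroup 2 ↥(zpowers t) := isPGroup_zpowers (k := 1) (by rw [pow_one, pow_two, htt])
  have hn' : zpowers t ≤ normalizer (zpowers z : Set G) := zpowers_le.mpr (centralizer_le_normalizer _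
    (mem_centralizer_iff.mpr fun x hx => by
      obtain ⟨i, rfl⟩ := hx
      exact ((show Commute t z from hgc).zpow_right i).eq.symm))
  have hle : zpowers z ⊔ zpowers t ≤ centralizer (A : Set G) := sup_le (zpowers_le.mpr hzK) (zpowers_le.mpr htK)
  obtain ⟨R, hR⟩ := ((IsPGroup.to_sup_of_normal_left' hzp htp hn').of_equiv
    (subgroupOfEquivOfLe hle).symm).exists_le_sylow
  haveI := hcyc R
  exact congrArg Subtype.val (cyclic_involution (R := (R : Subgroup ↥(centralizer (A : Set G))))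
    (a := (⟨t, htK⟩ : ↥(centralizer (A : Set G)))) (b := ⟨z, hzK⟩)
    (hR (mem_sup_right (mem_zpowers t))) (hR (mem_sup_left (mem_zpowers z))) (Subtype.ext htt) (Subtype.ext hz2)
    (fun e => hz1 (conj_eq_one_iff.mp (congrArg Subtype.val e))) fun e => hz1 (congrArg Subtype.val e))

/-- In `L` the centraliser of `z` is not solvable. -/
theorem cent_not_solvable {L : Subgroup G} (hqs : IsQuasisimple ↥A) (hAL : A ≤ L) {z : ↥L}
    (hc : ∀ b ∈ A, b * (z : G) = (z : G) * b) : ¬ Group.IsSolvable ↥(centralizer ({z} : Set ↥L)) := by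
  intro hsol
  let f : ↥A →* ↥(centralizer ({z} : Set ↥L)) :=
    { toFun := fun b => ⟨⟨b, hAL b.2⟩, mem_centralizer_singleton_iff.mpr (Subtype.ext (hc b b.2))⟩
      map_one' := rfl
      map_mul' := fun _ _ => rfl }
  haveI := hsol
  exact CfsgLib.isQuasisimple_not_isSolvable hqs (solvable_of_solvable_injective (f := f) fun x y h =>
    Subtype.ext (congrArg (fun w : ↥(centralizer ({z} : Set ↥L)) => ((w : ↥L) : G)) h))

/-- `PSL₃(3)` has solvable centralisers of involutions. -/
theorem psl_three_solvable {X : Type u} [Group X] [Finite X] {F : Type} [Field F] [Fintype F]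
    (h3 : Fintype.card F = 3) (e : X ≃* Matrix.ProjectiveSpecialLinearGroup (Fin 3) F) {x : X} (hx : orderOf x = 2) :
    Group.IsSolvable ↥(centralizer ({x} : Set X)) := by
  haveI : Fact (Nat.Prime 2) := ⟨Nat.prime_two⟩
  obtain ⟨Z, hZn, -, hZc, ⟨c⟩⟩ := CfsgLib.PSLThree.exists_centralizer_iso (F := F) (by rw [h3]; decide) (e x)
    (by rw [e.orderOf_eq, hx])
  have hGL : Nat.card (GL (Fin 2) F) = 48 := by
    classical
    rw [Matrix.card_GL_field, Fin.prod_univ_two, h3]
    rfl
  have h48 : Nat.card (GL (Fin 2) F ⧸ Z) = 2 ^ 4 * 3 ^ 1 := by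
    have h1 := Subgroup.card_eq_card_quotient_mul_card_subgroup Z
    rw [hGL, hZc, h3] at h1
    simpa using h1.symm
  haveI : Finite (GL (Fin 2) F ⧸ Z) := Nat.finite_of_card_ne_zero (by rw [h48]; norm_num)
  haveI := CfsgLib.CharTheory.isSolvable_of_card_two_primes Nat.prime_two Nat.prime_three h48
  let f : ↥(centralizer ({x} : Set X)) →* ↥(centralizer ({e x} : Set (Matrix.ProjectiveSpecialLinearGroup (Fin 3) F))) :=
    { toFun := fun w => ⟨e w, mem_centralizer_singleton_iff.mpr (by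
        rw [← map_mul, mem_centralizer_singleton_iff.mp w.2, map_mul])⟩
      map_one' := Subtype.ext (map_one e)
      map_mul' := fun a b => Subtype.ext (map_mul e _ _) }
  exact solvable_of_solvable_injective (f := c.toMonoidHom.comp f) (c.injective.comp fun a b h =>
    Subtype.ext (e.injective (congrArg Subtype.val h)))

/-- A simple group of order 7920 has solvable centralisers of involutions. -/
theorem m11_solvable {X : Type u} [Group X] [Finite X] (hX : IsM11 X) {x : X} (hx : orderOf x = 2) :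
    Group.IsSolvable ↥(centralizer ({x} : Set X)) :=
  CfsgLib.CharTheory.isSolvable_of_card_two_primes (a := 4) (b := 1) Nat.prime_two Nat.prime_three
    (by letI := Fintype.ofFinite X; rw [CfsgSimpleM11.cent_involution hX hx]; norm_num)

/-- **S3148 from the main theorem.** -/
theorem cyclic_standard (main : CfsgLib.RankTwoModel.Rows.Main.{u}) {G : Type u} [Group G] [Finite G]
    (hO : oddCore G = ⊥) (A : Subgroup G) (hA : IsStandardSubgroup A)
    (R : Sylow 2 ↥(centralizer (A : Set G))) (hR : IsCyclic ↥(R : Subgroup ↥(centralizer (A : Set G)))) :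
    A.Normal ∨
      (PRankLE 2 1 ↥A ∧
        ((∃ (F : Type) (_ : Field F) (_ : Fintype F), Fintype.card F % 4 = 3 ∧ Fintype.card F ≠ 3 ∧
            Nonempty (↥(normalClosure (A : Set G)) ≃* Matrix.ProjectiveSpecialLinearGroup (Fin 3) F)) ∨
          (∃ (F : Type) (_ : Field F) (_ : Fintype F) (q : ℕ), q % 4 = 1 ∧ Fintype.card F = q ^ 2 ∧
            Nonempty (↥(normalClosure (A : Set G)) ≃* PSU 3 F q)))) ∨
      (∃ g : G, g ∉ normalizer (A : Set G) ∧
        (((R : Subgroup ↥(centralizer (A : Set G))).map (centralizer (A : Set G)).subtype).map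
          (MulAut.conj g).toMonoidHom ≤ normalizer (A : Set G))) := by
  haveI : Fact (Nat.Prime 2) := ⟨Nat.prime_two⟩
  by_cases hn : A.Normal
  · exact Or.inl hn
  by_cases h3 : ∃ g : G, g ∉ normalizer (A : Set G) ∧
      (((R : Subgroup ↥(centralizer (A : Set G))).map (centralizer (A : Set G)).subtype).map
        (MulAut.conj g).toMonoidHom ≤ normalizer (A : Set G))
  · exact Or.inr (Or.inr h3)
  refine Or.inr (Or.inl ?_)
  have hKN : (centralizer (A : Set G)) ≤ normalizer (A : Set G) := centralizer_le_normalizer _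
  have hcard : ∀ R' : Sylow 2 ↥(centralizer (A : Set G)), Nat.card ↥(R' : Subgroup ↥(centralizer (A : Set G))) = Nat.card ↥(R : Subgroup ↥(centralizer (A : Set G))) :=
    fun R' => Nat.card_congr (R'.equiv R).toEquiv
  have hcyc : ∀ R' : Sylow 2 ↥(centralizer (A : Set G)), IsCyclic ↥(R' : Subgroup ↥(centralizer (A : Set G))) := fun R' => by
    haveI := hR
    exact isCyclic_of_surjective _ (R.equiv R').surjective
  have hnoThird : ∀ g : G, g ∉ normalizer (A : Set G) → ∀ R' : Sylow 2 ↥(centralizer (A : Set G)),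
      ∃ r ∈ (R' : Subgroup ↥(centralizer (A : Set G))).map (centralizer (A : Set G)).subtype, g * r * g⁻¹ ∉ normalizer (A : Set G) := by
    intro g hg R'
    by_contra hcon
    push_neg at hcon
    obtain ⟨c, hc⟩ := MulAction.exists_smul_eq ↥(centralizer (A : Set G)) R R'
    refine h3 ⟨g * c, fun h => hg ?_, ?_⟩
    · have := mul_mem h (inv_mem (hKN c.2))
      rwa [mul_inv_cancel_right] at this
    · rintro _ ⟨_, ⟨r, hr, rfl⟩, rfl⟩
      have hcr : c * r * c⁻¹ ∈ (R' : Subgroup ↥(centralizer (A : Set G))) := by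
        rw [← hc, Sylow.coe_subgroup_smul]; exact ⟨r, hr, rfl⟩
      have h5 := hcon _ ⟨_, hcr, rfl⟩
      show g * c * r * (g * c)⁻¹ ∈ normalizer (A : Set G)
      rwa [show g * c * r * (g * c)⁻¹ = g * ((c : G) * r * (c : G)⁻¹) * g⁻¹ by group]
  obtain ⟨g₀, hg₀⟩ : ∃ g₀ : G, g₀ ∉ normalizer (A : Set G) := by
    by_contra hcon
    push_neg at hcon
    exact hn (normalizer_eq_top_iff.mp (eq_top_iff.mpr fun g _ => hcon g))
  obtain ⟨r1, hr1, hr1N⟩ := hnoThird g₀ hg₀ R
  obtain ⟨n0, hn0⟩ := IsPGroup.iff_card.mp R.2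
  -- at least four elements
  have hfour : 2 ≤ n0 := by
    by_contra hlt
    have hr1' : r1 ≠ 1 := fun h => hr1N (by rw [h, mul_one, mul_inv_cancel]; exact one_mem _)
    obtain ⟨r, hr, rfl⟩ := hr1
    rcases (by omega : n0 = 0 ∨ n0 = 1) with rfl | rfl
    · refine hr1' (congrArg Subtype.val (show r = 1 from ?_))
      have h5 := Subgroup.card_eq_one.mp (show Nat.card ↥(R : Subgroup ↥(centralizer (A : Set G))) = 1 by rw [hn0]; rfl)
      exact (Subgroup.eq_bot_iff_forall _).mp h5 r hr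
    · have hz : orderOf (r : G) = 2 := by
        rw [Subgroup.orderOf_coe]
        have h5 := Subgroup.orderOf_dvd_natCard _ hr
        rw [hn0, pow_one] at h5
        exact ((Nat.dvd_prime Nat.prime_two).mp h5).resolve_left fun e => hr1'
          (congrArg Subtype.val (orderOf_eq_one_iff.mp e))
      obtain ⟨g, hgN, -, hgc⟩ := exists_outside_conj hO hA hn hcyc r.2 hz
      refine h3 ⟨g, hgN, ?_⟩
      have hgen : ∀ x ∈ (R : Subgroup ↥(centralizer (A : Set G))), x = 1 ∨ x = r := by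
        intro x hx
        haveI := hR
        rcases eq_or_ne x 1 with h | h
        · exact Or.inl h
        right
        have h2 : ∀ y : ↥(centralizer (A : Set G)), y ∈ (R : Subgroup ↥(centralizer (A : Set G))) → y * y = 1 := fun y hy => by
          have h5 := Subgroup.orderOf_dvd_natCard _ hy
          rw [hn0, pow_one] at h5
          rw [← pow_two]; exact orderOf_dvd_iff_pow_eq_one.mp h5
        exact cyclic_involution hx hr (h2 x hx) (h2 r hr) h fun e => hr1' (congrArg Subtype.val e)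
      rintro _ ⟨_, ⟨x, hx, rfl⟩, rfl⟩
      rcases hgen x hx with rfl | rfl
      · simp
      · exact CfsgLib.AfterFT.standard_fix hA hz x.2 hgc
  have four : ∀ z ∈ (centralizer (A : Set G)), z * z = 1 → z ≠ 1 → ∃ y ∈ (centralizer (A : Set G)), y * y = z := by
    intro z hz hz2 hz1
    obtain ⟨R', hR'⟩ := ((isPGroup_zpowers (k := 1) (by rw [pow_one, pow_two, hz2] : z ^ 2 ^ 1 = 1)).of_equiv
      (subgroupOfEquivOfLe (zpowers_le.mpr hz)).symm).exists_le_sylow
    haveI := hcyc R'
    obtain ⟨w, hw⟩ := IsCyclic.exists_ofOrder_eq_natCard (α := ↥(R' : Subgroup ↥(centralizer (A : Set G))))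
    rw [hcard R', hn0] at hw
    set y := w ^ 2 ^ (n0 - 2) with hy
    have hyo : orderOf y = 4 := by
      rw [hy, orderOf_pow' _ (pow_ne_zero _ two_ne_zero), hw, Nat.gcd_eq_right (pow_dvd_pow 2 (by omega)),
        Nat.pow_div (by omega) two_pos, show n0 - (n0 - 2) = 2 by omega]
      rfl
    have hyG : orderOf ((y : ↥(centralizer (A : Set G))) : G) = 4 := by rw [Subgroup.orderOf_coe, Subgroup.orderOf_coe, hyo]
    refine ⟨((y : ↥(centralizer (A : Set G))) : G), (y : ↥(centralizer (A : Set G))).2, ?_⟩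
    have hzR : (⟨z, hz⟩ : ↥(centralizer (A : Set G))) ∈ (R' : Subgroup ↥(centralizer (A : Set G))) := hR' (mem_zpowers z)
    have h := cyclic_involution (R := (R' : Subgroup ↥(centralizer (A : Set G)))) (a := (y : ↥(centralizer (A : Set G))) * y) (b := ⟨z, hz⟩) (mul_mem y.2 y.2) hzR
      (Subtype.ext (by
        push_cast
        rw [← pow_two, ← pow_two, ← pow_mul, show 2 * 2 = 4 from rfl, ← hyG, pow_orderOf_eq_one]))
      (Subtype.ext hz2)
      (fun e => by
        have h5 : ((y : ↥(centralizer (A : Set G))) : G) ^ 2 = 1 := by rw [pow_two]; exact congrArg Subtype.val e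
        have := Nat.le_of_dvd two_pos (orderOf_dvd_of_pow_eq_one h5)
        omega)
      (fun e => hz1 (congrArg Subtype.val e))
    exact congrArg Subtype.val h
  have C : Ctx A := ⟨hA, hcyc, four, hnoThird⟩
  -- an involution of `(centralizer (A : Set G))` and its mate
  obtain ⟨z, hzK, hz⟩ : ∃ z ∈ (centralizer (A : Set G)), orderOf z = 2 := by
    haveI := hR
    obtain ⟨x, hx⟩ := exists_prime_orderOf_dvd_card' (G := ↥(R : Subgroup ↥(centralizer (A : Set G)))) 2
      (hn0 ▸ dvd_pow_self 2 (by omega))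
    exact ⟨((x : ↥(centralizer (A : Set G))) : G), (x : ↥(centralizer (A : Set G))).2, by rw [Subgroup.orderOf_coe, Subgroup.orderOf_coe, hx]⟩
  have hz2 : z * z = 1 := by rw [← pow_two, ← hz, pow_orderOf_eq_one]
  have hz1 : z ≠ 1 := fun h => by rw [h, orderOf_one] at hz; omega
  obtain ⟨g, -, hgne, hgc⟩ := exists_outside_conj hO hA hn hcyc hzK hz
  set t := g * z * g⁻¹ with ht
  have hpair : IsPair A z t := ⟨hzK, hz2, hz1, ⟨g, ht⟩, hgne, hgc⟩
  have htN : t ∈ normalizer (A : Set G) := C.fix hzK hz2 hz1 hgc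
  -- a Sylow subgroup of `N(A)`
  obtain ⟨R', hzR', -, hR'n⟩ := C.exists_sylow hzK hz2 hz1
    (P := zpowers t) (isPGroup_zpowers (k := 1) (by rw [pow_one, pow_two, hpair.t2]))
    (fun p hp => by obtain ⟨i, rfl⟩ := hp; exact ((show Commute t z from hgc).zpow_left i).eq)
  set Rm := (R' : Subgroup ↥(centralizer (A : Set G))).map (centralizer (A : Set G)).subtype with hRm
  have hRmK : Rm ≤ (centralizer (A : Set G)) := map_subtype_le _
  have htR : zpowers t ≤ normalizer (Rm : Set G) := zpowers_le.mpr (mem_normalizer_iff.mpr fun x =>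
    ⟨hR'n t (mem_zpowers t) x, fun h => by
      have h5 := hR'n t⁻¹ (inv_mem (mem_zpowers t)) _ h
      rwa [show t⁻¹ * (t * x * t⁻¹) * t⁻¹⁻¹ = x by group] at h5⟩)
  set N := normalizer (A : Set G) with hNdef
  have hXN : Rm ⊔ zpowers t ≤ N := sup_le (hRmK.trans hKN) (zpowers_le.mpr htN)
  have hXp : IsPGroup 2 ↥(Rm ⊔ zpowers t) := IsPGroup.to_sup_of_normal_left' (R'.2.map _)
    (isPGroup_zpowers (k := 1) (by rw [pow_one, pow_two, hpair.t2])) htR
  obtain ⟨S0, hS0⟩ := (hXp.of_equiv (subgroupOfEquivOfLe hXN).symm).exists_le_sylow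
  set S := (S0 : Subgroup ↥N).map N.subtype with hS
  have hSN : S ≤ N := map_subtype_le _
  have hXS : Rm ⊔ zpowers t ≤ S := fun x hx => ⟨⟨x, hXN hx⟩, hS0 hx, rfl⟩
  have hSp : IsPGroup 2 ↥S := S0.2.map _
  -- `z` is central in `S`
  have hzc : ∀ s ∈ S, s * z = z * s := by
    intro s hs
    have hKn : ∀ x ∈ (centralizer (A : Set G)), s * x * s⁻¹ ∈ (centralizer (A : Set G)) := fun x hx =>
      (mem_normalizer_iff.mp ((hA.2.2.2.le) (hSN hs)) x).mp hx
    obtain ⟨P, hP⟩ := ((hSp.to_le (inf_le_left : S ⊓ (centralizer (A : Set G)) ≤ S)).of_equiv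
      (subgroupOfEquivOfLe (inf_le_right : S ⊓ (centralizer (A : Set G)) ≤ (centralizer (A : Set G)))).symm).exists_le_sylow
    haveI := hcyc P
    have hzS : z ∈ S := hXS (mem_sup_left hzR')
    have e := cyclic_involution (R := (P : Subgroup ↥(centralizer (A : Set G)))) (a := (⟨s * z * s⁻¹, hKn z hzK⟩ : ↥(centralizer (A : Set G)))) (b := ⟨z, hzK⟩)
      (hP (mem_inf.mpr ⟨mul_mem (mul_mem hs hzS) (inv_mem hs), hKn z hzK⟩)) (hP (mem_inf.mpr ⟨hzS, hzK⟩))
      (Subtype.ext (by
        push_cast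
        rw [show s * z * s⁻¹ * (s * z * s⁻¹) = s * (z * z) * s⁻¹ by group, hz2]; group))
      (Subtype.ext hz2) (fun e => hz1 (conj_eq_one_iff.mp (congrArg Subtype.val e)))
      (fun e => hz1 (congrArg Subtype.val e))
    exact mul_inv_eq_iff_eq_mul.mp (congrArg Subtype.val e)
  -- `S` is a Sylow subgroup of `G`
  obtain ⟨P, hP⟩ := hSp.exists_le_sylow
  have hPS : (P : Subgroup G) = S := by
    refine le_antisymm ?_ hP
    by_contra hlt
    have hlt' : S < (P : Subgroup G) := lt_of_le_of_ne hP fun e => hlt e.symm.le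
    obtain ⟨w, hw, hwS⟩ := SetLike.exists_of_lt (CfsgLib.WeakClosed.lt_inf_normalizer' P.2 hP hlt'.ne)
    obtain ⟨hwP, hwn⟩ := mem_inf.mp hw
    have hwN : w ∈ N := by
      by_contra hwN
      obtain ⟨r, hr, hrN⟩ := hnoThird w hwN R'
      exact hrN (hSN ((mem_normalizer_iff.mp hwn r).mp (hXS (mem_sup_left hr))))
    set U := (P : Subgroup G) ⊓ N
    have hU := S0.3 ((P.2.to_le inf_le_left).of_equiv (subgroupOfEquivOfLe (inf_le_right : U ≤ N)).symm)
      (fun x hx => mem_inf.mpr ⟨hP ⟨x, hx, rfl⟩, x.2⟩)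
    exact hwS ⟨⟨w, hwN⟩, hU ▸ mem_inf.mpr ⟨hwP, hwN⟩, rfl⟩
  have hTfull : ¬ 2 ∣ (S ⊓ A).relIndex A := by
    haveI : (A.subgroupOf N).Normal := (normal_subgroupOf_iff_le_normalizer le_normalizer).mpr le_rfl
    have h1 := (CfsgLib.sylowInfNormal S0 (A.subgroupOf N)).not_dvd_index
    let e : ↥(A.subgroupOf N) ≃* ↥A := subgroupOfEquivOfLe le_normalizer
    have h2 : (S ⊓ A).subgroupOf A = (CfsgLib.sylowInfNormal S0 (A.subgroupOf N) :
        Subgroup ↥(A.subgroupOf N)).map e.toMonoidHom := by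
      ext w
      constructor
      · intro hw
        obtain ⟨v, hv, hve⟩ := (mem_inf.mp hw).1
        refine ⟨e.symm w, ?_, e.apply_symm_apply w⟩
        show ((e.symm w : ↥(A.subgroupOf N)) : ↥N) ∈ (S0 : Subgroup ↥N)
        rw [show ((e.symm w : ↥(A.subgroupOf N)) : ↥N) = v from Subtype.ext hve.symm]
        exact hv
      · rintro ⟨v, hv, rfl⟩
        exact mem_inf.mpr ⟨⟨(v : ↥N), hv, rfl⟩, (e v).2⟩
    show ¬ 2 ∣ ((S ⊓ A).subgroupOf A).index
    rw [h2]
    exact (index_map_equiv _ e).symm ▸ h1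
  have hsett : Sett A S z t :=
    ⟨⟨C, hpair, inf_le_right, hSp.to_le inf_le_left, hTfull, fun s hs => mem_inf.mpr
      ⟨mul_mem (mul_mem (hXS (mem_sup_right (mem_zpowers t))) (mem_inf.mp hs).1)
        (inv_mem (hXS (mem_sup_right (mem_zpowers t)))),
        (mem_normalizer_iff.mp htN s).mp (mem_inf.mp hs).2⟩⟩,
      hXS (mem_sup_right (mem_zpowers t)), hSp, hSN, hzc⟩
  -- the layer
  obtain ⟨r, hrT, hinv, hall, hcover⟩ := hsett.base.exists_rot
  have F : Frame A z t (S ⊓ A) r := ⟨hsett.base, hrT, hinv, hall, hcover⟩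
  obtain ⟨d, m, hrot, a, haT, haa, hodd, hcl⟩ := F.exists_outer
  have Q : Quat A z t (S ⊓ A) r d m a := ⟨hrot, haT, haa, hodd, hcl⟩
  rcases CfsgLib.AfterFT.standard_cases (fun _ _ _ h => Cfsg.Agent.S0205.result h) A hA hO z hz hzK with
    h | ⟨_, _, _, _, _, _, _, hCA⟩ | ⟨hAL, hsimple, hnc⟩
  · exact absurd h hn
  · exfalso
    obtain ⟨y, hy, hyy⟩ := four z hzK hz2 hz1
    obtain ⟨i, rfl⟩ := (hCA ▸ hy : y ∈ zpowers z)
    refine hz1 ?_
    rw [← hyy, ← (Commute.refl z).mul_zpow, hz2, one_zpow]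
  set L := layer G with hL
  haveI : IsSimpleGroup ↥L := hsimple
  haveI hLn : L.Normal := inferInstance
  haveI : Group.IsPerfect ↥L := ⟨(inferInstance : (commutator ↥L).Normal).eq_bot_or_eq_top.resolve_left fun h0 =>
    hnc ⟨⟨fun a b => commutatorElement_eq_one_iff_mul_comm.mp (Subgroup.mem_bot.mp
      (h0 ▸ Subgroup.commutator_mem_commutator (Subgroup.mem_top a) (Subgroup.mem_top b)))⟩⟩⟩
  have hfullL : ¬ 2 ∣ (S ⊓ L).relIndex L := by
    have h1 := (CfsgLib.sylowInfNormal P L).not_dvd_index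
    have h2 : (S ⊓ L).subgroupOf L = (CfsgLib.sylowInfNormal P L : Subgroup ↥L) := by
      ext w
      constructor
      · intro hw; exact hP (mem_inf.mp hw).1
      · intro hw; exact mem_inf.mpr ⟨hPS.le hw, w.2⟩
    show ¬ 2 ∣ ((S ⊓ L).subgroupOf L).index
    rw [h2]; exact h1
  have E : Env A S L z t r d a m := ⟨hsett, Q, hAL, fun g x hx => hLn.conj_mem x hx g, hfullL⟩
  have heq := E.sylow_eq
  let P1 : Sylow 2 ↥L := ((hSp.to_le inf_le_left).of_equiv
    (subgroupOfEquivOfLe (inf_le_right : S ⊓ L ≤ L)).symm).toSylow hfullL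
  have hQD : IsQuasiDihedral ↥(P1 : Subgroup ↥L) := by
    obtain ⟨n, hn3, hcard', x, y, hx, hy, hxy⟩ : IsQuasiDihedral ↥(S ⊓ L) := by
      rw [heq]; exact Q.isQuasiDihedral
    let e : ↥(S ⊓ L) ≃* ↥(P1 : Subgroup ↥L) := (subgroupOfEquivOfLe (inf_le_right : S ⊓ L ≤ L)).symm
    refine ⟨n, hn3, (Nat.card_congr e.toEquiv).symm.trans hcard', e x, e y, (e.orderOf_eq x).trans hx,
      (e.orderOf_eq y).trans hy, ?_⟩
    rw [← map_inv, ← map_mul, ← map_mul, hxy, map_pow]
  have hrank : PRankLE 2 1 ↥A := by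
    intro X hXc hX2
    have hXp : IsPGroup 2 ↥X := fun x => ⟨1, Subtype.ext (by rw [pow_one]; exact hX2 x x.2)⟩
    obtain ⟨P2, hP2⟩ := hXp.exists_le_sylow
    let T0 : Sylow 2 ↥A := (hsett.base.Tp.of_equiv (subgroupOfEquivOfLe hsett.base.TA).symm).toSylow hsett.base.Tfull
    obtain ⟨c, hc⟩ := MulAction.exists_smul_eq ↥A P2 T0
    have hval : ∀ x ∈ X, x = 1 ∨ x = ⟨z, hsett.base.zA⟩ := by
      intro x hx
      have h1 : c * x * c⁻¹ ∈ (T0 : Subgroup ↥A) := by
        rw [← hc, Sylow.coe_subgroup_smul]; exact ⟨x, hP2 hx, rfl⟩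
      have hx2 : (x : G) * x = 1 := by
        have := congrArg Subtype.val (hX2 x hx)
        rwa [coe_pow, pow_two, OneMemClass.coe_one] at this
      have h3' : ((c * x * c⁻¹ : ↥A) : G) * ((c * x * c⁻¹ : ↥A) : G) = 1 := by
        push_cast
        rw [show (c : G) * x * (c : G)⁻¹ * ((c : G) * x * (c : G)⁻¹) = (c : G) * ((x : G) * x) * (c : G)⁻¹ by group,
          hx2]
        group
      rcases Q.T_inv h1 h3' with h | h
      · exact Or.inl (conj_eq_one_iff.mp (Subtype.ext h : c * x * c⁻¹ = 1))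
      · right
        refine Subtype.ext ?_
        replace h : (c : G) * (x : G) * (c : G)⁻¹ = z := h
        calc (x : G) = (c : G)⁻¹ * ((c : G) * x * (c : G)⁻¹) * c := by group
          _ = z := by rw [h, mul_assoc, ← hsett.base.zc c.2, inv_mul_cancel_left]
    have h9 : (X : Set ↥A) ⊆ {1, ⟨z, hsett.base.zA⟩} := fun x hx => hval x hx
    have h10 := (Set.ncard_le_ncard h9 (Set.toFinite _)).trans ((Set.ncard_insert_le _ _).trans (by rw [Set.ncard_singleton]))
    rw [pow_one]
    exact h10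
  refine ⟨hrank, ?_⟩
  have hAne : A ≠ ⊥ := fun h => by
    have h5 := hsett.base.zA
    rw [h, Subgroup.mem_bot] at h5
    exact hz1 h5
  have hclo : normalClosure (A : Set G) = L := by
    refine le_antisymm (normalClosure_le_normal hAL) ?_
    rcases ((normalClosure_normal (s := (A : Set G))).subgroupOf L).eq_bot_or_eq_top with h | h
    · exfalso
      refine hAne (eq_bot_iff.mpr fun x hx => ?_)
      have h5 : (⟨x, hAL hx⟩ : ↥L) ∈ (normalClosure (A : Set G)).subgroupOf L :=
        subset_normalClosure hx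
      rw [h, Subgroup.mem_bot] at h5
      exact Subgroup.mem_bot.mpr (congrArg Subtype.val h5)
    · exact subgroupOf_eq_top.mp h
  let ec : ↥(normalClosure (A : Set G)) ≃* ↥L := MulEquiv.subgroupCongr hclo
  have hzL : z ∈ L := hAL hsett.base.zA
  have hzo : orderOf (⟨z, hzL⟩ : ↥L) = 2 := by rw [Subgroup.orderOf_mk, hz]
  have hns := cent_not_solvable (L := L) hA.1 hAL (z := ⟨z, hzL⟩) fun b hb => hsett.base.zc hb
  rcases CfsgLib.RankTwoModel.Rows.semidihedral main P1 hQD with
    ⟨F, iF, iFt, h4, ⟨e⟩⟩ | ⟨F, iF, iFt, q, hF, h4, ⟨e⟩⟩ | hM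
  · refine Or.inl ⟨F, iF, iFt, h4, fun h3' => hns (psl_three_solvable h3' e hzo), ⟨ec.trans e⟩⟩
  · exact Or.inr ⟨F, iF, iFt, q, h4, hF, ⟨ec.trans e⟩⟩
  · exact (hns (m11_solvable hM hzo)).elim

end CfsgLib.CyclicStandard
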