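import Cfsg.Agent.Lib.CyclicStandard.Pair
import Cfsg.Agent.Lib.CyclicStandard.Dihedral

/-!
A Sylow 2-subgroup `T` of `A` invariant under the conjugate `t` of `z`: the conjugates of `t` under `A` in `T⟨t⟩` are
the reflections `t r^x`; elements fixing `t` up to the rotations, involutions of `C_T(t)` centralise `r`.

Blueprint: `blueprint/S3148.md`, step 4.
-/

set_option autoImplicit false
set_option linter.unusedSectionVars false
set_option linter.style.haveILetI false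

namespace CfsgLib.CyclicStandard

open Subgroup Cfsg

universe u

variable {G : Type u} [Group G] [Finite G] {A : Subgroup G}

/-- A Sylow 2-subgroup `T` of `A` invariant under the member `t` of a pair. -/
structure Base (A : Subgroup G) (z t : G) (T : Subgroup G) : Prop where
  ctx : Ctx A
  pair : IsPair A z t
  TA : T ≤ A
  Tp : IsPGroup 2 ↥T
  Tfull : ¬ 2 ∣ T.relIndex A
  tT : ∀ s ∈ T, t * s * t⁻¹ ∈ T

/-- The conjugates of `t` under `A` in `T⟨t⟩`. -/
def omega (A T : Subgroup G) (t : G) : Set G := {u | u ∈ T ⊔ zpowers t ∧ ∃ a ∈ A, u = a * t * a⁻¹}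

theorem conj_mem_omega {T : Subgroup G} {t : G} (hTA : T ≤ A) {u : G} (hu : u ∈ omega A T t) {s : G}
    (hs : s ∈ T) : s * u * s⁻¹ ∈ omega A T t := by
  obtain ⟨huS, a, ha, rfl⟩ := hu
  exact ⟨mul_mem (mul_mem (mem_sup_left hs) huS) (inv_mem (mem_sup_left hs)), s * a, mul_mem (hTA hs) ha, by group⟩

namespace Base

variable {z t : G} {T : Subgroup G} (B : Base A z t T)
include B

theorem tN : t ∈ normalizer (A : Set G) := B.ctx.fix B.pair.zK B.pair.z2 B.pair.z1 B.pair.comm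

theorem tnorm : zpowers t ≤ normalizer (T : Set G) := by
  rw [zpowers_le]
  refine mem_normalizer_iff.mpr fun s => ⟨B.tT s, fun h => ?_⟩
  have := B.tT _ h
  rwa [show t * (t * s * t⁻¹) * t⁻¹ = t * t * s * (t * t)⁻¹ by group, B.pair.t2, one_mul, inv_one, mul_one] at this

theorem t_pow (i : ℤ) : t ^ i = 1 ∨ t ^ i = t := by
  rcases i.even_or_odd' with ⟨q, rfl | rfl⟩
  · left; rw [zpow_mul, zpow_two, B.pair.t2, one_zpow]
  · right; rw [zpow_add, zpow_mul, zpow_two, B.pair.t2, one_zpow, one_mul, zpow_one]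

theorem mem_SX {s : G} (hs : s ∈ T ⊔ zpowers t) : s ∈ T ∨ ∃ a ∈ T, s = a * t := by
  obtain ⟨a, ha, b, ⟨i, rfl⟩, rfl⟩ := CfsgLib.mem_sup_of_le_normalizer B.tnorm hs
  rcases B.t_pow i with h | h <;> simp only [h]
  exacts [Or.inl (by simpa using ha), Or.inr ⟨a, ha, rfl⟩]

theorem inf_eq {s : G} (hs : s ∈ T ⊔ zpowers t) (hsA : s ∈ A) : s ∈ T := by
  rcases B.mem_SX hs with h | ⟨a, ha, rfl⟩
  · exact h
  · exact absurd ((A.mul_mem_cancel_left (B.TA ha)).mp hsA) (B.ctx.t_not_mem B.pair)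

theorem SX_isPGroup : IsPGroup 2 ↥(T ⊔ zpowers t) :=
  IsPGroup.to_sup_of_normal_left' B.Tp (isPGroup_zpowers (k := 1) (by rw [pow_one, pow_two, B.pair.t2])) B.tnorm

theorem zA : z ∈ A := B.ctx.z_mem B.pair

theorem zc {a : G} (ha : a ∈ A) : a * z = z * a := B.pair.zK a ha

theorem zT : z ∈ T := by
  haveI : Fact (Nat.Prime 2) := ⟨Nat.prime_two⟩
  let T0 : Sylow 2 ↥A := (B.Tp.of_equiv (subgroupOfEquivOfLe B.TA).symm).toSylow B.Tfull
  have h := CfsgLib.mem_sylow_of_mem_centralizer T0 (x := (⟨z, B.zA⟩ : ↥A))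
    ⟨1, Subtype.ext (by rw [coe_pow, pow_one, pow_two, B.pair.z2, OneMemClass.coe_one])⟩
    fun w _ => Subtype.ext (B.zc w.2).symm
  exact h

theorem comm_z {s : G} (hs : s ∈ T ⊔ zpowers t) : s * z = z * s := by
  rcases B.mem_SX hs with h | ⟨a, ha, rfl⟩
  · exact B.zc (B.TA h)
  · rw [mul_assoc, B.pair.comm, ← mul_assoc, B.zc (B.TA ha), mul_assoc]

theorem pair_of {u : G} (hu : ∃ a ∈ A, u = a * t * a⁻¹) : IsPair A z u := by
  obtain ⟨a, ha, rfl⟩ := hu
  obtain ⟨f, hf⟩ := B.pair.conj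
  refine ⟨B.pair.zK, B.pair.z2, B.pair.z1, ⟨a * f, by rw [hf]; group⟩, fun e2 => B.pair.ne ?_, ?_⟩
  · calc t = a⁻¹ * (a * t * a⁻¹) * a := by group
      _ = z := by rw [e2, mul_assoc, ← B.zc ha, inv_mul_cancel_left]
  · calc a * t * a⁻¹ * z = a * (t * (a⁻¹ * (z * a))) * a⁻¹ := by group
      _ = a * (t * z) * a⁻¹ := by rw [← B.zc ha, inv_mul_cancel_left]
      _ = (a * z) * t * a⁻¹ := by rw [B.pair.comm]; group
      _ = z * (a * t * a⁻¹) := by rw [B.zc ha]; group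

theorem t_omega : t ∈ omega A T t := ⟨mem_sup_right (mem_zpowers t), 1, one_mem _, by group⟩

theorem omega_sq {u : G} (hu : u ∈ omega A T t) : u * u = 1 := (B.pair_of hu.2).t2

theorem omega_conj {u w : G} (hu : u ∈ omega A T t) (hw : w ∈ omega A T t) : w * u * w⁻¹ ∈ omega A T t := by
  obtain ⟨huS, a, ha, rfl⟩ := hu
  refine ⟨mul_mem (mul_mem hw.1 huS) (inv_mem hw.1), ?_⟩
  obtain ⟨-, b, hb, rfl⟩ := hw
  refine ⟨b * (t * (b⁻¹ * a) * t⁻¹), mul_mem hb ((mem_normalizer_iff.mp B.tN _).mp (mul_mem (inv_mem hb) ha)), ?_⟩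
  group

/-- **The reflections.** -/
theorem exists_rot : ∃ r ∈ T, t * r * t⁻¹ = r⁻¹ ∧ (∀ x : ℤ, t * r ^ x ∈ omega A T t) ∧
    ∀ u ∈ omega A T t, ∃ x : ℤ, u = t * r ^ x := by
  obtain ⟨r, hr, h1, h2, h3⟩ := exists_dihedral B.SX_isPGroup B.pair.z2 (Ω := omega A T t) (fun u hu => hu.1)
    (fun u hu => B.omega_sq hu) (fun h => (B.pair_of h.2).t1 rfl) (fun u hu w hw => B.omega_conj hu hw)
    (fun u hu v hv h => B.ctx.mates (B.pair_of hu.2) (B.pair_of hv.2) h)
    (fun u hu r hr h e => by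
      obtain ⟨k, hk⟩ := B.SX_isPGroup ⟨r, hr⟩
      exact B.ctx.not_square (B.pair_of hu.2) (k := k) (congrArg Subtype.val hk) h e) B.t_omega
  refine ⟨r, B.inf_eq hr ?_, h1, h2, h3⟩
  obtain ⟨-, a, ha, e⟩ := h2 1
  rw [zpow_one] at e
  have : r = t * a * t⁻¹ * a⁻¹ := by
    calc r = t * (t * r) := by rw [← mul_assoc, B.pair.t2, one_mul]
      _ = t * (a * t * a⁻¹) := by rw [e]
      _ = t * a * t⁻¹ * a⁻¹ := by rw [B.pair.tinv]; group
  rw [this]
  exact mul_mem ((mem_normalizer_iff.mp B.tN a).mp ha) (inv_mem ha)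

end Base

/-- A frame with its rotation. -/
structure Frame (A : Subgroup G) (z t : G) (T : Subgroup G) (r : G) : Prop where
  base : Base A z t T
  rT : r ∈ T
  inv : t * r * t⁻¹ = r⁻¹
  all : ∀ x : ℤ, t * r ^ x ∈ omega A T t
  cover : ∀ u ∈ omega A T t, ∃ x : ℤ, u = t * r ^ x

namespace Frame

variable {z t r : G} {T : Subgroup G} (F : Frame A z t T r)
include F

theorem conj_t (i : ℤ) : r ^ i * t * (r ^ i)⁻¹ = t * r ^ (-2 * i) := by
  rw [zpow_refl F.inv, ← zpow_neg, mul_assoc, ← zpow_add]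
  congr 2
  ring

/-- Elements of `T` act on the reflections. -/
theorem act {s : G} (hs : s ∈ T) : ∃ j k : ℤ, s * t * s⁻¹ = t * r ^ j ∧ s * r * s⁻¹ = r ^ k := by
  obtain ⟨j, hj⟩ := F.cover _ (conj_mem_omega F.base.TA F.base.t_omega hs)
  obtain ⟨l, hl⟩ := F.cover _ (conj_mem_omega F.base.TA (F.all 1) hs)
  rw [zpow_one] at hl
  refine ⟨j, -j + l, hj, ?_⟩
  calc s * r * s⁻¹ = s * (t * t * r) * s⁻¹ := by rw [F.base.pair.t2, one_mul]
    _ = s * t * s⁻¹ * (s * (t * r) * s⁻¹) := by group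
    _ = t * r ^ j * (t * r ^ l) := by rw [hj, hl]
    _ = t * (r ^ j * t) * r ^ l := by group
    _ = r ^ (-j + l) := by rw [zpow_refl F.inv, ← mul_assoc, F.base.pair.t2, one_mul, zpow_add]

theorem even_split {s : G} (hs : s ∈ T) {i : ℤ} (h : s * t * s⁻¹ = t * r ^ (2 * i)) :
    r ^ i * s ∈ T ∧ r ^ i * s * t = t * (r ^ i * s) := by
  refine ⟨mul_mem (zpow_mem F.rT i) hs, mul_inv_eq_iff_eq_mul.mp ?_⟩
  rw [show r ^ i * s * t * (r ^ i * s)⁻¹ = r ^ i * (s * t * s⁻¹) * (r ^ i)⁻¹ by group, h, ← mul_assoc,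
    zpow_refl F.inv, ← zpow_neg, mul_assoc, mul_assoc, ← zpow_add, ← zpow_add,
    show -i + (2 * i + -i) = (0 : ℤ) by ring, zpow_zero, mul_one]

theorem nosq {p : G} (hp : p ∈ T) (hpt : p * t = t * p) : p * p ≠ z := fun e => by
  obtain ⟨k, hk⟩ := F.base.Tp ⟨p, hp⟩
  exact F.base.ctx.not_square F.base.pair (k := k) (congrArg Subtype.val hk) hpt e

/-- An element of `⟨r⟩` fixed by `t` is `1` or `z`. -/
theorem rot_fixed (x : ℤ) (h : r ^ x * t = t * r ^ x) : r ^ x = 1 ∨ r ^ x = z := by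
  have hc : (t * r ^ x) * t = t * (t * r ^ x) := by rw [mul_assoc, h]
  rcases F.base.ctx.mates F.base.pair (F.base.pair_of (F.all x).2) hc with e | e
  · left; exact mul_eq_left.mp e
  · right; exact mul_left_cancel e

theorem order_pow : ∃ m : ℕ, orderOf r = 2 ^ m := by
  obtain ⟨n, hn⟩ := F.base.Tp ⟨r, F.rT⟩
  obtain ⟨m, -, hm⟩ := (Nat.dvd_prime_pow Nat.prime_two).mp (orderOf_dvd_of_pow_eq_one (congrArg Subtype.val hn))
  exact ⟨m, hm⟩

end Frame

/-- A rotation of order at least 4, of index `m`, with its element `d` of order 4. -/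
structure Rot (A : Subgroup G) (z t : G) (T : Subgroup G) (r d : G) (m : ℕ) : Prop where
  frame : Frame A z t T r
  two_le : 2 ≤ m
  ord : orderOf r = 2 ^ m
  hd : d = r ^ ((2 : ℤ) ^ (m - 2))

theorem Frame.exists_rot {z t r : G} {T : Subgroup G} (F : Frame A z t T r) (h : r * r ≠ 1) :
    ∃ d : G, ∃ m : ℕ, Rot A z t T r d m := by
  obtain ⟨m, hm⟩ := F.order_pow
  refine ⟨_, m, F, ?_, hm, rfl⟩
  by_contra hlt
  refine h ?_
  rw [← pow_two, ← orderOf_dvd_iff_pow_eq_one, hm]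
  interval_cases m <;> norm_num

namespace Rot

variable {z t r d : G} {T : Subgroup G} {m : ℕ} (R : Rot A z t T r d m)
include R

theorem zpow_eq {i j : ℤ} : r ^ i = r ^ j ↔ (2 : ℤ) ^ m ∣ j - i := by
  rw [← Int.modEq_iff_dvd, zpow_eq_zpow_iff_modEq, R.ord]
  norm_cast

theorem four_dvd : (4 : ℤ) ∣ 2 ^ m := by
  obtain ⟨q, hq⟩ := Nat.exists_eq_add_of_le R.two_le
  exact ⟨2 ^ q, by rw [hq, pow_add]; norm_num⟩

theorem dT : d ∈ T := by rw [R.hd]; exact zpow_mem R.frame.rT _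

theorem dd : d * d = z := by
  have e : (2 : ℤ) ^ (m - 2) + 2 ^ (m - 2) = 2 ^ (m - 1) := by
    rw [← two_mul, ← pow_succ']
    congr 1
    have := R.two_le
    omega
  have hfix : r ^ ((2 : ℤ) ^ (m - 1)) * t = t * r ^ ((2 : ℤ) ^ (m - 1)) := by
    rw [zpow_refl R.frame.inv]
    congr 1
    rw [R.zpow_eq]
    refine ⟨1, ?_⟩
    rw [mul_one, sub_neg_eq_add, ← two_mul, ← pow_succ', Nat.sub_add_cancel (by have := R.two_le; omega)]
  rw [R.hd, ← zpow_add, e]
  refine (R.frame.rot_fixed _ hfix).resolve_left fun h => ?_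
  rw [← orderOf_dvd_iff_zpow_eq_one, R.ord] at h
  have h6 : (2 : ℕ) ^ m ∣ 2 ^ (m - 1) := by exact_mod_cast h
  have := Nat.le_of_dvd (pow_pos two_pos _) h6
  have := Nat.pow_lt_pow_right (a := 2) one_lt_two (show m - 1 < m by have := R.two_le; omega)
  omega

theorem d_inv : t * d * t⁻¹ = d⁻¹ := by
  rw [R.hd, refl_zpow R.frame.inv, zpow_neg]

theorem d_four : d ^ (4 : ℤ) = 1 := by
  rw [show (4 : ℤ) = 2 + 2 from rfl, zpow_add, zpow_two, R.dd, R.frame.base.pair.z2]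

theorem dinv_eq : d⁻¹ = d * z := by
  refine inv_eq_of_mul_eq_one_right ?_
  rw [← mul_assoc, R.dd, R.frame.base.pair.z2]

theorem d_ne : d⁻¹ ≠ d := fun e => R.frame.base.pair.z1 (by
  rw [← R.dd]; nth_rw 1 [← e]; exact inv_mul_cancel d)

theorem zr : z ∈ zpowers r := by
  rw [← R.dd, R.hd]; exact mul_mem (zpow_mem (mem_zpowers r) _) (zpow_mem (mem_zpowers r) _)

/-- A conjugation of `r` to `r ^ k` has `k` odd. -/
theorem odd_exp {s : G} {k : ℤ} (h : s * r * s⁻¹ = r ^ k) : Odd k := by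
  rcases Int.even_or_odd k with ⟨q, hq⟩ | h'
  · exfalso
    have h2 : s * r ^ ((2 : ℤ) ^ (m - 1)) * s⁻¹ = 1 := by
      rw [← conj_zpow, h, ← zpow_mul, hq, ← zpow_zero r, R.zpow_eq]
      refine ⟨-q, ?_⟩
      have e : (2 : ℤ) ^ m = 2 * 2 ^ (m - 1) := by
        rw [← pow_succ']; congr 1; have := R.two_le; omega
      rw [e]; ring
    have h3 := conj_eq_one_iff.mp h2
    rw [← orderOf_dvd_iff_zpow_eq_one, R.ord] at h3
    have h6 : (2 : ℕ) ^ m ∣ 2 ^ (m - 1) := by exact_mod_cast h3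
    have := Nat.le_of_dvd (pow_pos two_pos _) h6
    have := Nat.pow_lt_pow_right (a := 2) one_lt_two (show m - 1 < m by have := R.two_le; omega)
    omega
  · exact h'

theorem d_pow_odd {k : ℤ} (hk : Odd k) : d ^ k = d ∨ d ^ k = d⁻¹ := by
  obtain ⟨q, rfl⟩ := hk
  rcases q.even_or_odd' with ⟨q', rfl | rfl⟩
  · left
    rw [show 2 * (2 * q') + 1 = 4 * q' + 1 by ring, zpow_add, zpow_mul, R.d_four, one_zpow, one_mul, zpow_one]
  · right
    rw [show 2 * (2 * q' + 1) + 1 = 4 * (q' + 1) + (-1) by ring, zpow_add, zpow_mul, R.d_four, one_zpow, one_mul,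
      zpow_neg_one]

/-- Elements of `C_T(t)` centralise `d`. -/
theorem fix_d {p : G} (hp : p ∈ T) (hpt : p * t = t * p) : p * d * p⁻¹ = d := by
  haveI : Fact (Nat.Prime 2) := ⟨Nat.prime_two⟩
  have P0 := R.frame.base.pair
  have C := R.frame.base.ctx
  obtain ⟨j, k, -, hk⟩ := R.frame.act hp
  have hdk : p * d * p⁻¹ = d ^ k := by
    rw [R.hd, ← conj_zpow, hk, ← zpow_mul, ← zpow_mul, mul_comm]
  refine hdk.trans ((R.d_pow_odd (R.odd_exp hk)).resolve_right fun hi => ?_)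
  rw [hi] at hdk
  -- an involution `y d` centralising `t`
  obtain ⟨y, hy, hyy, hact⟩ := C.exists_root P0.zK P0.z2 P0.z1 R.frame.base.SX_isPGroup
    fun s hs => R.frame.base.comm_z hs
  have hyt := C.root_inv P0 hy hyy (hact t (mem_sup_right (mem_zpowers t)))
  set e := y * d with he
  have hyd : d * y = y * d := hy d (R.frame.base.TA R.dT)
  have hyz : y * z = z * y := by rw [← hyy]; group
  have het : e * t = t * e := by
    refine (mul_inv_eq_iff_eq_mul.mp ?_).symm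
    rw [he, show t * (y * d) * t⁻¹ = (t * y * t⁻¹) * (t * d * t⁻¹) by group, hyt, R.d_inv, R.dinv_eq,
      show y⁻¹ = y * z from inv_eq_of_mul_eq_one_right (by rw [← mul_assoc, hyy, P0.z2]), mul_assoc, ← mul_assoc z d,
      ← R.frame.base.comm_z (mem_sup_left R.dT), mul_assoc, P0.z2, mul_one]
  have hyN : zpowers y ≤ normalizer (T : Set G) := zpowers_le.mpr (mem_normalizer_iff.mpr fun s => by
    by_cases hs : s ∈ A
    · rw [show y * s * y⁻¹ = s by rw [← hy s hs, mul_inv_cancel_right]]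
    · refine iff_of_false (fun h => hs (R.frame.base.TA h)) fun h => hs ?_
      have h' := R.frame.base.TA h
      rw [show s = y⁻¹ * (y * s * y⁻¹) * y by group, mul_assoc, hy _ h', inv_mul_cancel_left]
      exact h')
  have hy4 : y ^ 2 ^ 2 = 1 := by rw [show 2 ^ 2 = 2 + 2 from rfl, pow_add, pow_two, hyy, P0.z2]
  have hP : IsPGroup 2 ↥((T ⊔ zpowers y) ⊓ centralizer ({t} : Set G)) :=
    (IsPGroup.to_sup_of_normal_left' R.frame.base.Tp (isPGroup_zpowers hy4) hyN).to_le inf_le_left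
  refine C.comm_ne P0 hP (fun q hq => mem_centralizer_singleton_iff.mp (mem_inf.mp hq).2) (p := p) (e := e)
    (mem_inf.mpr ⟨mem_sup_left hp, mem_centralizer_singleton_iff.mpr hpt⟩)
    (mem_inf.mpr ⟨mul_mem (mem_sup_right (mem_zpowers y)) (mem_sup_left R.dT),
      mem_centralizer_singleton_iff.mpr het⟩) ?_
  have hpy : p * y * p⁻¹ = y := by rw [hy p (R.frame.base.TA hp), mul_inv_cancel_right]
  rw [show p * e * p⁻¹ * e⁻¹ = (p * y * p⁻¹) * (p * d * p⁻¹) * e⁻¹ by rw [he]; group, hpy, hdk, he, mul_inv_rev,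
    show y * d⁻¹ * (d⁻¹ * y⁻¹) = y * (d * d)⁻¹ * y⁻¹ by group, R.dd, P0.zinv, hyz, mul_inv_cancel_right]

/-- Involutions of `C_T(t)` centralise `r`. -/
theorem fix_r {p : G} (hp : p ∈ T) (hpt : p * t = t * p) (hp2 : p * p = 1) : p * r * p⁻¹ = r := by
  obtain ⟨j, k, -, hk⟩ := R.frame.act hp
  have hd := R.fix_d hp hpt
  have hdk : r ^ (k * 2 ^ (m - 2)) = r ^ ((2 : ℤ) ^ (m - 2)) := by
    rw [zpow_mul, ← hk, conj_zpow, ← R.hd, hd]
  rw [R.zpow_eq] at hdk
  have hk2 : r ^ (k * k) = r := by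
    rw [zpow_mul, ← hk, conj_zpow, ← hk, show p * (p * r * p⁻¹) * p⁻¹ = p * p * r * (p * p)⁻¹ by group, hp2]
    group
  nth_rw 2 [← zpow_one r] at hk2
  rw [R.zpow_eq] at hk2
  -- `k - 1` is divisible by `2 ^ (m - 1)`
  obtain ⟨c, hc⟩ := hdk
  have e4 : (2 : ℤ) ^ m = 4 * 2 ^ (m - 2) := by
    rw [show (4 : ℤ) = 2 ^ 2 by norm_num, ← pow_add]; congr 1; have := R.two_le; omega
  have hk4 : k = 1 - 4 * c := by
    refine mul_right_cancel₀ (pow_ne_zero (m - 2) (two_ne_zero' ℤ)) ?_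
    rw [e4] at hc
    linear_combination -hc
  obtain ⟨c2, hc2⟩ := hk2
  -- `8 c (1 - 2 c)` is divisible by `2 ^ m`
  obtain ⟨a, b, hab⟩ := exists_bezout (a := 1 - 2 * c) ⟨-c, by ring⟩ m
  have hf : (2 : ℤ) ^ m ∣ 2 * (k - 1) := ⟨-c2 * a + b * (2 * (k - 1)), by
    rw [hk4] at hc2 ⊢
    linear_combination (-a) * hc2 + (8 * c) * hab⟩
  have hfix : r ^ (k - 1) * t = t * r ^ (k - 1) := by
    rw [zpow_refl R.frame.inv]
    congr 1
    rw [R.zpow_eq]
    obtain ⟨q, hq⟩ := hf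
    exact ⟨q, by linear_combination hq⟩
  rcases R.frame.rot_fixed _ hfix with e | e
  · rw [hk, show k = k - 1 + 1 by ring, zpow_add, e, one_mul, zpow_one]
  exfalso
  have hs := R.frame.all 1
  rw [zpow_one] at hs
  have hps : p * d * (t * r) = t * r * (p * d) := by
    refine mul_inv_eq_iff_eq_mul.mp ?_
    have h1 : d * (t * r) * d⁻¹ = t * r * z := by
      have h3 : d * t = t * d⁻¹ := by
        rw [R.hd, zpow_refl R.frame.inv, zpow_neg]
      have h4 : d⁻¹ * r * d⁻¹ = r * (d * d)⁻¹ := by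
        have hc5 : Commute d r := by rw [R.hd]; exact (Commute.refl r).zpow_left _
        rw [mul_inv_rev, ← mul_assoc r, ← (hc5.inv_left).eq]
      rw [← mul_assoc d, h3, mul_assoc t, mul_assoc t, h4, R.dd, R.frame.base.pair.zinv, mul_assoc]
    have h2 : p * (t * r) * p⁻¹ = t * r * z := by
      rw [show p * (t * r) * p⁻¹ = (p * t * p⁻¹) * (p * r * p⁻¹) by group, hk, hpt, mul_inv_cancel_right,
        show k = 1 + (k - 1) by ring, zpow_add, zpow_one, e, mul_assoc]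
    have hpz : p * z * p⁻¹ = z := by rw [R.frame.base.comm_z (mem_sup_left hp), mul_inv_cancel_right]
    rw [show p * d * (t * r) * (p * d)⁻¹ = p * (d * (t * r) * d⁻¹) * p⁻¹ by group, h1,
      show p * (t * r * z) * p⁻¹ = p * (t * r) * p⁻¹ * (p * z * p⁻¹) by group, h2, hpz, mul_assoc,
      R.frame.base.pair.z2, mul_one]
  have hsq : p * d * (p * d) = z := by
    have hdp : d * p = p * d := (mul_inv_eq_iff_eq_mul.mp hd).symm
    rw [mul_assoc, ← mul_assoc d, hdp, mul_assoc p d, ← mul_assoc, hp2, one_mul, R.dd]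
  obtain ⟨n, hn⟩ := R.frame.base.Tp ⟨p * d, mul_mem hp R.dT⟩
  exact R.frame.base.ctx.not_square (R.frame.base.pair_of hs.2) (k := n) (congrArg Subtype.val hn) hps hsq

end Rot

end CfsgLib.CyclicStandard
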