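import Cfsg.Agent.Lib.CyclicStandard.Generation

/-!
The Sylow 2-subgroup of `L` is `T⟨t⟩`: the centraliser `C` of `T` in `C_L(z)` has cyclic Sylow subgroups, and
`C_L(z)' ≤ A C²`.

Blueprint: `blueprint/S3148.md`, step 8.
-/

set_option autoImplicit false
set_option linter.unusedSectionVars false
set_option linter.style.haveILetI false

namespace CfsgLib.CyclicStandard

open Subgroup Cfsg
open scoped commutatorElement

universe u

variable {G : Type u} [Group G] [Finite G] {A : Subgroup G}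

/-- The subgroup generated by the squares of `C`. -/
def sqs (A S L : Subgroup G) (z : G) : Subgroup G :=
  closure ((fun c => c * c) '' (cc A S L z : Set G))

namespace Env

variable {S L : Subgroup G} {z t r d a : G} {m : ℕ} (E : Env A S L z t r d a m)
include E

theorem sq_mem {c : G} (hc : c ∈ cc A S L z) : c * c ∈ sqs A S L z := subset_closure ⟨c, hc, rfl⟩

theorem sqs_le : sqs A S L z ≤ cc A S L z := (closure_le _).mpr (by
  rintro _ ⟨c, hc, rfl⟩; exact mul_mem hc hc)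

theorem sqs_conj {n w : G} (hn : n ∈ nn A S L z r) (hw : w ∈ sqs A S L z) : n * w * n⁻¹ ∈ sqs A S L z := by
  have key : sqs A S L z ≤ (sqs A S L z).comap (MulAut.conj n).toMonoidHom := (closure_le _).mpr (by
    rintro _ ⟨c, hc, rfl⟩
    show n * (c * c) * n⁻¹ ∈ sqs A S L z
    rw [show n * (c * c) * n⁻¹ = n * c * n⁻¹ * (n * c * n⁻¹) by group]
    exact E.sq_mem (E.cc_conj hn hc))
  exact key hw

theorem odd_sqs {c : G} (hc : c ∈ cc A S L z) (ho : Odd (orderOf c)) : c ∈ sqs A S L z := by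
  obtain ⟨k, hk⟩ := ho
  have e : c = c ^ (k + 1) * c ^ (k + 1) := by
    rw [← pow_add, show k + 1 + (k + 1) = orderOf c + 1 by omega, pow_succ, pow_orderOf_eq_one, one_mul]
  rw [e]
  exact E.sq_mem (pow_mem hc _)

theorem comm_sqs {x y : G} (hx : x ∈ cc A S L z) (hy : y ∈ cc A S L z) : x * y * x⁻¹ * y⁻¹ ∈ sqs A S L z := by
  rw [show x * y * x⁻¹ * y⁻¹ = x * x * ((x⁻¹ * y) * (x⁻¹ * y)) * (y⁻¹ * y⁻¹) by group]
  exact mul_mem (mul_mem (E.sq_mem hx) (E.sq_mem (mul_mem (inv_mem hx) hy))) (E.sq_mem (inv_mem hy))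

theorem T_cent_mem {s : G} (hs : s ∈ S ⊓ A) (hc : s ∈ cc A S L z) : s = 1 ∨ s = z :=
  E.quat.grp_center (by rw [E.quat.T_eq]; exact hs) fun q hq => (mem_inf.mp hc).2 q (E.quat.grp_le hq)

theorem T_par {s : G} (hs : s ∈ S ⊓ A) : ∃ i : ℤ, s * a * s⁻¹ = a * r ^ (2 * i) := by
  rcases E.quat.grp_cases (x := s) (by rw [E.quat.T_eq]; exact hs) with ⟨i, rfl⟩ | ⟨i, rfl⟩
  · refine ⟨-i, ?_⟩
    have h := E.rot_conj_ar i 0
    rw [zpow_zero, mul_one] at h
    rw [h]; congr 2; ring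
  · refine ⟨i, ?_⟩
    have h := E.rot_conj_ar i 0
    rw [zpow_zero, mul_one] at h
    rw [show a * r ^ i * a * (a * r ^ i)⁻¹ = a * (r ^ i * a * (r ^ i)⁻¹) * a⁻¹ by group, h,
      show a * (a * r ^ (0 - 2 * i)) * a⁻¹ = a * (a * r ^ (0 - 2 * i) * a⁻¹) by group, ← conj_zpow, E.quat.a_inv,
      inv_zpow']
    congr 2; ring

/-- `t` does not act on `T` as an inner automorphism. -/
theorem t_not_inner : t ∉ (S ⊓ A) ⊔ cc A S L z := by
  intro ht
  have hn : cc A S L z ≤ normalizer ((S ⊓ A : Subgroup G) : Set G) := inf_le_right.trans (centralizer_le_normalizer _)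
  obtain ⟨s, hs, c, hc, he⟩ := CfsgLib.mem_sup_of_le_normalizer hn ht
  obtain ⟨i, hi⟩ := E.T_par hs
  obtain ⟨j, ⟨j0, rfl⟩, hj⟩ := E.quat.odd
  have R := E.quat.rot
  have hca : c * a * c⁻¹ = a := by
    rw [← (mem_inf.mp hc).2 a E.quat.aT, mul_inv_cancel_right]
  have h1 : t * a * t⁻¹ = a * r ^ (2 * i) := by
    rw [← hi, ← he, show s * c * a * (s * c)⁻¹ = s * (c * a * c⁻¹) * s⁻¹ by group, hca]
  have hta : t * a * t⁻¹ = a * r ^ (-(2 * j0 + 1)) := by
    have h : r ^ (2 * j0 + 1) * a = a * r ^ (-(2 * j0 + 1)) := zpow_refl (t := a) E.quat.a_inv _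
    rw [← h]
    calc t * a * t⁻¹ = t * (a * t * a⁻¹) * a * (t * t)⁻¹ := by group
      _ = r ^ (2 * j0 + 1) * a := by rw [hj, ← mul_assoc, R.frame.base.pair.t2, one_mul, inv_one, mul_one]
  rw [h1, mul_right_inj, R.zpow_eq] at hta
  obtain ⟨c', hc'⟩ := hta
  have e2 : (2 : ℤ) ^ m = 2 * 2 ^ (m - 1) := by rw [← pow_succ']; congr 1; have := R.two_le; omega
  rw [e2] at hc'
  have h5 : (1 : ℤ) = 2 * (-(2 ^ (m - 1) * c') - i - j0) := by linear_combination -hc'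
  omega

/-- **`S ∩ L = T⟨t⟩`.** -/
theorem sylow_eq [Group.IsPerfect ↥L] : S ⊓ L = (S ⊓ A) ⊔ zpowers t := by
  haveI : Fact (Nat.Prime 2) := ⟨Nat.prime_two⟩
  refine le_antisymm ?_ E.SX_le
  have B := E.sett.base
  set T := S ⊓ A with hT
  set C := cc A S L z with hC
  set N := nn A S L z r with hN
  have hTN : T ≤ N := fun s hs => E.P_nn (E.SX_le (mem_sup_left hs))
  have hTC_le : T ⊔ C ≤ N := sup_le hTN E.cc_nn
  have hCT : C ≤ normalizer (T : Set G) := inf_le_right.trans (centralizer_le_normalizer _)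
  have hCA : ∀ (X : Subgroup G), X ≤ C → X ≤ normalizer (A : Set G) := fun X hX =>
    hX.trans (inf_le_left.trans E.centL_N)
  have hzC : z ∈ C :=
    mem_inf.mpr ⟨E.A_centL B.zA, mem_centralizer_iff.mpr fun s hs => B.zc (B.TA hs)⟩
  -- the cyclic Sylow subgroup of `C`
  set W := (S ⊓ L) ⊓ C with hW
  haveI : IsCyclic ↥W := by
    haveI := E.sett.cent_cyclic E.quat
    refine Subgroup.isCyclic_of_le (?_ : W ≤ S ⊓ centralizer ((S ⊓ A : Subgroup G) : Set G))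
    exact le_inf (inf_le_left.trans inf_le_left) (inf_le_right.trans inf_le_right)
  obtain ⟨⟨w0, hw0⟩, hgen⟩ := IsCyclic.exists_generator (α := ↥W)
  have hWgen : ∀ w ∈ W, ∃ i : ℤ, w = w0 ^ i := fun w hw => by
    obtain ⟨i, hi⟩ := hgen ⟨w, hw⟩
    exact ⟨i, (congrArg Subtype.val hi).symm⟩
  have hw0C : w0 ∈ C := (mem_inf.mp hw0).2
  have hw0P : w0 ∈ S ⊓ L := (mem_inf.mp hw0).1
  have hdec : ∀ x ∈ S ⊓ L, ∀ {X : Subgroup G}, X ≤ C → x ∈ A ⊔ X → ∃ s ∈ T, ∃ c ∈ C, x = s * c ∧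
      ∃ u ∈ X, ∃ v ∈ C, v ∈ A ∧ c = v * u := by
    intro x hx X hX hxm
    obtain ⟨b, hb, u, hu, rfl⟩ := CfsgLib.mem_sup_of_le_normalizer (hCA X hX) hxm
    have hbN : b ∈ N := by
      have := mul_mem (E.P_nn hx) (inv_mem (E.cc_nn (hX hu)))
      rwa [mul_inv_cancel_right] at this
    obtain ⟨s, hs, v, hv, rfl⟩ := CfsgLib.mem_sup_of_le_normalizer hCT (E.A_nn hb hbN)
    exact ⟨s, hs, v * u, mul_mem hv (hX hu), by group, u, hu, v, hv,
      (A.mul_mem_cancel_left (B.TA hs)).mp hb, rfl⟩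
  -- `P` is generated by `T`, `t` and `W`
  set D0 := (T ⊔ zpowers t) ⊔ W with hD0
  have hPD : S ⊓ L ≤ D0 := by
    refine E.sylow_le_base0.trans (sup_le le_sup_left fun x hx => ?_)
    obtain ⟨hxP, hxc⟩ := mem_inf.mp hx
    obtain ⟨s, hs, c, hc, rfl, -⟩ := hdec x hxP le_rfl (E.commutator_le_AC hxc)
    refine mul_mem (mem_sup_left (mem_sup_left hs)) (mem_sup_right (mem_inf.mpr ⟨?_, hc⟩))
    have := mul_mem (inv_mem (E.SX_le (mem_sup_left hs))) hxP
    rwa [inv_mul_cancel_left] at this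
  by_cases hwz : w0 ∈ T
  · refine hPD.trans (sup_le le_rfl fun w hw => ?_)
    obtain ⟨i, rfl⟩ := hWgen w hw
    exact mem_sup_left (zpow_mem hwz i)
  exfalso
  -- `z` is a square in `C`
  have hzW : z ∈ W := mem_inf.mpr ⟨mem_inf.mpr ⟨E.sett.zS, E.AL B.zA⟩, hzC⟩
  have hzsq : z ∈ sqs A S L z := by
    obtain ⟨i, hi⟩ := hWgen z hzW
    rcases i.even_or_odd' with ⟨q, rfl | rfl⟩
    · have := E.sq_mem (zpow_mem hw0C q)
      rwa [← zpow_add, ← two_mul, ← hi] at this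
    · exfalso
      obtain ⟨k, hk⟩ := E.sett.Sp ⟨w0, (mem_inf.mp hw0P).1⟩
      obtain ⟨u, v, huv⟩ := exists_bezout (a := (2 * q + 1 : ℤ)) ⟨q, rfl⟩ k
      refine hwz ?_
      have e : w0 = z ^ u := by
        rw [hi, ← zpow_mul]
        conv_lhs => rw [← zpow_one w0, ← huv, zpow_add]
        rw [show v * (2 : ℤ) ^ k = ((2 ^ k : ℕ) : ℤ) * v by push_cast; ring, zpow_mul w0 ((2 ^ k : ℕ) : ℤ), zpow_natCast,
          show w0 ^ 2 ^ k = 1 from congrArg Subtype.val hk, one_zpow, mul_one, mul_comm u]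
      rw [e]
      exact zpow_mem B.zT u
  set M := A ⊔ sqs A S L z with hM
  have hMN : ∀ n ∈ N, ∀ x ∈ M, n * x * n⁻¹ ∈ M := by
    intro n hn x hx
    obtain ⟨b, hb, u, hu, rfl⟩ := CfsgLib.mem_sup_of_le_normalizer (hCA _ E.sqs_le) hx
    rw [show n * (b * u) * n⁻¹ = n * b * n⁻¹ * (n * u * n⁻¹) by group]
    exact mul_mem_sup ((mem_normalizer_iff.mp (E.centL_N (mem_inf.mp (mem_inf.mp hn).1).1) b).mp hb) (E.sqs_conj hn hu)
  haveI : (M.subgroupOf N).Normal := ⟨fun x hx n => by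
    rw [mem_subgroupOf] at hx ⊢
    push_cast
    exact hMN n n.2 x hx⟩
  let π := QuotientGroup.mk' (M.subgroupOf N)
  have hker : ∀ x : ↥N, π x = 1 ↔ (x : G) ∈ M := fun x => QuotientGroup.eq_one_iff x
  let ω := π ⟨w0, E.cc_nn hw0C⟩
  let PN : Sylow 2 ↥N := ((E.sett.Sp.to_le (inf_le_left : S ⊓ L ≤ S)).of_equiv
    (subgroupOfEquivOfLe E.P_nn).symm).toSylow fun h => E.Lfull (h.trans (by
      show (S ⊓ L).relIndex N ∣ _
      rw [← relIndex_mul_relIndex (S ⊓ L) N L E.P_nn (inf_le_left.trans (inf_le_left.trans inf_le_left))]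
      exact dvd_mul_right _ _))
  haveI : (C.subgroupOf N).Normal := ⟨fun x hx n => by
    rw [mem_subgroupOf] at hx ⊢
    push_cast
    exact E.cc_conj n.2 hx⟩
  let WK : Sylow 2 ↥(C.subgroupOf N) := CfsgLib.sylowInfNormal PN (C.subgroupOf N)
  have hC2 : ∀ (c : ↥N), (c : G) ∈ C → π c = 1 ∨ π c = ω := by
    intro c hc
    obtain ⟨c2, co, h2, ho, e, ⟨k, hk⟩, hodd⟩ := two_odd_split (c : G)
    have hc2C : c2 ∈ C := (zpowers_le.mpr hc) h2
    have hcoC : co ∈ C := (zpowers_le.mpr hc) ho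
    let cK : ↥(C.subgroupOf N) := ⟨⟨c2, E.cc_nn hc2C⟩, hc2C⟩
    obtain ⟨k', -, hk'⟩ := (Nat.dvd_prime_pow Nat.prime_two).mp
      (orderOf_dvd_of_pow_eq_one (x := cK) (n := 2 ^ k) (Subtype.ext (Subtype.ext hk)))
    obtain ⟨h0, hh0⟩ := CfsgLib.LocalFusion.exists_conj_mem WK (t := cK) (a := k') hk'
    set h : G := ((h0 : ↥N) : G) with hhdef
    have hhC : h ∈ C := h0.2
    have hw : h * c2 * h⁻¹ ∈ W :=
      mem_inf.mpr ⟨hh0, mul_mem (mul_mem hhC hc2C) (inv_mem hhC)⟩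
    obtain ⟨i, hi⟩ := hWgen _ hw
    have hc2eq : c2 = h⁻¹ * w0 ^ i * h⁻¹⁻¹ := by rw [← hi]; group
    have hkey : c2 ∈ sqs A S L z ∨ c2 * w0⁻¹ ∈ sqs A S L z := by
      rcases i.even_or_odd' with ⟨q, rfl | rfl⟩
      · left
        rw [hc2eq, two_mul, zpow_add]
        exact E.sqs_conj (inv_mem (E.cc_nn hhC)) (E.sq_mem (zpow_mem hw0C q))
      · right
        rw [hc2eq, show h⁻¹ * w0 ^ (2 * q + 1) * h⁻¹⁻¹ * w0⁻¹ =
          h⁻¹ * w0 ^ (2 * q + 1) * h⁻¹⁻¹ * (w0 ^ (2 * q + 1))⁻¹ * (w0 ^ q * w0 ^ q) by group]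
        exact mul_mem (E.comm_sqs (inv_mem hhC) (zpow_mem hw0C _)) (E.sq_mem (zpow_mem hw0C q))
    rcases hkey with h1 | h1
    · left
      refine (hker c).mpr ?_
      rw [e]
      exact mem_sup_right (mul_mem h1 (E.odd_sqs hcoC hodd))
    · right
      refine mul_inv_eq_one.mp ((map_inv π _ ▸ (map_mul π c _).symm).trans ((hker _).mpr ?_))
      push_cast
      refine mem_sup_right ?_
      rw [e, show c2 * co * w0⁻¹ = c2 * w0⁻¹ * (w0 * co * w0⁻¹) by group]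
      exact mul_mem h1 (E.sqs_conj (E.cc_nn hw0C) (E.odd_sqs hcoC hodd))
  have hω2 : ω * ω = 1 := by
    rw [← map_mul]
    refine (hker _).mpr ?_
    exact mem_sup_right (E.sq_mem hw0C)
  have hωc : ∀ n : ↥N, π n * ω = ω * π n := by
    intro n
    have hconj : π n * ω * (π n)⁻¹ = π (n * ⟨w0, E.cc_nn hw0C⟩ * n⁻¹) := by rw [map_mul, map_mul, map_inv]
    rcases hC2 (n * ⟨w0, E.cc_nn hw0C⟩ * n⁻¹) (by push_cast; exact E.cc_conj n.2 hw0C) with h | h <;>
      rw [h] at hconj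
    · rw [conj_eq_one_iff.mp hconj, mul_one, one_mul]
    · exact mul_inv_eq_iff_eq_mul.mp hconj
  have hTM : ∀ x : ↥N, (x : G) ∈ T ⊔ C → π x = 1 ∨ π x = ω := by
    intro x hx
    obtain ⟨s, hs, c, hc, e⟩ := CfsgLib.mem_sup_of_le_normalizer hCT hx
    have hxeq : x = ⟨s, hTN hs⟩ * ⟨c, E.cc_nn hc⟩ := Subtype.ext e.symm
    rw [hxeq, map_mul, (hker ⟨s, hTN hs⟩).mpr (mem_sup_left (B.TA hs)), one_mul]
    exact hC2 _ hc
  have hcomm : ∀ x y : ↥N, π x * π y * (π x)⁻¹ * (π y)⁻¹ = 1 ∨ π x * π y * (π x)⁻¹ * (π y)⁻¹ = ω := by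
    intro x y
    rw [← map_inv, ← map_inv, ← map_mul, ← map_mul, ← map_mul]
    exact hTM _ (by push_cast; exact E.comm_TC x.2 y.2)
  -- elements of odd order are central
  have hoddc : ∀ x y : ↥N, Odd (orderOf (x : G)) → π x * π y = π y * π x := by
    intro x y ho
    set e := π x * π y * (π x)⁻¹ * (π y)⁻¹ with he
    have hec : π x * e = e * π x ∧ e * e = 1 := by
      rcases hcomm x y with h | h <;> rw [he, h]
      · simp
      · exact ⟨hωc x, hω2⟩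
    have hexy : π x * π y * (π x)⁻¹ = e * π y := by rw [he]; group
    have hpow : ∀ k : ℕ, π x ^ k * π y * (π x ^ k)⁻¹ = e ^ k * π y := by
      intro k
      induction k with
      | zero => simp
      | succ k ih =>
        have hck : π x * e ^ k * (π x)⁻¹ = e ^ k := by
          rw [(show Commute (π x) e from hec.1).pow_right k |>.eq, mul_inv_cancel_right]
        calc π x ^ (k + 1) * π y * (π x ^ (k + 1))⁻¹ = π x * (π x ^ k * π y * (π x ^ k)⁻¹) * (π x)⁻¹ := by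
              rw [pow_succ']; group
          _ = π x * e ^ k * (π x)⁻¹ * (π x * π y * (π x)⁻¹) := by rw [ih]; group
          _ = e ^ (k + 1) * π y := by rw [hck, hexy, pow_succ]; exact (mul_assoc _ _ _).symm
    have h0 := hpow (orderOf (x : G))
    rw [← map_pow, show x ^ orderOf (x : G) = 1 from Subtype.ext (pow_orderOf_eq_one (x : G)), map_one, one_mul,
      inv_one, mul_one] at h0
    have he1 : e = 1 := by
      obtain ⟨k, hk⟩ := ho
      have h6 := mul_eq_right.mp h0.symm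
      rwa [hk, pow_succ, pow_mul, pow_two, hec.2, one_pow, one_mul] at h6
    rw [he1, one_mul] at hexy
    exact mul_inv_eq_iff_eq_mul.mp hexy
  -- the image of `P` is abelian
  let τ := π ⟨t, E.P_nn (E.SX_le (mem_sup_right (mem_zpowers t)))⟩
  set Z := zpowers τ ⊔ zpowers ω with hZ
  have hωZ : ω ∈ Z := mem_sup_right (mem_zpowers ω)
  have hPZ : ∀ x : ↥N, (x : G) ∈ S ⊓ L → π x ∈ Z := by
    have hle : S ⊓ L ≤ (Z.comap π).map N.subtype := by
      refine hPD.trans (sup_le (sup_le (fun s hs => ?_) (zpowers_le.mpr ?_)) fun w hw => ?_)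
      · exact ⟨⟨s, hTN hs⟩, show π _ ∈ Z by
          rw [(hker ⟨s, hTN hs⟩).mpr (mem_sup_left (B.TA hs))]; exact one_mem _, rfl⟩
      · exact ⟨_, show τ ∈ Z from mem_sup_left (mem_zpowers τ), rfl⟩
      · obtain ⟨i, rfl⟩ := hWgen w hw
        refine ⟨⟨w0, E.cc_nn hw0C⟩ ^ i, show π _ ∈ Z by rw [map_zpow]; exact zpow_mem hωZ i, ?_⟩
        rfl
    intro x hx
    obtain ⟨y, hy, e⟩ := hle hx
    rw [show x = y from Subtype.ext e.symm]
    exact hy
  have hωall : ∀ q, q * ω = ω * q := fun q => by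
    obtain ⟨n, rfl⟩ := QuotientGroup.mk'_surjective _ q
    exact hωc n
  have hnω : zpowers ω ≤ normalizer (zpowers τ : Set _) := zpowers_le.mpr (centralizer_le_normalizer _
    (mem_centralizer_iff.mpr fun q _ => hωall q))
  have hZc : ∀ p ∈ Z, ∀ q ∈ Z, p * q = q * p := by
    intro p hp q hq
    obtain ⟨x, ⟨i, rfl⟩, x', ⟨i', rfl⟩, rfl⟩ := CfsgLib.mem_sup_of_le_normalizer hnω hp
    obtain ⟨y, ⟨j, rfl⟩, y', ⟨j', rfl⟩, rfl⟩ := CfsgLib.mem_sup_of_le_normalizer hnω hq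
    have c1 : Commute (τ ^ i) (τ ^ j) := (Commute.refl τ).zpow_zpow i j
    have c2 : Commute (τ ^ i) (ω ^ j') := (show Commute τ ω from hωall τ).zpow_zpow i j'
    have c3 : Commute (ω ^ i') (τ ^ j) := ((show Commute τ ω from hωall τ).zpow_zpow j i').symm
    have c4 : Commute (ω ^ i') (ω ^ j') := (Commute.refl ω).zpow_zpow i' j'
    exact ((c1.mul_right c2).mul_left (c3.mul_right c4)).eq
  have htwo : ∀ x : ↥N, (∃ k : ℕ, (x : G) ^ 2 ^ k = 1) → π x ∈ Z := by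
    rintro x ⟨k, hk⟩
    obtain ⟨k', -, hk'⟩ := (Nat.dvd_prime_pow Nat.prime_two).mp
      (orderOf_dvd_of_pow_eq_one (x := x) (n := 2 ^ k) (Subtype.ext hk))
    obtain ⟨g, hg⟩ := CfsgLib.LocalFusion.exists_conj_mem PN (t := x) (a := k') hk'
    have h1 := hPZ (g * x * g⁻¹) hg
    rw [map_mul, map_mul, map_inv] at h1
    rw [show π x = (π g * π x * (π g)⁻¹ * (π x)⁻¹)⁻¹ * (π g * π x * (π g)⁻¹) by group]
    refine mul_mem (inv_mem ?_) h1
    rcases hcomm g x with h | h <;> rw [h]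
    exacts [one_mem _, hωZ]
  have habel : ∀ n ∈ N, ∀ n' ∈ N, n * n' * n⁻¹ * n'⁻¹ ∈ M := by
    intro n hn n' hn'
    obtain ⟨p2, po, h2, ho, e, hp, hodd⟩ := two_odd_split n
    obtain ⟨q2, qo, g2, go, e', hq, hodd'⟩ := two_odd_split n'
    have hle : zpowers n ≤ N := zpowers_le.mpr hn
    have hle' : zpowers n' ≤ N := zpowers_le.mpr hn'
    let P2 : ↥N := ⟨p2, hle h2⟩
    let PO : ↥N := ⟨po, hle ho⟩
    let Q2 : ↥N := ⟨q2, hle' g2⟩
    let QO : ↥N := ⟨qo, hle' go⟩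
    have c1 : Commute (π P2) (π Q2) := hZc _ (htwo P2 hp) _ (htwo Q2 hq)
    have c2 : Commute (π P2) (π QO) := (hoddc QO P2 hodd').symm
    have c3 : Commute (π PO) (π Q2 * π QO) :=
      (show Commute (π PO) (π Q2) from hoddc PO Q2 hodd).mul_right (hoddc PO QO hodd)
    have hall : Commute (π P2 * π PO) (π Q2 * π QO) := (c1.mul_right c2).mul_left c3
    have h5 : π (P2 * PO * (Q2 * QO) * (P2 * PO)⁻¹ * (Q2 * QO)⁻¹) = 1 := by
      rw [map_mul, map_mul, map_mul, map_inv, map_inv, map_mul, map_mul, hall.eq, mul_inv_cancel_right,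
        mul_inv_cancel]
    have h6 := (hker _).mp h5
    push_cast at h6
    rw [e, e']
    exact h6
  have hN1 : ⁅centL L z, centL L z⁆ ≤ M := E.commutator_le_of le_sup_left habel
  -- so `w0` would be a product of squares
  set Y := T ⊔ sqs A S L z with hY
  have hYN : Y ≤ N := sup_le hTN (E.sqs_le.trans E.cc_nn)
  have htN : t ∈ N := E.P_nn (E.SX_le (mem_sup_right (mem_zpowers t)))
  have htY : zpowers t ≤ normalizer (Y : Set G) := by
    rw [zpowers_le]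
    have key : ∀ y ∈ Y, t * y * t⁻¹ ∈ Y := fun y hy => by
      obtain ⟨s, hs, u, hu, rfl⟩ := CfsgLib.mem_sup_of_le_normalizer (E.sqs_le.trans hCT) hy
      rw [show t * (s * u) * t⁻¹ = t * s * t⁻¹ * (t * u * t⁻¹) by group]
      exact mul_mem_sup (B.tT s hs) (E.sqs_conj htN hu)
    refine mem_normalizer_iff.mpr fun y => ⟨key y, fun h => ?_⟩
    have := key _ h
    rwa [show t * (t * y * t⁻¹) * t⁻¹ = t * t * y * (t * t)⁻¹ by group, B.pair.t2, one_mul, inv_one, mul_one] at this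
  have hw0Y : w0 ∈ Y ⊔ zpowers t := by
    have hle : base0 A S L z t ≤ Y ⊔ zpowers t := by
      refine sup_le (sup_le (le_sup_left.trans le_sup_left) le_sup_right) fun x hx => ?_
      obtain ⟨hxP, hxc⟩ := mem_inf.mp hx
      obtain ⟨s, hs, c, hc, rfl, u, hu, v, hvC, hvA, rfl⟩ := hdec x hxP E.sqs_le (hN1 hxc)
      refine mem_sup_left (mul_mem_sup hs (mul_mem ?_ hu))
      -- an element of `A ∩ C`
      obtain ⟨v2, vo, h2, ho, e, ⟨k, hk⟩, hodd⟩ := two_odd_split v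
      have hle : zpowers v ≤ A ⊓ C := zpowers_le.mpr (mem_inf.mpr ⟨hvA, hvC⟩)
      let T0 : Sylow 2 ↥A := (B.Tp.of_equiv (subgroupOfEquivOfLe B.TA).symm).toSylow B.Tfull
      have hv2T : v2 ∈ T := CfsgLib.mem_sylow_of_mem_centralizer T0 (x := (⟨v2, (mem_inf.mp (hle h2)).1⟩ : ↥A))
        ⟨k, Subtype.ext (by rw [coe_pow]; exact hk)⟩
        fun w hw => Subtype.ext ((mem_inf.mp (mem_inf.mp (hle h2)).2).2 (w : G) hw).symm
      rw [e]
      refine mul_mem ?_ (E.odd_sqs (mem_inf.mp (hle ho)).2 hodd)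
      rcases E.T_cent_mem hv2T (mem_inf.mp (hle h2)).2 with h | h <;> rw [h]
      exacts [one_mem _, hzsq]
    exact hle (E.sylow_le_base0 hw0P)
  obtain ⟨y, hy, b, ⟨i, rfl⟩, he⟩ := CfsgLib.mem_sup_of_le_normalizer htY hw0Y
  have hyTC : y ∈ T ⊔ C := (sup_le_sup_left E.sqs_le T) hy
  rcases B.t_pow i with h | h
  swap
  · refine E.t_not_inner ?_
    have e : t = y⁻¹ * w0 := by simp only [h] at he; rw [← he]; group
    rw [e]
    exact mul_mem (inv_mem hyTC) (mem_sup_right hw0C)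
  simp only [h, mul_one] at he
  have hw0sq : w0 ∈ sqs A S L z := by
    obtain ⟨s, hs, u, hu, rfl⟩ := CfsgLib.mem_sup_of_le_normalizer (E.sqs_le.trans hCT) hy
    rw [← he]
    refine mul_mem ?_ hu
    have hsC : s ∈ C := by
      have := mul_mem (he ▸ hw0C) (inv_mem (E.sqs_le hu))
      rwa [mul_inv_cancel_right] at this
    rcases E.T_cent_mem hs hsC with h | h <;> rw [h]
    exacts [one_mem _, hzsq]
  -- transfer in `C`
  let WC : Subgroup ↥C := W.subgroupOf C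
  have hWCfull : ¬ 2 ∣ WC.index := by
    have h1 := WK.not_dvd_index
    let e : ↥(C.subgroupOf N) ≃* ↥C := subgroupOfEquivOfLe E.cc_nn
    have h2 : WC = (WK : Subgroup ↥(C.subgroupOf N)).map e.toMonoidHom := by
      ext w
      constructor
      · intro hw
        exact ⟨e.symm w, (mem_inf.mp hw).1, e.apply_symm_apply w⟩
      · rintro ⟨v, hv, rfl⟩
        exact mem_inf.mpr ⟨hv, (e v).2⟩
    rw [h2]
    exact (index_map_equiv (WK : Subgroup ↥(C.subgroupOf N)) e).symm ▸ h1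
  let Ps : Sylow 2 ↥C := ((E.sett.Sp.to_le (inf_le_left.trans inf_le_left : W ≤ S)).of_equiv
    (subgroupOfEquivOfLe (inf_le_right : W ≤ C)).symm).toSylow hWCfull
  have hPs : IsCyclic ↥(Ps : Subgroup ↥C) :=
    isCyclic_of_surjective _ (subgroupOfEquivOfLe (inf_le_right : W ≤ C)).symm.surjective
  have hev : (Nat.card ↥C).minFac = 2 := by
    rw [Nat.minFac_eq_two_iff]
    have h7 := Subgroup.orderOf_dvd_natCard _ hzC
    rwa [orderOf_eq_prime (by rw [pow_two, B.pair.z2]) B.pair.z1] at h7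
  have hnc := IsCyclic.normalizer_le_centralizer hev hPs
  let χ := MonoidHom.transferSylow Ps hnc
  let w0C : ↥(Ps : Subgroup ↥C) := ⟨⟨w0, hw0C⟩, hw0⟩
  have hgenP : ∀ q : ↥(Ps : Subgroup ↥C), ∃ i : ℤ, q = w0C ^ i := fun q => by
    obtain ⟨i, hi⟩ := hWgen ((q : ↥C) : G) q.2
    exact ⟨i, Subtype.ext (Subtype.ext (by push_cast; exact hi))⟩
  have hsub : sqs A S L z ≤ ((zpowers (w0C * w0C)).comap χ).map C.subtype := (closure_le _).mpr (by
    rintro _ ⟨c, hc, rfl⟩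
    refine ⟨⟨c, hc⟩ * ⟨c, hc⟩, ?_, rfl⟩
    show χ _ ∈ zpowers (w0C * w0C)
    obtain ⟨i, hi⟩ := hgenP (χ ⟨c, hc⟩)
    rw [map_mul, hi, ← (Commute.refl w0C).mul_zpow]
    exact zpow_mem (mem_zpowers _) i)
  obtain ⟨v, hv, hve⟩ := hsub hw0sq
  rw [show v = ⟨w0, hw0C⟩ from Subtype.ext hve] at hv
  obtain ⟨l, hl⟩ := hv
  have hχ : χ ⟨w0, hw0C⟩ = ⟨(⟨w0, hw0C⟩ : ↥C) ^ (Ps : Subgroup ↥C).index, _⟩ :=
    MonoidHom.transferSylow_eq_pow Ps hnc _ hw0
  rw [hχ] at hl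
  have hG : (w0 * w0) ^ l = w0 ^ (Ps : Subgroup ↥C).index := by
    have := congrArg (fun q : ↥(Ps : Subgroup ↥C) => ((q : ↥C) : G)) hl
    push_cast at this
    exact this
  obtain ⟨k, hk⟩ := E.sett.Sp ⟨w0, (mem_inf.mp hw0P).1⟩
  have hidx : Odd (Ps : Subgroup ↥C).index := Nat.odd_iff.mpr (Nat.two_dvd_ne_zero.mp Ps.not_dvd_index)
  obtain ⟨q, hq⟩ := hidx
  have h8 : w0 ^ (2 * ((q : ℤ) - l) + 1) = 1 := by
    rw [show (2 * ((q : ℤ) - l) + 1) = ((2 * q + 1 : ℕ) : ℤ) - 2 * l by push_cast; ring, zpow_sub, zpow_natCast, ← hq,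
      ← hG, zpow_mul, zpow_two, mul_inv_cancel]
  obtain ⟨u, v', huv⟩ := exists_bezout (a := 2 * ((q : ℤ) - l) + 1) ⟨_, rfl⟩ k
  refine hwz ?_
  have h9 : w0 = 1 := by
    rw [← zpow_one w0, ← huv, zpow_add, mul_comm u, zpow_mul, h8, one_zpow, one_mul,
      show v' * (2 : ℤ) ^ k = ((2 ^ k : ℕ) : ℤ) * v' by push_cast; ring, zpow_mul, zpow_natCast,
      show w0 ^ 2 ^ k = 1 from congrArg Subtype.val hk, one_zpow]
  rw [h9]
  exact one_mem _

end Env

end CfsgLib.CyclicStandard
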