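import Cfsg.Agent.Lib.CyclicStandard.Local
import Cfsg.Agent.Lib.Transfer

/-!
Fusion in `L`: the Sylow 2-subgroup of `L` is generated by `T⟨t⟩` and its intersection with `C_L(z)'`.

Blueprint: `blueprint/S3148.md`, step 8.
-/

set_option autoImplicit false
set_option linter.unusedSectionVars false
set_option linter.style.haveILetI false

namespace CfsgLib.CyclicStandard

open Subgroup Cfsg
open scoped IsMulCommutative commutatorElement

universe u

variable {G : Type u} [Group G] [Finite G] {A : Subgroup G}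

/-- `T⟨t⟩ (P ∩ C_L(z)')`. -/
def base0 (A S L : Subgroup G) (z t : G) : Subgroup G :=
  ((S ⊓ A) ⊔ zpowers t) ⊔ ((S ⊓ L) ⊓ ⁅centL L z, centL L z⁆)

namespace Env

variable {S L : Subgroup G} {z t r d a : G} {m : ℕ} (E : Env A S L z t r d a m)
include E

theorem SX_le : (S ⊓ A) ⊔ zpowers t ≤ S ⊓ L :=
  sup_le (le_inf inf_le_left (inf_le_right.trans E.AL)) (zpowers_le.mpr (mem_inf.mpr ⟨E.sett.tS, E.t_L⟩))

theorem base0_le : base0 A S L z t ≤ S ⊓ L := sup_le E.SX_le inf_le_left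

theorem comm_base0 {x y : G} (hx : x ∈ S ⊓ L) (hy : y ∈ S ⊓ L) : x * y * x⁻¹ * y⁻¹ ∈ base0 A S L z t := by
  refine mem_sup_right (mem_inf.mpr ⟨mul_mem (mul_mem (mul_mem hx hy) (inv_mem hx)) (inv_mem hy), ?_⟩)
  rw [← commutatorElement_def]
  exact Subgroup.commutator_mem_commutator (E.P_centL hx) (E.P_centL hy)

theorem base0_conj {x q : G} (hx : x ∈ S ⊓ L) (hq : q ∈ base0 A S L z t) : x * q * x⁻¹ ∈ base0 A S L z t := by
  rw [show x * q * x⁻¹ = x * q * x⁻¹ * q⁻¹ * q by group]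
  exact mul_mem (E.comm_base0 hx (E.base0_le hq)) hq

theorem d_conj_pm {e : G} (he : e ∈ S) : e * d * e⁻¹ = d ∨ e * d * e⁻¹ = d⁻¹ := by
  obtain ⟨k, hk⟩ := (E.sett.others_eq E.quat).2 e he
  rw [show e * d * e⁻¹ = d ^ k by
    rw [E.quat.rot.hd, ← conj_zpow, hk, ← zpow_mul, ← zpow_mul, mul_comm]]
  exact E.quat.rot.d_pow_odd (E.quat.rot.odd_exp hk)

theorem d_comm {e : G} (he : e ∈ S) : d * e * d⁻¹ * e⁻¹ = 1 ∨ d * e * d⁻¹ * e⁻¹ = z := by
  rcases E.d_conj_pm he with h | h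
  · left
    rw [mul_inv_eq_one]
    have h2 : e * d = d * e := mul_inv_eq_iff_eq_mul.mp h
    rw [← h2, mul_inv_cancel_right]
  · right
    have e2 : d * (e * d⁻¹ * e⁻¹) = z := by
      rw [show e * d⁻¹ * e⁻¹ = (e * d * e⁻¹)⁻¹ by group, h, inv_inv, E.quat.rot.dd]
    rw [← e2]; group

theorem others_d {v : G} (hv : v ∈ others S z) : d * v * d⁻¹ = v * z := by
  have hP := E.sett.pair_of hv
  have R := E.quat.rot
  rcases E.d_conj_pm hv.1 with h | h
  · exfalso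
    obtain ⟨k, hk⟩ := E.sett.base.Tp ⟨d, R.dT⟩
    exact E.sett.base.ctx.not_square hP (k := k) (congrArg Subtype.val hk)
      (mul_inv_eq_iff_eq_mul.mp h).symm R.dd
  · have h2 : v * d⁻¹ = d * v := by
      have h3 : v * d⁻¹ * v⁻¹ = d := by rw [show v * d⁻¹ * v⁻¹ = (v * d * v⁻¹)⁻¹ by group, h, inv_inv]
      exact mul_inv_eq_iff_eq_mul.mp h3
    rw [← h2, mul_assoc, show d⁻¹ * d⁻¹ = (d * d)⁻¹ by group, R.dd, hP.zinv]

/-- An element of `L` normalising a subgroup `F ∋ z` of `P` moves its elements inside `base0`. -/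
theorem move {F : Subgroup G} (hF : F ≤ S ⊓ L) (hzF : z ∈ F) {n : G} (hnL : n ∈ L)
    (hn : n ∈ normalizer (F : Set G)) {v : G} (hv : v ∈ F) : n * v * n⁻¹ * v⁻¹ ∈ base0 A S L z t := by
  set u := n * z * n⁻¹ with hu
  have huF : u ∈ F := (mem_normalizer_iff.mp hn z).mp hzF
  by_cases huz : u = z
  · have hn1 : n ∈ centL L z :=
      mem_inf.mpr ⟨hnL, mem_centralizer_singleton_iff.mpr (mul_inv_eq_iff_eq_mul.mp huz)⟩
    refine mem_sup_right (mem_inf.mpr ⟨hF (mul_mem ((mem_normalizer_iff.mp hn v).mp hv) (inv_mem hv)), ?_⟩)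
    rw [← commutatorElement_def]
    exact Subgroup.commutator_mem_commutator hn1 (E.P_centL (hF hv))
  have hninv := inv_mem hn
  set u' := n⁻¹ * z * n with hu'
  have hu'F : u' ∈ F := by simpa using (mem_normalizer_iff.mp hninv z).mp hzF
  have hu'0 : u' ∈ others S z := by
    refine ⟨(mem_inf.mp (hF hu'F)).1, fun e => huz ?_, n⁻¹, by rw [hu', inv_inv]⟩
    calc u = n * u' * n⁻¹ := by rw [e, hu]
      _ = z := by rw [hu']; group
  have hu0 : u ∈ others S z := ⟨(mem_inf.mp (hF huF)).1, huz, n, hu⟩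
  have huT : u ∈ (S ⊓ A) ⊔ zpowers t := (E.sett.others_eq E.quat).1 u hu0
  have hdT : d ∈ S ⊓ A := E.quat.rot.dT
  have hdL : d ∈ L := E.AL (mem_inf.mp hdT).2
  have hdF : ∀ e ∈ F, d * e * d⁻¹ ∈ F := fun e he => by
    rw [show d * e * d⁻¹ = d * e * d⁻¹ * e⁻¹ * e by group]
    rcases E.d_comm (mem_inf.mp (hF he)).1 with h | h <;> rw [h]
    exacts [by simpa using he, mul_mem hzF he]
  have hdN : d ∈ normalizer (F : Set G) := by
    have key : F.map (MulAut.conj d).toMonoidHom ≤ F := by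
      rintro _ ⟨e, he, rfl⟩; exact hdF e he
    have heq := eq_of_le_of_card_ge key (card_map_of_injective (MulEquiv.injective _)).ge
    refine mem_normalizer_iff.mpr fun s => ⟨hdF s, fun hs => ?_⟩
    obtain ⟨s', hs', e⟩ := heq.symm ▸ hs
    rwa [← (MulAut.conj d).injective e]
  set h := n * d * n⁻¹ with hh
  have hhN : h ∈ normalizer (F : Set G) := mul_mem (mul_mem hn hdN) hninv
  have hhcomm : ∀ e ∈ F, h * e * h⁻¹ * e⁻¹ = 1 ∨ h * e * h⁻¹ * e⁻¹ = u := by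
    intro e he
    have e1 : h * e * h⁻¹ * e⁻¹ = n * (d * (n⁻¹ * e * n) * d⁻¹ * (n⁻¹ * e * n)⁻¹) * n⁻¹ := by rw [hh]; group
    rcases E.d_comm (e := n⁻¹ * e * n)
      (mem_inf.mp (hF (by simpa using (mem_normalizer_iff.mp hninv e).mp he))).1 with h1 | h1 <;> rw [e1, h1]
    exacts [Or.inl (by group), Or.inr hu.symm]
  set n' := d * h with hn'
  have hn'z : n' * z * n'⁻¹ = u := by
    have h1 : h * z * h⁻¹ = z * u := by
      rw [show h * z * h⁻¹ = n * (d * u' * d⁻¹) * n⁻¹ by rw [hh, hu']; group, E.others_d hu'0, hu', hu]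
      group
    rw [hn', show d * h * z * (d * h)⁻¹ = d * (h * z * h⁻¹) * d⁻¹ by group, h1,
      show d * (z * u) * d⁻¹ = d * z * d⁻¹ * (d * u * d⁻¹) by group, E.others_d hu0,
      E.sett.base.zc (mem_inf.mp hdT).2, mul_inv_cancel_right, E.sett.zc u hu0.1, ← mul_assoc,
      E.sett.base.pair.z2, one_mul]
  set c := n'⁻¹ * n with hc
  have hn'N : n' ∈ normalizer (F : Set G) := mul_mem hdN hhN
  have hcN : c ∈ normalizer (F : Set G) := mul_mem (inv_mem hn'N) hn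
  have hc1 : c ∈ centL L z := by
    refine mem_inf.mpr ⟨mul_mem (inv_mem (mul_mem hdL (mul_mem (mul_mem hnL hdL) (inv_mem hnL)))) hnL,
      mem_centralizer_singleton_iff.mpr (mul_inv_eq_iff_eq_mul.mp ?_)⟩
    rw [hc, show n'⁻¹ * n * z * (n'⁻¹ * n)⁻¹ = n'⁻¹ * (n * z * n⁻¹) * n' by group, ← hu, ← hn'z]
    group
  set v' := c * v * c⁻¹ with hv'
  have hv'F : v' ∈ F := (mem_normalizer_iff.mp hcN v).mp hv
  have e : n * v * n⁻¹ * v⁻¹ = d * (h * v' * h⁻¹ * v'⁻¹) * d⁻¹ * (d * v' * d⁻¹ * v'⁻¹) * (v' * v⁻¹) := by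
    rw [hv', hc, hn']; group
  rw [e]
  refine mul_mem (mem_sup_left (mul_mem ?_ ?_)) (mem_sup_right (mem_inf.mpr
    ⟨hF (mul_mem hv'F (inv_mem hv)), ?_⟩))
  · refine mul_mem (mul_mem (mem_sup_left hdT) ?_) (inv_mem (mem_sup_left hdT))
    rcases hhcomm v' hv'F with h1 | h1 <;> rw [h1]
    exacts [one_mem _, huT]
  · rcases E.d_comm (mem_inf.mp (hF hv'F)).1 with h1 | h1 <;> rw [h1]
    exacts [one_mem _, mem_sup_left E.sett.base.zT]
  · rw [hv', ← commutatorElement_def]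
    exact Subgroup.commutator_mem_commutator hc1 (E.P_centL (hF hv))

/-- **Generation of the Sylow subgroup of a perfect `L`.** -/
theorem sylow_le_base0 [Group.IsPerfect ↥L] : S ⊓ L ≤ base0 A S L z t := by
  haveI : Fact (Nat.Prime 2) := ⟨Nat.prime_two⟩
  have hPp : IsPGroup 2 ↥(S ⊓ L) := E.sett.Sp.to_le inf_le_left
  let P : Sylow 2 ↥L := (hPp.of_equiv (subgroupOfEquivOfLe inf_le_right).symm).toSylow E.Lfull
  have hP : ∀ w : ↥L, w ∈ (P : Subgroup ↥L) ↔ (w : G) ∈ S ⊓ L := fun w => Iff.rfl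
  have hPG : ∀ {F : Subgroup ↥L}, F ≤ (P : Subgroup ↥L) → F.map L.subtype ≤ S ⊓ L := by
    rintro F hF _ ⟨w, hw, rfl⟩; exact hF hw
  have hzL : z ∈ L := E.AL E.sett.base.zA
  -- a fused element differs by an element of `base0`
  have fus : ∀ x : ↥L, x ∈ (P : Subgroup ↥L) → ∀ g : ↥L, g * x * g⁻¹ ∈ (P : Subgroup ↥L) →
      ((g * x * g⁻¹ * x⁻¹ : ↥L) : G) ∈ base0 A S L z t := by
    intro x hx g hg
    refine fusion_mem P {v : ↥L | ((v * x⁻¹ : ↥L) : G) ∈ base0 A S L z t} (fun s hs v hv hvM => ?_) ?_ hx hg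
      (show ((x * x⁻¹ : ↥L) : G) ∈ base0 A S L z t by rw [mul_inv_cancel]; exact one_mem _)
    · show ((s * v * s⁻¹ * x⁻¹ : ↥L) : G) ∈ base0 A S L z t
      rw [show s * v * s⁻¹ * x⁻¹ = s * v * s⁻¹ * v⁻¹ * (v * x⁻¹) by group, Subgroup.coe_mul]
      exact mul_mem (by push_cast; exact E.comm_base0 hs hv) hvM
    intro F hFP hfull hbig n hn v hvF hvM
    by_cases hzF : (⟨z, hzL⟩ : ↥L) ∈ F
    · show ((n * v * n⁻¹ * x⁻¹ : ↥L) : G) ∈ base0 A S L z t
      rw [show n * v * n⁻¹ * x⁻¹ = n * v * n⁻¹ * v⁻¹ * (v * x⁻¹) by group, Subgroup.coe_mul]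
      refine mul_mem ?_ hvM
      have hnG : (n : G) ∈ normalizer ((F.map L.subtype : Subgroup G) : Set G) :=
        le_normalizer_map L.subtype ⟨n, hn, rfl⟩
      push_cast
      exact E.move (hPG hFP) ⟨_, hzF, rfl⟩ n.2 hnG ⟨v, hvF, rfl⟩
    -- otherwise move to a larger subgroup
    set NE := normalizer (F : Set ↥L) with hNE
    set CE := centralizer (F : Set ↥L) with hCE
    have hCN : CE ≤ NE := centralizer_le_normalizer _
    haveI : (CE.subgroupOf NE).Normal := by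
      refine ⟨fun w hw g => ?_⟩
      rw [mem_subgroupOf, hCE, mem_centralizer_iff] at hw ⊢
      intro e he
      have h1 : (g : ↥L)⁻¹ * e * g * w = w * ((g : ↥L)⁻¹ * e * g) :=
        hw _ (by simpa using (mem_normalizer_iff.mp (inv_mem g.2) e).mp he)
      push_cast
      calc e * ((g : ↥L) * w * (g : ↥L)⁻¹) = g * ((g : ↥L)⁻¹ * e * g * w) * (g : ↥L)⁻¹ := by group
        _ = g * (w * ((g : ↥L)⁻¹ * e * g)) * (g : ↥L)⁻¹ := by rw [h1]
        _ = g * w * (g : ↥L)⁻¹ * e := by group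
    let S1 : Sylow 2 ↥NE := ((P.2.to_le inf_le_left).of_equiv
      (subgroupOfEquivOfLe (inf_le_right : (P : Subgroup ↥L) ⊓ NE ≤ NE)).symm).toSylow hfull
    let K := CE.subgroupOf NE
    let TK : Sylow 2 ↥K := CfsgLib.sylowInfNormal S1 K
    have hTK : ∀ w : ↥K, w ∈ (TK : Subgroup ↥K) ↔ ((w : ↥NE) : ↥L) ∈ (P : Subgroup ↥L) := fun w =>
      ⟨fun h => (mem_inf.mp h).1, fun h => mem_inf.mpr ⟨h, (w : ↥NE).2⟩⟩
    obtain ⟨b, hb, l, hl, he⟩ := Subgroup.mem_sup_of_normal_right.mp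
      ((Sylow.normalizer_sup_eq_top TK).symm ▸ mem_top (⟨n, hn⟩ : ↥NE) :
        (⟨n, hn⟩ : ↥NE) ∈ normalizer ((TK : Subgroup ↥K).map K.subtype : Set ↥NE) ⊔ K)
    have he' : (b : ↥L) * l = n := congrArg Subtype.val he
    have hlv : (l : ↥L) * v * (l : ↥L)⁻¹ = v := by
      rw [← (show v * l = (l : ↥L) * v from hl v hvF), mul_inv_cancel_right]
    set U := (P : Subgroup ↥L) ⊓ CE with hU
    have key : ∀ u : ↥NE, u ∈ (TK : Subgroup ↥K).map K.subtype ↔ (u : ↥L) ∈ U := fun u => by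
      constructor
      · rintro ⟨u, hu, rfl⟩; exact mem_inf.mpr ⟨(hTK u).mp hu, u.2⟩
      · intro hu; exact ⟨⟨u, (mem_inf.mp hu).2⟩, (hTK _).mpr (mem_inf.mp hu).1, rfl⟩
    have hbU : ∀ w ∈ U, (b : ↥L) * w * (b : ↥L)⁻¹ ∈ U := fun w hw =>
      (key (b * ⟨w, hCN (mem_inf.mp hw).2⟩ * b⁻¹)).mp
        ((mem_normalizer_iff.mp hb _).mp ((key ⟨w, hCN (mem_inf.mp hw).2⟩).mpr hw))
    set F' := F ⊔ U with hF'
    have hbF' : (b : ↥L) ∈ normalizer (F' : Set ↥L) := by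
      have h1 : F'.map (MulAut.conj (b : ↥L)).toMonoidHom ≤ F' := by
        rw [hF', Subgroup.map_sup]
        refine sup_le ?_ ?_
        · rintro _ ⟨e, he, rfl⟩; exact mem_sup_left ((mem_normalizer_iff.mp b.2 e).mp he)
        · rintro _ ⟨e, he, rfl⟩; exact mem_sup_right (hbU e he)
      have heq := eq_of_le_of_card_ge h1 (card_map_of_injective (MulEquiv.injective _)).ge
      refine mem_normalizer_iff.mpr fun s => ⟨fun hs => h1 ⟨s, hs, rfl⟩, fun hs => ?_⟩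
      obtain ⟨s', hs', e⟩ := heq.symm ▸ hs
      rwa [← (MulAut.conj (b : ↥L)).injective e]
    have hzU : (⟨z, hzL⟩ : ↥L) ∈ U := by
      refine mem_inf.mpr ⟨mem_inf.mpr ⟨E.sett.zS, hzL⟩, mem_centralizer_iff.mpr fun e he => Subtype.ext ?_⟩
      exact E.sett.zc (e : G) (mem_inf.mp (hFP he)).1
    have hlt : Nat.card ↥F < Nat.card ↥F' := Set.ncard_lt_ncard (s := (F : Set ↥L)) (t := (F' : Set ↥L))
      ⟨fun e he => mem_sup_left he, fun h => hzF (h (mem_sup_right hzU))⟩ (Set.toFinite _)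
    have h1 := hbig F' (sup_le hFP inf_le_left) hlt (b : ↥L) hbF' v (mem_sup_left hvF) hvM
    rw [← he', show (b : ↥L) * l * v * ((b : ↥L) * l)⁻¹ = b * ((l : ↥L) * v * (l : ↥L)⁻¹) * (b : ↥L)⁻¹ by group,
      hlv]
    exact h1
  -- focal subgroup
  have hker : (P : Subgroup ↥L).transferFocal.ker = ⊤ := top_le_iff.mp (by
    rw [← Group.IsPerfect.commutator_eq_top (G := ↥L)]
    exact Abelianization.commutator_subset_ker _)
  have hfoc : (P : Subgroup ↥L).focalSubgroup = (P : Subgroup ↥L) := by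
    rw [← Subgroup.ker_transferFocal_inf_eq_focalSubgroup P, hker, top_inf_eq]
  intro w hw
  have hwP : (⟨w, (mem_inf.mp hw).2⟩ : ↥L) ∈ (P : Subgroup ↥L).focalSubgroup := by rw [hfoc]; exact hw
  rw [Subgroup.focalSubgroup_def] at hwP
  have hsub : closure {g : ↥L | g ∈ (P : Subgroup ↥L) ∧ ∃ x ∈ (P : Subgroup ↥L), ∃ u : ↥L, g = ⁅x, u⁆} ≤
      (base0 A S L z t).subgroupOf L := by
    rw [closure_le]
    rintro g ⟨hgP, x, hx, u, rfl⟩
    have hu : u * x⁻¹ * u⁻¹ ∈ (P : Subgroup ↥L) := by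
      have h2 := mul_mem (inv_mem hx) hgP
      rwa [commutatorElement_def, show x⁻¹ * (x * u * x⁻¹ * u⁻¹) = u * x⁻¹ * u⁻¹ by group] at h2
    have h3 := E.base0_conj (x := (x : G)) hx (fus x⁻¹ (inv_mem hx) u hu)
    show ((⁅x, u⁆ : ↥L) : G) ∈ base0 A S L z t
    rw [commutatorElement_def, show x * u * x⁻¹ * u⁻¹ = x * (u * x⁻¹ * u⁻¹ * x⁻¹⁻¹) * x⁻¹ by group]
    push_cast at h3 ⊢
    exact h3
  exact hsub hwP

end Env

end CfsgLib.CyclicStandard
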