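import Cfsg.Agent.Lib.CyclicStandard.Shape

/-!
The normaliser `N` of `T` and `⟨r⟩` in `C_L(z)`, the centraliser `C` of `T` in it: elements of `N` act on `T` by
`r ↦ r^k, a ↦ a r^x`, so `N / TC` is abelian, and `C_L(z)' ≤ AC`.

Blueprint: `blueprint/S3148.md`, step 8.
-/

set_option autoImplicit false
set_option linter.unusedSectionVars false
set_option linter.style.haveILetI false

namespace CfsgLib.CyclicStandard

open Subgroup Cfsg

universe u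

variable {G : Type u} [Group G] [Finite G] {A : Subgroup G}

theorem two_odd_split (x : G) : ∃ x2 xo : G, x2 ∈ zpowers x ∧ xo ∈ zpowers x ∧ x = x2 * xo ∧
    (∃ k : ℕ, x2 ^ 2 ^ k = 1) ∧ Odd (orderOf xo) := by
  obtain ⟨k, n, hn, h⟩ := Nat.exists_eq_two_pow_mul_odd (n := orderOf x) (orderOf_pos x).ne'
  obtain ⟨u, v, huv⟩ := exists_bezout (a := (n : ℤ)) (by exact_mod_cast hn) k
  refine ⟨x ^ (u * n), x ^ (v * 2 ^ k), zpow_mem (mem_zpowers x) _, zpow_mem (mem_zpowers x) _, ?_, ⟨k, ?_⟩, ?_⟩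
  · rw [← zpow_add, huv, zpow_one]
  · rw [← zpow_natCast, ← zpow_mul]
    exact orderOf_dvd_iff_zpow_eq_one.mp ⟨u, by rw [h]; push_cast; ring⟩
  · have h1 : (x ^ (v * 2 ^ k)) ^ n = 1 := by
      rw [← zpow_natCast, ← zpow_mul]
      exact orderOf_dvd_iff_zpow_eq_one.mp ⟨v, by rw [h]; push_cast; ring⟩
    exact hn.of_dvd_nat (orderOf_dvd_of_pow_eq_one h1)

/-- Frattini argument for a subgroup `T` containing a Sylow 2-subgroup of `X`. -/
theorem exists_frattini {X T : Subgroup G} (hTX : T ≤ X) (hTp : IsPGroup 2 ↥T) (hfull : ¬ 2 ∣ T.relIndex X) {n : G}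
    (hn : ∀ x ∈ X, n * x * n⁻¹ ∈ X) : ∃ b ∈ X, b⁻¹ * n ∈ normalizer (T : Set G) := by
  haveI : Fact (Nat.Prime 2) := ⟨Nat.prime_two⟩
  let T0 : Sylow 2 ↥X := (hTp.of_equiv (subgroupOfEquivOfLe hTX).symm).toSylow hfull
  set U := T.map (MulAut.conj n).toMonoidHom
  have hUX : U ≤ X := by
    rintro _ ⟨s, hs, rfl⟩
    exact hn s (hTX hs)
  have hUp : IsPGroup 2 ↥(U.subgroupOf X) := (hTp.map _).of_equiv (subgroupOfEquivOfLe hUX).symm
  obtain ⟨U0, hU0⟩ := hUp.exists_le_sylow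
  obtain ⟨b, hb⟩ := MulAction.exists_smul_eq ↥X U0 T0
  refine ⟨(b : G)⁻¹, inv_mem b.2, ?_⟩
  rw [inv_inv]
  have key : T.map (MulAut.conj ((b : G) * n)).toMonoidHom ≤ T := by
    rintro _ ⟨s, hs, rfl⟩
    have h1 : (⟨n * s * n⁻¹, hUX ⟨s, hs, rfl⟩⟩ : ↥X) ∈ (U0 : Subgroup ↥X) := hU0 ⟨s, hs, rfl⟩
    have h2 : b * (⟨n * s * n⁻¹, hUX ⟨s, hs, rfl⟩⟩ : ↥X) * b⁻¹ ∈ (T0 : Subgroup ↥X) := by
      rw [← hb, Sylow.coe_subgroup_smul]
      exact ⟨_, h1, rfl⟩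
    have h3 : (b : G) * (n * s * n⁻¹) * (b : G)⁻¹ ∈ T := h2
    show (b : G) * n * s * ((b : G) * n)⁻¹ ∈ T
    rwa [show (b : G) * n * s * ((b : G) * n)⁻¹ = (b : G) * (n * s * n⁻¹) * (b : G)⁻¹ by group]
  have heq := eq_of_le_of_card_ge key (card_map_of_injective (MulEquiv.injective _)).ge
  refine mem_normalizer_iff.mpr fun s => ⟨fun hs => key ⟨s, hs, rfl⟩, fun hs => ?_⟩
  obtain ⟨s', hs', e⟩ := heq.symm ▸ hs
  rwa [← (MulAut.conj ((b : G) * n)).injective e]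

/-- The data for the fusion in `L`. -/
structure Env (A S L : Subgroup G) (z t r d a : G) (m : ℕ) : Prop where
  sett : Sett A S z t
  quat : Quat A z t (S ⊓ A) r d m a
  AL : A ≤ L
  Lc : ∀ g : G, ∀ x ∈ L, g * x * g⁻¹ ∈ L
  Lfull : ¬ 2 ∣ (S ⊓ L).relIndex L

/-- `C_L(z)`. -/
def centL (L : Subgroup G) (z : G) : Subgroup G := L ⊓ centralizer ({z} : Set G)

/-- Its normaliser of `T` and `⟨r⟩`. -/
def nn (A S L : Subgroup G) (z r : G) : Subgroup G :=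
  centL L z ⊓ normalizer ((S ⊓ A : Subgroup G) : Set G) ⊓ normalizer (zpowers r : Set G)

/-- Its centraliser of `T`. -/
def cc (A S L : Subgroup G) (z : G) : Subgroup G :=
  centL L z ⊓ centralizer ((S ⊓ A : Subgroup G) : Set G)

namespace Env

variable {S L : Subgroup G} {z t r d a : G} {m : ℕ} (E : Env A S L z t r d a m)
include E

theorem centL_N : centL L z ≤ normalizer (A : Set G) := fun _ hn =>
  E.sett.base.ctx.fix E.sett.base.pair.zK E.sett.base.pair.z2 E.sett.base.pair.z1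
    (mem_centralizer_singleton_iff.mp (mem_inf.mp hn).2)

theorem A_centL : A ≤ centL L z := fun b hb =>
  mem_inf.mpr ⟨E.AL hb, mem_centralizer_singleton_iff.mpr (E.sett.base.zc hb)⟩

theorem P_centL : S ⊓ L ≤ centL L z := fun s hs =>
  mem_inf.mpr ⟨(mem_inf.mp hs).2, mem_centralizer_singleton_iff.mpr (E.sett.zc s (mem_inf.mp hs).1)⟩

theorem t_L : t ∈ L := by
  obtain ⟨g, hg⟩ := E.sett.base.pair.conj
  exact hg ▸ E.Lc g z (E.AL E.sett.base.zA)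

theorem P_nn : S ⊓ L ≤ nn A S L z r := by
  intro s hs
  refine mem_inf.mpr ⟨mem_inf.mpr ⟨E.P_centL hs, mem_normalizer_iff.mpr fun x =>
    ⟨E.sett.T_conj (mem_inf.mp hs).1, fun h => ?_⟩⟩, mem_normalizer_iff.mpr fun x => ?_⟩
  · have h5 := E.sett.T_conj (inv_mem (mem_inf.mp hs).1) h
    rwa [show s⁻¹ * (s * x * s⁻¹) * s⁻¹⁻¹ = x by group] at h5
  have key : ∀ e ∈ S, ∀ x ∈ zpowers r, e * x * e⁻¹ ∈ zpowers r := by
    rintro e he _ ⟨i, rfl⟩
    obtain ⟨k, hk⟩ := (E.sett.others_eq E.quat).2 e he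
    rw [← conj_zpow, hk]
    exact zpow_mem (zpow_mem (mem_zpowers r) _) _
  refine ⟨key s (mem_inf.mp hs).1 x, fun h => ?_⟩
  have h5 := key s⁻¹ (inv_mem (mem_inf.mp hs).1) _ h
  rwa [show s⁻¹ * (s * x * s⁻¹) * s⁻¹⁻¹ = x by group] at h5

theorem cc_nn : cc A S L z ≤ nn A S L z r := by
  intro c hc
  obtain ⟨hc1, hc2⟩ := mem_inf.mp hc
  refine mem_inf.mpr ⟨mem_inf.mpr ⟨hc1, centralizer_le_normalizer _ hc2⟩,
    centralizer_le_normalizer _ ?_⟩
  exact centralizer_le (zpowers_le.mpr E.quat.rot.frame.rT) hc2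

theorem cc_conj {n c : G} (hn : n ∈ nn A S L z r) (hc : c ∈ cc A S L z) : n * c * n⁻¹ ∈ cc A S L z := by
  obtain ⟨hn1, hn2⟩ := mem_inf.mp (mem_inf.mp hn).1
  obtain ⟨hc1, hc2⟩ := mem_inf.mp hc
  refine mem_inf.mpr ⟨mul_mem (mul_mem hn1 hc1) (inv_mem hn1), fun s hs => ?_⟩
  have h1 : n⁻¹ * s * n * c = c * (n⁻¹ * s * n) :=
    hc2 _ (by simpa using (mem_normalizer_iff.mp (inv_mem hn2) s).mp hs)
  calc s * (n * c * n⁻¹) = n * (n⁻¹ * s * n * c) * n⁻¹ := by group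
    _ = n * (c * (n⁻¹ * s * n)) * n⁻¹ := by rw [h1]
    _ = n * c * n⁻¹ * s := by group

/-- The action of an element of `nn` on `T`. -/
theorem act {n : G} (hn : n ∈ nn A S L z r) :
    ∃ k x : ℤ, Odd k ∧ n * r * n⁻¹ = r ^ k ∧ n * a * n⁻¹ = a * r ^ x := by
  obtain ⟨hn12, hn3⟩ := mem_inf.mp hn
  obtain ⟨-, hn2⟩ := mem_inf.mp hn12
  obtain ⟨k, hk⟩ := (mem_normalizer_iff.mp hn3 r).mp (mem_zpowers r)
  replace hk : r ^ k = n * r * n⁻¹ := hk
  obtain ⟨x, hx⟩ := (E.quat.grp_cases (x := n * a * n⁻¹)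
    (by rw [E.quat.T_eq]; exact (mem_normalizer_iff.mp hn2 a).mp E.quat.aT)).resolve_left fun h => by
      obtain ⟨i, hi⟩ := (mem_normalizer_iff.mp hn3 a).mpr h
      replace hi : r ^ i = a := hi
      exact E.quat.rot.d_ne (by
        rw [← E.quat.a_d, ← hi, E.quat.rot.hd, ((Commute.refl r).zpow_zpow _ _).eq, mul_inv_cancel_right])
  exact ⟨k, x, E.quat.rot.odd_exp hk.symm, hk.symm, hx⟩

theorem rot_conj_ar (l y : ℤ) : r ^ l * (a * r ^ y) * (r ^ l)⁻¹ = a * r ^ (y - 2 * l) := by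
  have h : r ^ l * a = a * r ^ (-l) := zpow_refl (t := a) E.quat.a_inv l
  rw [← mul_assoc, h, ← zpow_neg, mul_assoc, mul_assoc, ← zpow_add, ← zpow_add]
  congr 2
  ring

/-- An element acting as an inner automorphism of `T` lies in `TC`. -/
theorem inner {n : G} (hn : n ∈ nn A S L z r) (hr : n * r * n⁻¹ = r) {l : ℤ}
    (ha : n * a * n⁻¹ = a * r ^ (2 * l)) : n ∈ (S ⊓ A) ⊔ cc A S L z := by
  have hrl : r ^ l ∈ S ⊓ A := zpow_mem E.quat.rot.frame.rT l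
  have hc : r ^ l * n ∈ cc A S L z := by
    have h1 : Commute (r ^ l * n) r :=
      ((Commute.refl r).zpow_left l).mul_left (mul_inv_eq_iff_eq_mul.mp hr)
    have h2 : Commute (r ^ l * n) a := by
      refine mul_inv_eq_iff_eq_mul.mp ?_
      rw [show r ^ l * n * a * (r ^ l * n)⁻¹ = r ^ l * (n * a * n⁻¹) * (r ^ l)⁻¹ by group, ha, E.rot_conj_ar,
        sub_self, zpow_zero, mul_one]
    refine mem_inf.mpr ⟨mul_mem (E.A_centL (E.sett.base.TA hrl)) (mem_inf.mp (mem_inf.mp hn).1).1, fun s hs => ?_⟩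
    rcases E.quat.grp_cases (x := s) (by rw [E.quat.T_eq]; exact hs) with ⟨i, rfl⟩ | ⟨i, rfl⟩
    · exact (h1.zpow_right i).eq.symm
    · exact (h2.mul_right (h1.zpow_right i)).eq.symm
  rw [show n = (r ^ l)⁻¹ * (r ^ l * n) by group]
  exact mul_mem_sup (inv_mem hrl) hc

/-- Commutators of `nn` lie in `TC`. -/
theorem comm_TC {n n' : G} (hn : n ∈ nn A S L z r) (hn' : n' ∈ nn A S L z r) :
    n * n' * n⁻¹ * n'⁻¹ ∈ (S ⊓ A) ⊔ cc A S L z := by
  obtain ⟨k, x, hkodd, hk, hx⟩ := E.act hn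
  obtain ⟨k', x', hk'odd, hk', hx'⟩ := E.act hn'
  have hr : ∀ i : ℤ, n * r ^ i * n⁻¹ = r ^ (k * i) := fun i => E.quat.d_conj i k hk
  have hr' : ∀ i : ℤ, n' * r ^ i * n'⁻¹ = r ^ (k' * i) := fun i => E.quat.d_conj i k' hk'
  set f := n * n' * n⁻¹ * n'⁻¹ with hf
  have hfy : ∀ y : G, f * (n' * (n * y * n⁻¹) * n'⁻¹) * f⁻¹ = n * (n' * y * n'⁻¹) * n⁻¹ := fun y => by
    rw [hf]; group
  have hfr : f * r * f⁻¹ = r := by
    have h1 := hfy r
    rw [hk, hr', hk', hr, mul_comm k'] at h1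
    obtain ⟨u, v, huv⟩ := exists_bezout (hkodd.mul hk'odd) m
    have h3 : r = (r ^ (k * k')) ^ u := by
      rw [← zpow_mul]
      conv_lhs => rw [← zpow_one r]
      rw [E.quat.rot.zpow_eq]
      exact ⟨-v, by linear_combination huv⟩
    conv_lhs => rw [h3, ← conj_zpow, h1, ← h3]
  have hfi : ∀ i : ℤ, f * r ^ i * f⁻¹ = r ^ i := fun i => by rw [← conj_zpow, hfr]
  have e1 : n' * (n * a * n⁻¹) * n'⁻¹ = a * r ^ (x' + k' * x) := by
    rw [hx, show n' * (a * r ^ x) * n'⁻¹ = n' * a * n'⁻¹ * (n' * r ^ x * n'⁻¹) by group, hx', hr', mul_assoc,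
      ← zpow_add]
  have e2 : n * (n' * a * n'⁻¹) * n⁻¹ = a * r ^ (x + k * x') := by
    rw [hx', show n * (a * r ^ x') * n⁻¹ = n * a * n⁻¹ * (n * r ^ x' * n⁻¹) by group, hx, hr, mul_assoc,
      ← zpow_add]
  have h1 : f * a * f⁻¹ * r ^ (x' + k' * x) = a * r ^ (x + k * x') := by
    rw [← e2, ← hfy a, e1]
    conv_lhs => rw [← hfi (x' + k' * x)]
    group
  obtain ⟨u, rfl⟩ := hkodd
  obtain ⟨u', rfl⟩ := hk'odd
  refine E.inner (mul_mem (mul_mem (mul_mem hn hn') (inv_mem hn)) (inv_mem hn')) hfr (l := u * x' - u' * x) ?_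
  rw [eq_mul_inv_of_mul_eq h1, ← zpow_neg, mul_assoc, ← zpow_add]
  congr 2
  ring

/-- Elements of `A` in `nn` lie in `TC`. -/
theorem A_nn {b : G} (hb : b ∈ A) (hbn : b ∈ nn A S L z r) : b ∈ (S ⊓ A) ⊔ cc A S L z := by
  haveI : Fact (Nat.Prime 2) := ⟨Nat.prime_two⟩
  obtain ⟨b2, bo, h2, ho, e, ⟨k2, hk2⟩, hodd⟩ := two_odd_split b
  have hle : zpowers b ≤ A ⊓ nn A S L z r := zpowers_le.mpr (mem_inf.mpr ⟨hb, hbn⟩)
  obtain ⟨hb2A, hb2n⟩ := mem_inf.mp (hle h2)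
  obtain ⟨hboA, hbon⟩ := mem_inf.mp (hle ho)
  rw [e]
  have B := E.sett.base
  refine mul_mem (mem_sup_left ?_) ?_
  · set T := S ⊓ A
    have hn2 : zpowers b2 ≤ normalizer (T : Set G) := zpowers_le.mpr (mem_inf.mp (mem_inf.mp hb2n).1).2
    have hX : IsPGroup 2 ↥(T ⊔ zpowers b2) :=
      IsPGroup.to_sup_of_normal_left' B.Tp (isPGroup_zpowers hk2) hn2
    have hXA : T ⊔ zpowers b2 ≤ A := sup_le B.TA (zpowers_le.mpr hb2A)
    let T0 : Sylow 2 ↥A := (B.Tp.of_equiv (subgroupOfEquivOfLe B.TA).symm).toSylow B.Tfull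
    have h3 := T0.3 (hX.of_equiv (subgroupOfEquivOfLe hXA).symm)
      (fun w (hw : (w : G) ∈ T) => mem_sup_left (S := T) (T := zpowers b2) hw)
    have h4 : (⟨b2, hb2A⟩ : ↥A) ∈ (T0 : Subgroup ↥A) := h3 ▸ mem_sup_right (S := T) (mem_zpowers b2)
    exact h4
  · have hfix : bo * r * bo⁻¹ = r := odd_fix (W := zpowers r)
      (E.sett.Sp.to_le ((zpowers_le.mpr E.quat.rot.frame.rT).trans inf_le_left))
      (fun x hx y hy => by
        obtain ⟨i, rfl⟩ := hx; obtain ⟨j, rfl⟩ := hy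
        exact ((Commute.refl r).zpow_zpow i j).eq)
      (fun x hx y hy hx2 hy2 hx1 hy1 => cyclic_involution hx hy hx2 hy2 hx1 hy1)
      (fun w hw => (mem_normalizer_iff.mp (mem_inf.mp hbon).2 w).mp hw) hodd (mem_zpowers r)
    obtain ⟨k, x, -, hk, hx⟩ := E.act hbon
    have hpow : ∀ n : ℕ, bo ^ n * a * (bo ^ n)⁻¹ = a * r ^ ((n : ℤ) * x) := by
      intro n
      induction n with
      | zero => simp
      | succ n ihn =>
        rw [show bo ^ (n + 1) * a * (bo ^ (n + 1))⁻¹ = bo * (bo ^ n * a * (bo ^ n)⁻¹) * bo⁻¹ by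
            rw [pow_succ']; group, ihn,
          show bo * (a * r ^ ((n : ℤ) * x)) * bo⁻¹ = bo * a * bo⁻¹ * (bo * r ^ ((n : ℤ) * x) * bo⁻¹) by group, hx,
          ← conj_zpow, hfix, mul_assoc, ← zpow_add]
        congr 2
        push_cast
        ring
    have h0 := hpow (orderOf bo)
    rw [pow_orderOf_eq_one, one_mul, inv_one, mul_one] at h0
    have h5 : r ^ ((orderOf bo : ℤ) * x) = r ^ (0 : ℤ) := by rw [zpow_zero]; exact mul_eq_left.mp h0.symm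
    obtain ⟨c, hc⟩ := E.quat.rot.zpow_eq.mp h5
    obtain ⟨u, v, huv⟩ := exists_bezout (a := (orderOf bo : ℤ)) (by exact_mod_cast hodd) m
    refine E.inner hbon hfix (l := 0) ?_
    rw [hx, mul_zero]
    congr 1
    rw [E.quat.rot.zpow_eq]
    exact ⟨u * c - v * x, by linear_combination u * hc + x * huv⟩

/-- `C_L(z) = A·nn`. -/
theorem frattini {n : G} (hn : n ∈ centL L z) : ∃ b ∈ A, ∃ n' ∈ nn A S L z r, n = b * n' := by
  haveI : Fact (Nat.Prime 2) := ⟨Nat.prime_two⟩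
  have B := E.sett.base
  have R := E.quat.rot
  set T := S ⊓ A with hT
  have hA : ∀ g ∈ centL L z, ∀ x ∈ A, g * x * g⁻¹ ∈ A := fun g hg x hx =>
    (mem_normalizer_iff.mp (E.centL_N hg) x).mp hx
  obtain ⟨b1, hb1, hn1⟩ := exists_frattini B.TA B.Tp B.Tfull (hA n hn)
  set n1 := b1⁻¹ * n with hn1def
  have hn1L : n1 ∈ centL L z := mul_mem (inv_mem (E.A_centL hb1)) hn
  have hrT : n1 * r * n1⁻¹ ∈ T := (mem_normalizer_iff.mp hn1 r).mp R.frame.rT
  -- make the element fix `⟨r⟩`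
  obtain ⟨b2, hb2, hn2⟩ : ∃ b2 ∈ A, b2⁻¹ * n1 ∈ normalizer (zpowers r : Set G) := by
    have hnorm : ∀ g : G, g * r * g⁻¹ ∈ zpowers r → g ∈ normalizer (zpowers r : Set G) := fun g hg => by
      have key : (zpowers r).map (MulAut.conj g).toMonoidHom ≤ zpowers r := by
        rw [MonoidHom.map_zpowers, zpowers_le]; exact hg
      have heq := eq_of_le_of_card_ge key (card_map_of_injective (MulEquiv.injective _)).ge
      refine mem_normalizer_iff.mpr fun s => ⟨fun hs => key ⟨s, hs, rfl⟩, fun hs => ?_⟩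
      obtain ⟨s', hs', e⟩ := heq.symm ▸ hs
      rwa [← (MulAut.conj g).injective e]
    rcases E.quat.grp_cases (x := n1 * r * n1⁻¹) (by rw [E.quat.T_eq]; exact hrT) with h | ⟨x, hx⟩
    · exact ⟨1, one_mem _, by rw [inv_one, one_mul]; exact hnorm n1 h⟩
    have hm : m = 2 := by
      have hcl := E.quat.cls_sq (E.quat.ar_cls x)
      rw [← hx, show n1 * r * n1⁻¹ * (n1 * r * n1⁻¹) = n1 * (r * r) * n1⁻¹ by group] at hcl
      have hrr : r * r * (r * r) = 1 := by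
        refine conj_eq_one_iff.mp (show n1 * (r * r * (r * r)) * n1⁻¹ = 1 from ?_)
        rw [show n1 * (r * r * (r * r)) * n1⁻¹ = n1 * (r * r) * n1⁻¹ * (n1 * (r * r) * n1⁻¹) by group, hcl,
          B.pair.z2]
      have h7 := orderOf_dvd_of_pow_eq_one (x := r) (n := 4) (by
        rw [show (4 : ℕ) = 2 + 2 from rfl, pow_add, pow_two]; exact hrr)
      rw [R.ord, show (4 : ℕ) = 2 ^ 2 from rfl] at h7
      have := Nat.pow_dvd_pow_iff_le_right (x := 2) (by norm_num) |>.mp h7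
      have := R.two_le
      omega
    have hdr : d = r := by rw [R.hd, hm]; simp
    obtain ⟨-, b, hb, hbe⟩ := E.quat.ar_cls x
    refine ⟨b, hb, hnorm _ ?_⟩
    rw [show b⁻¹ * n1 * r * (b⁻¹ * n1)⁻¹ = b⁻¹ * (n1 * r * n1⁻¹) * b by group, hx, hbe, hdr]
    simpa [mul_assoc] using mem_zpowers r
  set n2 := b2⁻¹ * n1
  have hn2L : n2 ∈ centL L z := mul_mem (inv_mem (E.A_centL hb2)) hn1L
  -- Frattini again inside `A ∩ N(⟨r⟩)`
  set X := A ⊓ normalizer (zpowers r : Set G) with hX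
  have hTX : T ≤ X := le_inf B.TA fun s hs =>
    (mem_inf.mp (E.P_nn (mem_inf.mpr ⟨(mem_inf.mp hs).1, E.AL (B.TA hs)⟩))).2
  have hfull : ¬ 2 ∣ T.relIndex X := fun h => B.Tfull (h.trans (by
    rw [← relIndex_mul_relIndex T X A hTX inf_le_left]; exact dvd_mul_right _ _))
  obtain ⟨b3, hb3, hn3⟩ := exists_frattini hTX B.Tp hfull (n := n2) fun x hx =>
    mem_inf.mpr ⟨hA n2 hn2L x (mem_inf.mp hx).1, mul_mem (mul_mem hn2 (mem_inf.mp hx).2) (inv_mem hn2)⟩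
  refine ⟨b1 * b2 * b3, mul_mem (mul_mem hb1 hb2) (mem_inf.mp hb3).1, b3⁻¹ * n2, mem_inf.mpr ⟨mem_inf.mpr
    ⟨mul_mem (inv_mem (E.A_centL (mem_inf.mp hb3).1)) hn2L, hn3⟩,
    mul_mem (inv_mem (mem_inf.mp hb3).2) hn2⟩, ?_⟩
  simp only [n2, hn1def]
  group

/-- The derived group of `C_L(z)` lies in a subgroup containing `A` and the commutators of `nn`. -/
theorem commutator_le_of {M : Subgroup G} (hAM : A ≤ M)
    (h : ∀ n ∈ nn A S L z r, ∀ n' ∈ nn A S L z r, n * n' * n⁻¹ * n'⁻¹ ∈ M) :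
    ⁅centL L z, centL L z⁆ ≤ M := by
  refine Subgroup.commutator_le.mpr fun g hg g' hg' => ?_
  obtain ⟨b, hb, n, hn, rfl⟩ := E.frattini hg
  obtain ⟨b', hb', n', hn', rfl⟩ := E.frattini hg'
  have hA : ∀ n ∈ nn A S L z r, ∀ x ∈ A, n * x * n⁻¹ ∈ A := fun n hn x hx =>
    (mem_normalizer_iff.mp (E.centL_N (mem_inf.mp (mem_inf.mp hn).1).1) x).mp hx
  set c := n * n' * n⁻¹ * n'⁻¹ with hc
  have hcM := h n hn n' hn'
  have e : b * n * (b' * n') * (b * n)⁻¹ * (b' * n')⁻¹ = b * (n * b' * n⁻¹) * (c * (n' * b⁻¹ * n'⁻¹) * c⁻¹) * c * b'⁻¹ := by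
    rw [hc]; group
  rw [commutatorElement_def, e]
  exact mul_mem (mul_mem (mul_mem (mul_mem (hAM hb) (hAM (hA n hn b' hb')))
    (mul_mem (mul_mem hcM (hAM (hA n' hn' _ (inv_mem hb)))) (inv_mem hcM))) hcM) (hAM (inv_mem hb'))

theorem commutator_le_AC : ⁅centL L z, centL L z⁆ ≤ A ⊔ cc A S L z :=
  E.commutator_le_of le_sup_left fun n hn n' hn' =>
    (sup_le (inf_le_right.trans le_sup_left) le_sup_right : (S ⊓ A) ⊔ cc A S L z ≤ A ⊔ cc A S L z)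
      (E.comm_TC hn hn')

end Env

end CfsgLib.CyclicStandard
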