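import Cfsg.Agent.Lib.CyclicStandard.Frame
import Cfsg.Agent.Lib.ZStar.Isolated

/-!
Fusion of the rotations and an element of `T` exchanging the two classes of reflections, of square `z`.

Blueprint: `blueprint/S3148.md`, step 5.
-/

set_option autoImplicit false
set_option linter.unusedSectionVars false
set_option linter.style.haveILetI false

namespace CfsgLib.CyclicStandard

open Subgroup Cfsg
open scoped commutatorElement

universe u

variable {G : Type u} [Group G] [Finite G] {A : Subgroup G}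

/-- An element isolated modulo a central 2-group centralises the quasisimple normal subgroup `A`. -/
theorem centralizes_of_isolated (hq : IsQuasisimple ↥A) {Y C0 P : Subgroup G} (hAY : A ≤ Y)
    (hYA : Y ≤ normalizer (A : Set G)) (hC0 : C0 ≤ A ⊓ centralizer (A : Set G)) (hC0P : C0 ≤ P)
    (hPY : P ≤ Y) (hP : IsPGroup 2 ↥P) (hPi : ¬ 2 ∣ P.relIndex Y) (hC0n : Y ≤ normalizer (C0 : Set G)) {u : G}
    (huP : u ∈ P) (hu : u ∉ C0) (hu2 : u * u ∈ C0)
    (hiso : ∀ g ∈ Y, g * u * g⁻¹ ∈ P → g * u * g⁻¹ * u⁻¹ ∈ C0) : ∀ a ∈ A, a * u = u * a := by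
  classical
  haveI : Fact (Nat.Prime 2) := ⟨Nat.prime_two⟩
  have hC0Y : C0 ≤ Y := hC0P.trans hPY
  haveI : (C0.subgroupOf Y).Normal := (normal_subgroupOf_iff_le_normalizer hC0Y).mpr hC0n
  let π := QuotientGroup.mk' (C0.subgroupOf Y)
  have hπ : Function.Surjective π := QuotientGroup.mk'_surjective _
  let P0 : Sylow 2 ↥Y := (hP.of_equiv (subgroupOfEquivOfLe hPY).symm).toSylow hPi
  let Pb := P0.mapSurjective hπ
  have hker : ∀ x : ↥Y, π x = 1 ↔ (x : G) ∈ C0 := fun x => QuotientGroup.eq_one_iff x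
  set ub := π ⟨u, hPY huP⟩ with hub
  have hubo : orderOf ub = 2 := orderOf_eq_prime (by
      rw [pow_two, hub, ← map_mul]; exact (hker _).mpr hu2) fun e => hu ((hker ⟨u, hPY huP⟩).mp e)
  have hiso' : IsIsolated ub := by
    refine CfsgLib.ZStar.isolated_of_sylow Pb hubo ⟨⟨u, hPY huP⟩, huP, rfl⟩ fun g hg => ?_
    obtain ⟨g, rfl⟩ := hπ g
    obtain ⟨p, hp, e⟩ := hg
    have hp' : (p : G) ∈ P := hp
    rw [hub, ← map_inv, ← map_mul, ← map_mul] at e ⊢
    have e2 : (g : G) * u * (g : G)⁻¹ ∈ P := by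
      have h3 : ((p⁻¹ * (g * ⟨u, hPY huP⟩ * g⁻¹) : ↥Y) : G) ∈ C0 := (hker _).mp (by
        rw [map_mul, map_inv, show π p = π (g * ⟨u, hPY huP⟩ * g⁻¹) from e, inv_mul_cancel])
      have h4 := mul_mem hp' (hC0P h3)
      push_cast at h4
      rwa [mul_inv_cancel_left] at h4
    rw [← mul_inv_eq_one, ← map_inv, ← map_mul]
    exact (hker _).mpr (hiso g g.2 e2)
  set M := ((pPrimeCore 2 (↥Y ⧸ C0.subgroupOf Y)).comap π).map Y.subtype with hM
  have hcomm : ∀ a ∈ A, a * u * a⁻¹ * u⁻¹ ∈ A ⊓ M := by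
    intro a ha
    refine mem_inf.mpr ⟨?_, ?_⟩
    · rw [show a * u * a⁻¹ * u⁻¹ = a * (u * a⁻¹ * u⁻¹) by group]
      exact mul_mem ha ((mem_normalizer_iff.mp (hYA (hPY huP)) _).mp (inv_mem ha))
    · refine ⟨(⟨u, hPY huP⟩ * ⟨a, hAY ha⟩ * (⟨u, hPY huP⟩ : ↥Y)⁻¹ * (⟨a, hAY ha⟩ : ↥Y)⁻¹)⁻¹, ?_, ?_⟩
      · rw [SetLike.mem_coe, Subgroup.mem_comap, map_inv, map_mul, map_mul, map_mul, map_inv, map_inv]
        exact inv_mem (CfsgLib.ZStar.commutator_mem hubo hiso' _)
      · show (u * a * u⁻¹ * a⁻¹)⁻¹ = _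
        group
  haveI : ((A ⊓ M).subgroupOf A).Normal := by
    refine (normal_subgroupOf_iff_le_normalizer inf_le_left).mpr fun a ha => mem_normalizer_iff.mpr fun w => ?_
    have key : ∀ b ∈ A, ∀ w ∈ A ⊓ M, b * w * b⁻¹ ∈ A ⊓ M := fun b hb w hw => by
      obtain ⟨hwA, ⟨v, hv, rfl⟩⟩ := mem_inf.mp hw
      exact mem_inf.mpr ⟨mul_mem (mul_mem hb hwA) (inv_mem hb),
        ⟨⟨b, hAY hb⟩ * v * ⟨b, hAY hb⟩⁻¹, Subgroup.Normal.conj_mem inferInstance v hv _, rfl⟩⟩
    exact ⟨key a ha w, fun hw => by simpa [mul_assoc] using key a⁻¹ (inv_mem ha) _ hw⟩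
  have hcen : ∀ c ∈ A ⊓ M, ∀ b ∈ A, b * c = c * b := by
    rcases CfsgLib.quasisimple_normal_le_center_or_eq_top hq ((A ⊓ M).subgroupOf A) with h1 | h1
    · intro c hc b hb
      exact congrArg Subtype.val (Subgroup.mem_center_iff.mp
        (h1 (show (⟨c, (mem_inf.mp hc).1⟩ : ↥A) ∈ _ from hc)) ⟨b, hb⟩)
    · exfalso
      have hle : A ≤ M := (subgroupOf_eq_top.mp h1).trans inf_le_right
      let f : ↥A →* (↥Y ⧸ C0.subgroupOf Y) := π.comp (Subgroup.inclusion hAY)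
      have hrange : f.range ≤ pPrimeCore 2 (↥Y ⧸ C0.subgroupOf Y) := by
        rintro _ ⟨a, rfl⟩
        obtain ⟨v, hv, e⟩ := hle a.2
        have : v = Subgroup.inclusion hAY a := Subtype.ext e
        rw [this] at hv
        exact hv
      have hsol : Group.IsSolvable ↥f.range := Cfsg.Agent.S0205.result
        ((Nat.coprime_two_right.mp (CfsgLib.card_pPrimeCore_coprime 2)).of_dvd_nat (card_dvd_of_le hrange))
      haveI := hq.1
      have htriv : f.range = ⊥ := by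
        by_contra hne
        haveI := hsol
        haveI : Nontrivial ↥f.range := (Subgroup.nontrivial_iff_ne_bot _).mpr hne
        refine (Group.IsSolvable.commutator_lt_top_of_nontrivial ↥f.range).ne ?_
        have hmap := Subgroup.map_commutator (⊤ : Subgroup ↥A) ⊤ f.rangeRestrict
        rw [← _root_.commutator_def, Group.IsPerfect.commutator_eq_top,
          Subgroup.map_top_of_surjective _ f.rangeRestrict_surjective] at hmap
        exact hmap.symm
      have hAC : ∀ a ∈ A, ∀ b ∈ A, a * b = b * a := fun a ha b hb => by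
        have h2 : f ⟨a, ha⟩ = 1 := by
          have : f ⟨a, ha⟩ ∈ f.range := ⟨_, rfl⟩
          rwa [htriv, Subgroup.mem_bot] at this
        exact ((mem_inf.mp (hC0 ((hker _).mp h2))).2 b hb).symm
      exact CfsgLib.isQuasisimple_not_isSolvable hq
        (Group.isSolvable_of_comm fun a b => Subtype.ext (hAC a a.2 b b.2))
  let φ : ↥A →* ↥A :=
    { toFun := fun a => ⟨(a : G) * u * (a : G)⁻¹ * u⁻¹, (mem_inf.mp (hcomm a a.2)).1⟩
      map_one' := Subtype.ext (by simp)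
      map_mul' := fun a b => Subtype.ext (by
        have hb := hcen _ (hcomm b b.2) a a.2
        push_cast
        calc (a : G) * b * u * ((a : G) * b)⁻¹ * u⁻¹
            = (a : G) * ((b : G) * u * (b : G)⁻¹ * u⁻¹) * (u * (a : G)⁻¹ * u⁻¹) := by group
          _ = ((b : G) * u * (b : G)⁻¹ * u⁻¹) * a * (u * (a : G)⁻¹ * u⁻¹) := by rw [hb]
          _ = ((b : G) * u * (b : G)⁻¹ * u⁻¹) * ((a : G) * u * (a : G)⁻¹ * u⁻¹) := by group
          _ = _ := (hcen _ (hcomm b b.2) _ (mem_inf.mp (hcomm a a.2)).1).symm) }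
  have hk : commutator ↥A ≤ φ.ker := by
    rw [_root_.commutator_def, Subgroup.commutator_le]
    intro a _ b _
    rw [MonoidHom.mem_ker, map_commutatorElement, commutatorElement_eq_one_iff_mul_comm]
    exact Subtype.ext (hcen _ (hcomm b b.2) _ (mem_inf.mp (hcomm a a.2)).1)
  haveI := hq.1
  intro a ha
  have h1 : φ ⟨a, ha⟩ = 1 := MonoidHom.mem_ker.mp (hk Group.IsPerfect.mem_commutator)
  exact mul_inv_eq_iff_eq_mul.mp (mul_inv_eq_one.mp (congrArg Subtype.val h1))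

/-- The central 2-part of `A`. -/
def cen (A T : Subgroup G) : Subgroup G := T ⊓ centralizer (A : Set G)

namespace Frame

variable {z t r : G} {T : Subgroup G} (F : Frame A z t T r)
include F

theorem SX_full : ¬ 2 ∣ (T ⊔ zpowers t).relIndex (A ⊔ zpowers t) := by
  have hTS : (T ⊔ zpowers t) ⊓ A = T := le_antisymm
    (fun x hx => F.base.inf_eq (mem_inf.mp hx).1 (mem_inf.mp hx).2) (le_inf le_sup_left F.base.TA)
  have e1 : (T ⊔ zpowers t) ⊔ A = A ⊔ zpowers t :=
    le_antisymm (sup_le (sup_le (F.base.TA.trans le_sup_left) le_sup_right) le_sup_left)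
      (sup_le le_sup_right (le_sup_of_le_left le_sup_right))
  set S := T ⊔ zpowers t
  have hn : S ⊔ A ≤ normalizer (A : Set G) := sup_le
    (sup_le (F.base.TA.trans le_normalizer) (zpowers_le.mpr F.base.tN)) le_normalizer
  haveI : (A.subgroupOf (S ⊔ A)).Normal := (normal_subgroupOf_iff_le_normalizer le_sup_right).mpr hn
  have h3 : A.relIndex (S ⊔ A) = T.relIndex S := by
    have h5 : S.subgroupOf (S ⊔ A) ⊔ A.subgroupOf (S ⊔ A) = ⊤ := by
      rw [← subgroupOf_sup le_sup_left le_sup_right, subgroupOf_self]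
    have h6 := relIndex_sup_right (S.subgroupOf (S ⊔ A)) (A.subgroupOf (S ⊔ A))
    rw [h5, relIndex_top_right, relIndex_subgroupOf le_sup_left, ← inf_relIndex_right, inf_comm, hTS] at h6
    exact h6
  have a1 := relIndex_mul_relIndex T S (S ⊔ A) le_sup_left le_sup_left
  have a2 := relIndex_mul_relIndex T A (S ⊔ A) F.base.TA le_sup_right
  rw [h3, ← a1, mul_comm (T.relIndex A)] at a2
  have hne : T.relIndex S ≠ 0 := index_ne_zero_of_finite
  rw [← e1, ← Nat.eq_of_mul_eq_mul_left (Nat.pos_of_ne_zero hne) a2]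
  exact F.base.Tfull

theorem rot_normal {s : G} (hs : s ∈ T ⊔ zpowers t) {w : G} (hw : w ∈ zpowers r) :
    s * w * s⁻¹ ∈ zpowers w := by
  obtain ⟨i, rfl⟩ := hw
  have key : ∀ s ∈ T, s * r ^ i * s⁻¹ ∈ zpowers (r ^ i) := fun s hs => by
    obtain ⟨-, k, -, hk⟩ := F.act hs
    exact ⟨k, show (r ^ i) ^ k = _ by rw [← conj_zpow, hk, ← zpow_mul, ← zpow_mul, mul_comm]⟩
  rcases F.base.mem_SX hs with h | ⟨a, ha, rfl⟩
  · exact key s h
  · show a * t * r ^ i * (a * t)⁻¹ ∈ zpowers (r ^ i)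
    rw [show a * t * r ^ i * (a * t)⁻¹ = a * (t * r ^ i * t⁻¹) * a⁻¹ by group, refl_zpow F.inv, zpow_neg,
      show a * (r ^ i)⁻¹ * a⁻¹ = (a * r ^ i * a⁻¹)⁻¹ by group]
    exact inv_mem (key a ha)

/-- **No fusion into the rotations.** -/
theorem not_fused {c b : G} (hc : c ∈ T) (hb : b ∈ A) (hbc : b * c * b⁻¹ ∈ zpowers r)
    (htc : t * c * t⁻¹ = c⁻¹) : c ∈ zpowers r := by
  haveI : Fact (Nat.Prime 2) := ⟨Nat.prime_two⟩
  set w := b * c * b⁻¹ with hw
  set H := (A ⊔ zpowers t) ⊓ normalizer (zpowers w : Set G) with hH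
  have hSH : T ⊔ zpowers t ≤ H := by
    refine le_inf (sup_le (F.base.TA.trans le_sup_left) le_sup_right) fun s hs => mem_normalizer_iff.mpr fun x => ?_
    have key : ∀ s ∈ T ⊔ zpowers t, ∀ x ∈ zpowers w, s * x * s⁻¹ ∈ zpowers w := fun s hs x hx => by
      obtain ⟨i, rfl⟩ := hx
      rw [← conj_zpow]
      exact zpow_mem (F.rot_normal hs hbc) i
    exact ⟨key s hs x, fun h => by simpa [mul_assoc] using key s⁻¹ (inv_mem hs) _ h⟩
  set u := b * t * b⁻¹ with hu
  have hu2 : u * u = 1 := by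
    rw [hu, show b * t * b⁻¹ * (b * t * b⁻¹) = b * (t * t) * b⁻¹ by group, F.base.pair.t2]; group
  have huH : u ∈ H := by
    refine mem_inf.mpr ⟨mul_mem (mul_mem (mem_sup_left hb) (mem_sup_right (mem_zpowers t)))
      (inv_mem (mem_sup_left hb)), mem_normalizer_iff.mpr fun x => ?_⟩
    have huw : u * w * u⁻¹ = w⁻¹ := by
      rw [hu, hw, show b * t * b⁻¹ * (b * c * b⁻¹) * (b * t * b⁻¹)⁻¹ = b * (t * c * t⁻¹) * b⁻¹ by group, htc]
      group
    have key : ∀ x ∈ zpowers w, u * x * u⁻¹ ∈ zpowers w := fun x hx => by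
      obtain ⟨i, rfl⟩ := hx
      rw [← conj_zpow, huw]
      exact zpow_mem (inv_mem (mem_zpowers w)) i
    refine ⟨key x, fun h => ?_⟩
    have := key _ h
    rwa [show u * (u * x * u⁻¹) * u⁻¹ = u * u * x * (u * u)⁻¹ by group, hu2, one_mul, inv_one, mul_one] at this
  let S0 : Sylow 2 ↥H := (F.base.SX_isPGroup.of_equiv (subgroupOfEquivOfLe hSH).symm).toSylow (by
    intro h2
    refine F.SX_full (h2.trans ?_)
    show (T ⊔ zpowers t).relIndex H ∣ _
    rw [← relIndex_mul_relIndex _ H _ hSH inf_le_left]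
    exact dvd_mul_right _ _)
  obtain ⟨h, hh⟩ := CfsgLib.LocalFusion.exists_conj_mem S0 (t := (⟨u, huH⟩ : ↥H)) (a := 1) (by
    rw [orderOf_mk, pow_one]
    refine orderOf_eq_prime (by rw [pow_two, hu2]) fun e => F.base.pair.t1 ?_
    exact conj_eq_one_iff.mp e)
  have hh' : (h : G) * u * (h : G)⁻¹ ∈ T ⊔ zpowers t := hh
  have hwh : (h : G) * w * (h : G)⁻¹ ∈ zpowers r := by
    have := (mem_normalizer_iff.mp (mem_inf.mp h.2).2 w).mp (mem_zpowers w)
    exact (zpowers_le.mpr hbc) this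
  obtain ⟨a, ha, e, ⟨i, rfl⟩, he⟩ := CfsgLib.mem_sup_of_le_normalizer
    ((zpowers_le.mpr F.base.tN) : zpowers t ≤ normalizer (A : Set G)) (mem_inf.mp h.2).1
  set g := (t ^ i)⁻¹ * (h : G) with hg
  have hgA : g ∈ A := by
    rw [hg, ← he, show (t ^ i)⁻¹ * (a * t ^ i) = (t ^ i)⁻¹ * a * t ^ i by group]
    exact (mem_normalizer_iff''.mp (zpow_mem F.base.tN i) a).mp ha
  have hti : t ^ i ∈ T ⊔ zpowers t := mem_sup_right (zpow_mem (mem_zpowers t) i)
  have h1 : g * b * t * (g * b)⁻¹ ∈ omega A T t := by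
    refine ⟨?_, g * b, mul_mem hgA hb, rfl⟩
    rw [show g * b * t * (g * b)⁻¹ = (t ^ i)⁻¹ * ((h : G) * u * (h : G)⁻¹) * t ^ i by rw [hg, hu]; group]
    exact mul_mem (mul_mem (inv_mem hti) hh') hti
  obtain ⟨x, hx⟩ := F.cover _ h1
  obtain ⟨n, hn⟩ : ∃ n : ℤ, g * b * c * (g * b)⁻¹ = r ^ n := by
    have h2 : g * b * c * (g * b)⁻¹ ∈ zpowers r := by
      rw [show g * b * c * (g * b)⁻¹ = (t ^ i)⁻¹ * ((h : G) * w * (h : G)⁻¹) * (t ^ i)⁻¹⁻¹ by rw [hg, hw]; group]
      exact (zpowers_le.mpr hwh) (F.rot_normal (inv_mem hti) hwh)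
    obtain ⟨n, hn⟩ := h2
    exact ⟨n, hn.symm⟩
  obtain ⟨-, a', ha', e'⟩ := F.all (x + n)
  have htcΩ : t * c ∈ omega A T t := by
    refine ⟨mul_mem (mem_sup_right (mem_zpowers t)) (mem_sup_left hc), (g * b)⁻¹ * a',
      mul_mem (inv_mem (mul_mem hgA hb)) ha', ?_⟩
    calc t * c = (g * b)⁻¹ * ((g * b * t * (g * b)⁻¹) * (g * b * c * (g * b)⁻¹)) * (g * b) := by group
      _ = (g * b)⁻¹ * (t * r ^ (x + n)) * (g * b) := by rw [hx, hn, mul_assoc t, ← zpow_add]
      _ = (g * b)⁻¹ * (a' * t * a'⁻¹) * (g * b) := by rw [e']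
      _ = (g * b)⁻¹ * a' * t * ((g * b)⁻¹ * a')⁻¹ := by group
  obtain ⟨y, hy⟩ := F.cover _ htcΩ
  exact ⟨y, (mul_left_cancel hy).symm⟩

end Frame

namespace Rot

variable {z t r d : G} {T : Subgroup G} {m : ℕ} (R : Rot A z t T r d m)
include R

/-- A fused element preserving the classes of reflections, with square a rotation, is a rotation. -/
theorem fused_even {c b : G} (hc : c ∈ T) (hb : b ∈ A) (hbc : b * c * b⁻¹ ∈ zpowers r) {i : ℤ}
    (hi : c * t * c⁻¹ = t * r ^ (2 * i)) (hcc : c * c ∈ zpowers r) : c ∈ zpowers r := by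
  obtain ⟨hq, hqt⟩ := R.frame.even_split hc hi
  set q := r ^ i * c with hq'
  have hc' : c = r ^ (-i) * q := by rw [hq', ← mul_assoc, ← zpow_add, neg_add_cancel, zpow_zero, one_mul]
  obtain ⟨-, k, -, hk⟩ := R.frame.act hq
  have hqq : q * q ∈ zpowers r := by
    have e : q * r ^ (-i) * q⁻¹ = r ^ (k * -i) := by rw [← conj_zpow, hk, ← zpow_mul]
    have h2 : q * q = r ^ (-(k * -i)) * r ^ i * (c * c) := by
      rw [hc', show r ^ (-i) * q * (r ^ (-i) * q) = r ^ (-i) * (q * r ^ (-i) * q⁻¹) * (q * q) by group, e]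
      group
    rw [h2]
    exact mul_mem (mul_mem (zpow_mem (mem_zpowers r) _) (zpow_mem (mem_zpowers r) _)) hcc
  obtain ⟨n, hn⟩ := hqq
  have hqq1 : q * q = 1 := by
    rw [← hn]
    refine (R.frame.rot_fixed n ?_).resolve_right fun h => R.frame.nosq hq hqt (hn ▸ h)
    show r ^ n * t = t * r ^ n
    rw [show r ^ n = q * q from hn, mul_assoc, hqt, ← mul_assoc, hqt, mul_assoc]
  have hqr := R.fix_r hq hqt hqq1
  refine R.frame.not_fused hc hb hbc ?_
  have hqr' : Commute q (r ^ i) := Commute.zpow_right (mul_inv_eq_iff_eq_mul.mp hqr) i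
  rw [hc', show t * (r ^ (-i) * q) * t⁻¹ = (t * r ^ (-i) * t⁻¹) * (t * q * t⁻¹) by group, refl_zpow R.frame.inv,
    neg_neg, ← hqt, mul_inv_cancel_right, mul_inv_rev, inv_eq_of_mul_eq_one_right hqq1, zpow_neg, inv_inv, hqr'.eq]

end Rot

/-- **An element of square `z` exchanging the classes of reflections, a conjugate of `d`.** -/
theorem Frame.exists_outer {z t r : G} {T : Subgroup G} (F : Frame A z t T r) :
    ∃ d : G, ∃ m : ℕ, Rot A z t T r d m ∧ ∃ a ∈ T, a * a = z ∧ (∃ j : ℤ, Odd j ∧ a * t * a⁻¹ = t * r ^ j) ∧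
      ∃ b ∈ A, a = b * d * b⁻¹ := by
  classical
  haveI : Fact (Nat.Prime 2) := ⟨Nat.prime_two⟩
  have hC0A : cen A T ≤ A ⊓ centralizer (A : Set G) := le_inf (inf_le_left.trans F.base.TA) inf_le_right
  have hzC : z ∈ cen A T := mem_inf.mpr ⟨F.base.zT, F.base.pair.zK⟩
  have hcenA : A ≤ normalizer (cen A T : Set G) := by
    refine le_trans ?_ (centralizer_le_normalizer _)
    intro a ha
    exact mem_centralizer_iff.mpr fun c hc => ((mem_inf.mp hc).2 a ha).symm
  by_cases hall : ∀ x : ℤ, r ^ x ∈ cen A T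
  · exfalso
    refine F.base.ctx.not_mem_sup F.base.pair (one_mem A) (k := t) ?_ (one_mul t).symm
    refine centralizes_of_isolated F.base.ctx.std.1 (Y := A ⊔ zpowers t) (C0 := cen A T) (P := T ⊔ zpowers t)
      le_sup_left (sup_le le_normalizer (zpowers_le.mpr F.base.tN)) hC0A (inf_le_left.trans le_sup_left)
      (sup_le (F.base.TA.trans le_sup_left) le_sup_right) F.base.SX_isPGroup F.SX_full
      (sup_le hcenA (zpowers_le.mpr ?_)) (mem_sup_right (mem_zpowers t))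
      (fun h => F.base.ctx.t_not_mem F.base.pair (F.base.TA (mem_inf.mp h).1))
      (F.base.pair.t2 ▸ one_mem _) fun g hg hgP => ?_
    · refine mem_normalizer_iff.mpr fun c => ?_
      have key : ∀ c ∈ cen A T, t * c * t⁻¹ ∈ cen A T := fun c hc =>
        mem_inf.mpr ⟨F.base.tT c (mem_inf.mp hc).1, fun a ha => by
          have h1 := (mem_inf.mp hc).2 (t⁻¹ * a * t) ((mem_normalizer_iff''.mp F.base.tN a).mp ha)
          calc a * (t * c * t⁻¹) = t * (t⁻¹ * a * t * c) * t⁻¹ := by group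
            _ = t * (c * (t⁻¹ * a * t)) * t⁻¹ := by rw [h1]
            _ = t * c * t⁻¹ * a := by group⟩
      refine ⟨key c, fun h => ?_⟩
      have := key _ h
      rwa [show t * (t * c * t⁻¹) * t⁻¹ = t * t * c * (t * t)⁻¹ by group, F.base.pair.t2, one_mul, inv_one,
        mul_one] at this
    obtain ⟨a, ha, e, ⟨i, rfl⟩, rfl⟩ := CfsgLib.mem_sup_of_le_normalizer
      ((zpowers_le.mpr F.base.tN) : zpowers t ≤ normalizer (A : Set G)) hg
    have e2 : a * t ^ i * t * (a * t ^ i)⁻¹ = a * t * a⁻¹ := by group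
    rw [e2] at hgP ⊢
    obtain ⟨x, hx⟩ := F.cover _ ⟨hgP, a, ha, rfl⟩
    rw [hx, refl_zpow F.inv]
    exact hall (-x)
  -- the smallest rotation outside the centre
  obtain ⟨m, hm⟩ := F.order_pow
  have hr : r ∉ cen A T := fun h => hall fun x => zpow_mem h x
  have hex : ∃ e : ℕ, r ^ ((2 : ℤ) ^ e) ∈ cen A T :=
    ⟨m, by rw [show r ^ ((2 : ℤ) ^ m) = 1 from orderOf_dvd_iff_zpow_eq_one.mp (by rw [hm]; exact_mod_cast dvd_rfl)]
           exact one_mem _⟩
  set e0 := Nat.find hex with he0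
  have he0spec := Nat.find_spec hex
  have he0pos : e0 ≠ 0 := fun h => hr (by rw [← he0, h, pow_zero, zpow_one] at he0spec; exact he0spec)
  set w := r ^ ((2 : ℤ) ^ (e0 - 1)) with hw
  have hwn : w ∉ cen A T := Nat.find_min hex (by omega)
  have hww : w * w ∈ cen A T := by
    rw [hw, ← zpow_add, ← two_mul, ← pow_succ', Nat.sub_add_cancel (by omega)]; exact he0spec
  have hwr : w ∈ zpowers r := zpow_mem (mem_zpowers r) _
  have hr2 : r * r ≠ 1 := by
    intro h2
    refine hr ?_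
    rcases F.rot_fixed 1 (by
        rw [zpow_refl F.inv]; congr 1; rw [zpow_neg, zpow_one]; exact inv_eq_of_mul_eq_one_right h2) with h3 | h3 <;>
      rw [zpow_one] at h3 <;> rw [h3]
    exacts [one_mem _, hzC]
  obtain ⟨d, m', R⟩ := F.exists_rot hr2
  by_contra hno
  refine hwn (mem_inf.mpr ⟨(zpowers_le.mpr F.rT) hwr, fun a ha => ?_⟩)
  refine centralizes_of_isolated F.base.ctx.std.1 (Y := A) (C0 := cen A T) (P := T) le_rfl le_normalizer hC0A
    inf_le_left F.base.TA F.base.Tp F.base.Tfull hcenA ((zpowers_le.mpr F.rT) hwr) hwn hww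
    (fun g hg hgP => ?_) a ha
  set c := g * w * g⁻¹ with hc
  have hcc : c * c = w * w := by
    rw [hc, show g * w * g⁻¹ * (g * w * g⁻¹) = g * (w * w) * g⁻¹ by group, (mem_inf.mp hww).2 g hg,
      mul_inv_cancel_right]
  have hbc : g⁻¹ * c * g⁻¹⁻¹ ∈ zpowers r := by rw [hc]; group; simpa using hwr
  obtain ⟨j, k, hj, hk⟩ := F.act hgP
  rcases Int.even_or_odd j with ⟨i, hi⟩ | hjodd
  · obtain ⟨n, hn⟩ := R.fused_even hgP (inv_mem hg) hbc (i := i) (by rw [hj, hi, two_mul])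
      (hcc ▸ mul_mem hwr hwr)
    rw [← show r ^ n = c from hn] at hcc ⊢
    rw [hw, ← zpow_neg, ← zpow_add]
    set E := (2 : ℤ) ^ (e0 - 1)
    rcases F.rot_fixed (n + -E) (by
        rw [zpow_refl F.inv]
        congr 1
        rw [hw, ← zpow_add, ← zpow_add] at hcc
        calc r ^ (-(n + -E)) = r ^ (-(n + n)) * r ^ (n + E) := by rw [← zpow_add]; congr 1; ring
          _ = r ^ (-(E + E)) * r ^ (n + E) := by rw [zpow_neg, hcc, zpow_neg]
          _ = r ^ (n + -E) := by rw [← zpow_add]; congr 1; ring) with h3 | h3 <;> rw [h3]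
    exacts [one_mem _, hzC]
  exfalso
  -- then `w` has order 4
  set E := (2 : ℤ) ^ (e0 - 1) with hE
  have hwE : w * w = r ^ (2 * E) := by rw [hw, ← zpow_add, two_mul]
  have hct : c * c * t * (c * c)⁻¹ = t * r ^ (j + k * j) := by
    rw [show c * c * t * (c * c)⁻¹ = c * (c * t * c⁻¹) * c⁻¹ by group, hj,
      show c * (t * r ^ j) * c⁻¹ = c * t * c⁻¹ * (c * r ^ j * c⁻¹) by group, hj, ← conj_zpow, hk, ← zpow_mul,
      mul_assoc, ← zpow_add]
  rw [hcc, hwE, F.conj_t] at hct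
  have hk2 : (2 : ℤ) ^ m' ∣ k * (2 * E) - 2 * E := by
    rw [← R.zpow_eq]
    calc r ^ (2 * E) = c * r ^ (2 * E) * c⁻¹ := by rw [← hwE, ← hcc]; group
      _ = r ^ (k * (2 * E)) := by rw [← conj_zpow, hk, ← zpow_mul]
  have hj2 : (2 : ℤ) ^ m' ∣ (j + k * j) - (-2 * (2 * E)) := R.zpow_eq.mp (mul_left_cancel hct)
  have e4 : (2 : ℤ) ^ m' = 4 * 2 ^ (m' - 2) := by
    rw [show (4 : ℤ) = 2 ^ 2 by norm_num, ← pow_add]; congr 1; have := R.two_le; omega
  obtain ⟨q, rfl⟩ := R.odd_exp hk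
  have hqodd : Odd q := by
    obtain ⟨c1, hc1⟩ := hj2
    obtain ⟨l, rfl⟩ := hjodd
    rw [e4] at hc1
    refine ⟨2 ^ (m' - 2) * c1 - E - l - q * l - 1, mul_left_cancel₀ (two_ne_zero' ℤ) ?_⟩
    linear_combination hc1
  obtain ⟨a1, b1, hab⟩ := exists_bezout hqodd m'
  have h4E : (2 : ℤ) ^ m' ∣ 4 * E := by
    obtain ⟨c2, hc2⟩ := hk2
    exact ⟨c2 * a1 + b1 * (4 * E), by linear_combination a1 * hc2 - (4 * E) * hab⟩
  have hw2 : w * w = z := by
    rw [hwE]
    refine (F.rot_fixed (2 * E) ?_).resolve_left fun h1 => hwn ?_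
    · rw [zpow_refl F.inv]
      congr 1
      rw [R.zpow_eq]
      obtain ⟨c3, hc3⟩ := h4E
      exact ⟨c3, by linear_combination hc3⟩
    · rcases F.rot_fixed E (by
          rw [zpow_refl F.inv]; congr 1
          rw [R.zpow_eq]
          have := orderOf_dvd_iff_zpow_eq_one.mpr h1
          rw [R.ord] at this
          push_cast at this
          obtain ⟨c3, hc3⟩ := this
          exact ⟨c3, by linear_combination hc3⟩) with h3 | h3 <;> rw [hw, h3]
      exacts [one_mem _, hzC]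
  have hwd : w = d ∨ w = d⁻¹ := by
    rcases F.rot_fixed ((2 : ℤ) ^ (m' - 2) + -E) (by
        rw [zpow_refl F.inv]; congr 1
        rw [R.zpow_eq]
        have h1 : r ^ (2 * E) = r ^ (2 * (2 : ℤ) ^ (m' - 2)) := by
          rw [← hwE, hw2, ← R.dd, R.hd, ← zpow_add, two_mul]
        obtain ⟨c3, hc3⟩ := R.zpow_eq.mp h1
        exact ⟨c3, by linear_combination hc3⟩) with h3 | h3 <;>
      rw [zpow_add, ← R.hd, zpow_neg, ← hw] at h3
    · exact Or.inl (mul_inv_eq_one.mp h3).symm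
    · right
      rw [mul_inv_eq_iff_eq_mul] at h3
      rw [R.dinv_eq, R.frame.base.comm_z (mem_sup_left R.dT), h3, ← mul_assoc, F.base.pair.z2, one_mul]
  refine hno ⟨d, m', R, ?_⟩
  rcases hwd with hd' | hd'
  · exact ⟨c, hgP, by rw [hcc, hw2], ⟨j, hjodd, hj⟩, g, hg, by rw [hc, hd']⟩
  · refine ⟨c⁻¹, inv_mem hgP, by rw [← mul_inv_rev, hcc, hw2, F.base.pair.zinv], ?_, g, hg, by rw [hc, hd']; group⟩
    have hct' : c * c * t = t * (c * c) := by rw [hcc, hw2, F.base.pair.comm]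
    refine ⟨j, hjodd, ?_⟩
    rw [← hj, inv_inv, show c * t * c⁻¹ = c⁻¹ * (c * c * t) * c⁻¹ by group, hct']
    group

end CfsgLib.CyclicStandard
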