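import Cfsg.Agent.Lib.CyclicStandard.Basic
import Cfsg.Agent.Lib.ZStar.Main
import Cfsg.Agent.Lib.Components
import Cfsg.Agent.S0205

/-!
A pair of commuting conjugate involutions of a standard subgroup with cyclic centralizer Sylow 2-subgroups: the root
of order 4 is inverted, no other conjugate commutes with both, the conjugate induces an outer automorphism and the
involution lies in `A`.

Blueprint: `blueprint/S3148.md`, step 3.
-/

set_option autoImplicit false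
set_option linter.unusedSectionVars false
set_option linter.style.haveILetI false

namespace CfsgLib.CyclicStandard

open Subgroup Cfsg
open scoped commutatorElement

universe u

variable {G : Type u} [Group G] [Finite G] {A : Subgroup G}

namespace Ctx

variable (C : Ctx A)
include C

/-- The two members of a pair change places. -/
theorem swap {z t : G} (h : IsPair A z t) {g : G} (hg : t = g * z * g⁻¹) : IsPair A z (g⁻¹ * z * g) where
  zK := h.zK
  z2 := h.z2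
  z1 := h.z1
  conj := ⟨g⁻¹, by group⟩
  ne := fun e => h.ne (by
    calc t = g * z * g⁻¹ := hg
      _ = g * (g⁻¹ * z * g) * g⁻¹ := by rw [e]
      _ = z := by group)
  comm := by
    have e : z = g⁻¹ * t * g := by rw [hg]; group
    calc g⁻¹ * z * g * z = g⁻¹ * (z * t) * g := by nth_rw 2 [e]; group
      _ = g⁻¹ * (t * z) * g := by rw [h.comm]
      _ = z * (g⁻¹ * z * g) := by nth_rw 2 [e]; group

/-- The root is inverted. -/
theorem root_inv {z t y : G} (h : IsPair A z t) (hy : y ∈ centralizer (A : Set G)) (hyy : y * y = z)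
    (ht : t * y * t⁻¹ = y ∨ t * y * t⁻¹ = y⁻¹) : t * y * t⁻¹ = y⁻¹ := by
  refine ht.resolve_left fun e => C.inverts h hy hyy ?_
  exact (mul_inv_eq_iff_eq_mul.mp e).symm

theorem root_conj {z t y : G} (h : IsPair A z t) (hyy : y * y = z) (ht : t * y * t⁻¹ = y⁻¹) :
    y * t * y⁻¹ = z * t := by
  have e1 : y * t = t * y⁻¹ := by
    have h2 : t * y⁻¹ * t⁻¹ = y := by
      rw [show t * y⁻¹ * t⁻¹ = (t * y * t⁻¹)⁻¹ by group, ht, inv_inv]
    exact (mul_inv_eq_iff_eq_mul.mp h2).symm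
  rw [e1, mul_assoc, show y⁻¹ * y⁻¹ = (y * y)⁻¹ by group, hyy, h.zinv, h.comm]

/-- A 2-group centralising `z` and `t` acts on a root of `t`. -/
theorem exists_root_conj {z t g : G} (h : IsPair A z t) (hg : t = g * z * g⁻¹) {P : Subgroup G}
    (hP : IsPGroup 2 ↥P) (hPt : ∀ p ∈ P, p * t = t * p) :
    ∃ x : G, x * x = t ∧ g⁻¹ * x * g ∈ centralizer (A : Set G) ∧
      ∀ p ∈ P, p * x * p⁻¹ = x ∨ p * x * p⁻¹ = x⁻¹ := by
  have hz' : ∀ p ∈ P.map (MulAut.conj g⁻¹).toMonoidHom, p * z = z * p := by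
    rintro _ ⟨p, hp, rfl⟩
    have e : z = g⁻¹ * t * g := by rw [hg]; group
    show g⁻¹ * p * g⁻¹⁻¹ * z = z * (g⁻¹ * p * g⁻¹⁻¹)
    calc g⁻¹ * p * g⁻¹⁻¹ * z = g⁻¹ * (p * t) * g := by rw [e]; group
      _ = g⁻¹ * (t * p) * g := by rw [hPt p hp]
      _ = z * (g⁻¹ * p * g⁻¹⁻¹) := by rw [e]; group
  obtain ⟨y, hy, hyy, hact⟩ := C.exists_root h.zK h.z2 h.z1 (hP.map _) hz'
  refine ⟨g * y * g⁻¹, by rw [hg, ← hyy]; group, by rwa [show g⁻¹ * (g * y * g⁻¹) * g = y by group],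
    fun p hp => ?_⟩
  have e : p * (g * y * g⁻¹) * p⁻¹ = g * ((g⁻¹ * p * g⁻¹⁻¹) * y * (g⁻¹ * p * g⁻¹⁻¹)⁻¹) * g⁻¹ := by group
  rcases hact _ ⟨p, hp, rfl⟩ with h' | h' <;>
    replace h' : g⁻¹ * p * g⁻¹⁻¹ * y * (g⁻¹ * p * g⁻¹⁻¹)⁻¹ = _ := h'
  · left; rw [e, h']
  · right; rw [e, h']; group

/-- No square root of `z` in a 2-group centralising `t`. -/
theorem not_square {z t r : G} (h : IsPair A z t) {k : ℕ} (hk : r ^ 2 ^ k = 1) (hrt : r * t = t * r)
    (hrr : r * r = z) : False := by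
  obtain ⟨g, hg⟩ := h.conj
  obtain ⟨x, hxx, hxK, hact⟩ := C.exists_root_conj h hg (P := zpowers r) (isPGroup_zpowers hk)
    (fun p hp => by obtain ⟨i, rfl⟩ := hp; exact ((show Commute r t from hrt).zpow_left i).eq)
  have hxz : z * x * z⁻¹ = x := by
    rw [← hrr, show r * r * x * (r * r)⁻¹ = r * (r * x * r⁻¹) * r⁻¹ by group]
    rcases hact r (mem_zpowers r) with e | e
    · rw [e, e]
    · rw [e, show r * x⁻¹ * r⁻¹ = (r * x * r⁻¹)⁻¹ by group, e, inv_inv]
  refine C.inverts (C.swap h hg) hxK (by rw [show g⁻¹ * x * g * (g⁻¹ * x * g) = g⁻¹ * (x * x) * g by group, hxx, hg]; group) ?_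
  calc g⁻¹ * x * g * (g⁻¹ * z * g) = g⁻¹ * (x * z) * g := by group
    _ = g⁻¹ * (z * x) * g := by rw [← mul_inv_eq_iff_eq_mul.mp hxz]
    _ = g⁻¹ * z * g * (g⁻¹ * x * g) := by group

/-- `z` is no commutator in a 2-group centralising `t`. -/
theorem comm_ne {z t : G} (h : IsPair A z t) {P : Subgroup G} (hP : IsPGroup 2 ↥P)
    (hPt : ∀ p ∈ P, p * t = t * p) {p e : G} (hp : p ∈ P) (he : e ∈ P) : p * e * p⁻¹ * e⁻¹ ≠ z := by
  intro hz
  obtain ⟨g, hg⟩ := h.conj
  obtain ⟨x, hxx, hxK, hact⟩ := C.exists_root_conj h hg hP hPt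
  have hxz : z * x * z⁻¹ = x := by
    have hflip : ∀ {q : G}, q * x * q⁻¹ = x⁻¹ → q * x⁻¹ * q⁻¹ = x ∧ q⁻¹ * x * q = x⁻¹ ∧ q⁻¹ * x⁻¹ * q = x :=
      fun {q} e => by
      have a : q * x⁻¹ * q⁻¹ = x := by rw [show q * x⁻¹ * q⁻¹ = (q * x * q⁻¹)⁻¹ by group, e, inv_inv]
      have b : q⁻¹ * x⁻¹ * q = x := by rw [← e]; group
      exact ⟨a, by rw [show q⁻¹ * x * q = (q⁻¹ * x⁻¹ * q)⁻¹ by group, b], b⟩
    have hfix : ∀ {q : G}, q * x * q⁻¹ = x → q * x⁻¹ * q⁻¹ = x⁻¹ ∧ q⁻¹ * x * q = x ∧ q⁻¹ * x⁻¹ * q = x⁻¹ :=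
      fun {q} e => by
      have b : q⁻¹ * x * q = x := by
        calc q⁻¹ * x * q = q⁻¹ * (q * x * q⁻¹) * q := by rw [e]
          _ = x := by group
      refine ⟨by rw [show q * x⁻¹ * q⁻¹ = (q * x * q⁻¹)⁻¹ by group, e], b, ?_⟩
      rw [show q⁻¹ * x⁻¹ * q = (q⁻¹ * x * q)⁻¹ by group, b]
    have e' : z * x * z⁻¹ = p * (e * (p⁻¹ * (e⁻¹ * x * e) * p) * e⁻¹) * p⁻¹ := by rw [← hz]; group
    rcases hact e he with h1 | h1 <;> rcases hact p hp with h2 | h2
    · rw [e', (hfix h1).2.1, (hfix h2).2.1, h1, h2]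
    · rw [e', (hfix h1).2.1, (hflip h2).2.1, (hfix h1).1, (hflip h2).1]
    · rw [e', (hflip h1).2.1, (hfix h2).2.2, (hflip h1).1, h2]
    · rw [e', (hflip h1).2.1, (hflip h2).2.2, h1, (hflip h2).1]
  refine C.inverts (C.swap h hg) hxK (by rw [show g⁻¹ * x * g * (g⁻¹ * x * g) = g⁻¹ * (x * x) * g by group, hxx, hg]; group) ?_
  calc g⁻¹ * x * g * (g⁻¹ * z * g) = g⁻¹ * (x * z) * g := by group
    _ = g⁻¹ * (z * x) * g := by rw [← mul_inv_eq_iff_eq_mul.mp hxz]
    _ = g⁻¹ * z * g * (g⁻¹ * x * g) := by group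

/-- **The mates of `t`.** -/
theorem mates {z t s : G} (h : IsPair A z t) (hs : IsPair A z s) (hst : s * t = t * s) :
    s = t ∨ s = t * z := by
  rcases eq_or_ne s t with rfl | hne
  · exact Or.inl rfl
  right
  set P := closure ({z, t, s} : Set G) with hP
  haveI : IsMulCommutative ↥P := isMulCommutative_closure (by
    rintro a (rfl | rfl | rfl) b (rfl | rfl | rfl)
    exacts [rfl, h.comm.symm, hs.comm.symm, h.comm, rfl, hst.symm, hs.comm, hst, rfl])
  have hc : ∀ a ∈ P, ∀ b ∈ P, a * b = b * a := fun a ha b hb => congrArg Subtype.val (mul_comm' (⟨a, ha⟩ : ↥P) ⟨b, hb⟩)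
  have hP2 : ∀ a ∈ P, a * a = 1 := by
    intro a ha
    induction ha using closure_induction with
    | mem a ha => rcases ha with rfl | rfl | rfl; exacts [h.z2, h.t2, hs.t2]
    | one => exact one_mul 1
    | mul a b ha hb iha ihb =>
      calc a * b * (a * b) = a * (b * a) * b := by group
        _ = (a * a) * (b * b) := by rw [hc b hb a ha]; group
        _ = 1 := by rw [iha, ihb, one_mul]
    | inv a _ iha => rw [← mul_inv_rev, iha, inv_one]
  have hPp : IsPGroup 2 ↥P := fun a => ⟨1, Subtype.ext (by rw [pow_one, pow_two]; exact hP2 a a.2)⟩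
  have hzP : z ∈ P := subset_closure (by simp)
  have htP : t ∈ P := subset_closure (by simp)
  have hsP : s ∈ P := subset_closure (by simp)
  -- the root of `z`
  obtain ⟨y, hy, hyy, hact⟩ := C.exists_root h.zK h.z2 h.z1 hPp fun p hp => hc p hp z hzP
  have hyt := C.root_inv h hy hyy (hact t htP)
  have hys := C.root_inv hs hy hyy (hact s hsP)
  -- the root of `s`
  obtain ⟨g, hg⟩ := hs.conj
  obtain ⟨w, hww, hwK, hactw⟩ := C.exists_root_conj hs hg hPp fun p hp => hc p hp s hsP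
  have hp' : IsPair A z (g⁻¹ * t * g) := by
    obtain ⟨f, hf⟩ := h.conj
    refine ⟨h.zK, h.z2, h.z1, ⟨g⁻¹ * f, by rw [hf]; group⟩, fun e => hne ?_, ?_⟩
    · calc s = g * z * g⁻¹ := hg
        _ = g * (g⁻¹ * t * g) * g⁻¹ := by rw [e]
        _ = t := by group
    · have e : z = g⁻¹ * s * g := by rw [hg]; group
      calc g⁻¹ * t * g * z = g⁻¹ * (t * s) * g := by rw [e]; group
        _ = g⁻¹ * (s * t) * g := by rw [hst]
        _ = z * (g⁻¹ * t * g) := by rw [e]; group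
  have hwt : t * w * t⁻¹ = w⁻¹ := by
    refine (hactw t htP).resolve_left fun e => C.inverts hp' hwK (by
      rw [show g⁻¹ * w * g * (g⁻¹ * w * g) = g⁻¹ * (w * w) * g by group, hww, hg]; group) ?_
    calc g⁻¹ * w * g * (g⁻¹ * t * g) = g⁻¹ * (w * t) * g := by group
      _ = g⁻¹ * (t * w) * g := by rw [mul_inv_eq_iff_eq_mul.mp e]
      _ = g⁻¹ * t * g * (g⁻¹ * w * g) := by group
  have hconj : w * t * w⁻¹ = t * s := by
    have h2 : t * w⁻¹ * t⁻¹ = w := by rw [show t * w⁻¹ * t⁻¹ = (t * w * t⁻¹)⁻¹ by group, hwt, inv_inv]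
    rw [show w * t = t * w⁻¹ from (mul_inv_eq_iff_eq_mul.mp h2).symm, mul_assoc,
      show w⁻¹ * w⁻¹ = (w * w)⁻¹ by group, hww, hs.tinv]
  by_contra hsz
  refine C.inverts (z := z) (t := t * s) ⟨h.zK, h.z2, h.z1, ?_, fun e => hsz ?_, hc _ (mul_mem htP hsP) z hzP⟩ hy hyy ?_
  · obtain ⟨f, hf⟩ := h.conj
    exact ⟨w * f, by rw [← hconj, hf]; group⟩
  · rw [← e, ← mul_assoc, h.t2, one_mul]
  · have h2 : t * y⁻¹ * t⁻¹ = y := by rw [show t * y⁻¹ * t⁻¹ = (t * y * t⁻¹)⁻¹ by group, hyt, inv_inv]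
    have : t * s * y * (t * s)⁻¹ = y := by
      rw [show t * s * y * (t * s)⁻¹ = t * (s * y * s⁻¹) * t⁻¹ by group, hys, h2]
    exact (mul_inv_eq_iff_eq_mul.mp this).symm

/-- `t` induces no inner automorphism. -/
theorem not_mem_sup {z t : G} (h : IsPair A z t) {a k : G} (ha : a ∈ A) (hk : k ∈ centralizer (A : Set G)) :
    t ≠ a * k := by
  intro e
  haveI : Fact (Nat.Prime 2) := ⟨Nat.prime_two⟩
  obtain ⟨y, hy, hyy, hact⟩ := C.exists_root h.zK h.z2 h.z1 (P := zpowers t)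
    (isPGroup_zpowers (k := 1) (by rw [pow_one, pow_two, h.t2]))
    (fun p hp => by obtain ⟨i, rfl⟩ := hp; exact ((show Commute t z from h.comm).zpow_left i).eq)
  have hyt := C.root_inv h hy hyy (hact t (mem_zpowers t))
  have hkK : k * y * k⁻¹ ∈ centralizer (A : Set G) := mul_mem (mul_mem hk hy) (inv_mem hk)
  have hky : k * y * k⁻¹ = y⁻¹ := by
    rw [← hyt, e, show a * k * y * (a * k)⁻¹ = a * (k * y * k⁻¹) * a⁻¹ by group, hkK a ha, mul_inv_cancel_right]
  obtain ⟨m, j, hm, hj⟩ := exists_odd_pow k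
  have hk' := inv_pow_odd hky hm
  set k' := k ^ m with hkdef
  have hy4 : y ^ 2 ^ 2 = 1 := by rw [show 2 ^ 2 = 2 + 2 from rfl, pow_add, pow_two, hyy, h.z2]
  have hn : zpowers k' ≤ normalizer (zpowers y : Set G) := by
    rw [zpowers_le]
    refine mem_normalizer_iff.mpr fun w => ⟨?_, ?_⟩
    · rintro ⟨i, rfl⟩
      exact ⟨-i, show y ^ (-i) = k' * y ^ i * k'⁻¹ by rw [← conj_zpow, hk', inv_zpow']⟩
    · rintro ⟨i, hi⟩
      replace hi : y ^ i = k' * w * k'⁻¹ := hi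
      refine ⟨-i, show y ^ (-i) = w from ?_⟩
      have h3 : k' * y ^ (-i) * k'⁻¹ = y ^ i := by rw [← conj_zpow, hk', inv_zpow', neg_neg]
      exact mul_left_cancel (mul_right_cancel (h3.trans hi))
  have hyz : y * z = z * y := by rw [← hyy]; group
  have hk'z : k' * z = z * k' := by
    have h3 : k' * z * k'⁻¹ = z := by
      rw [← hyy, show k' * (y * y) * k'⁻¹ = (k' * y * k'⁻¹) * (k' * y * k'⁻¹) by group, hk', ← mul_inv_rev, hyy,
        h.zinv]
    exact mul_inv_eq_iff_eq_mul.mp h3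
  obtain ⟨R, -, hR, -⟩ := C.exists_sylow h.zK h.z2 h.z1
    ((isPGroup_zpowers hj).to_sup_of_normal_right' (isPGroup_zpowers hy4) hn)
    (fun p hp => by
      have : zpowers k' ⊔ zpowers y ≤ centralizer ({z} : Set G) := sup_le
        (zpowers_le.mpr (mem_centralizer_singleton_iff.mpr hk'z)) (zpowers_le.mpr (mem_centralizer_singleton_iff.mpr hyz))
      exact mem_centralizer_singleton_iff.mp (this hp))
  haveI := C.isCyclic_map R
  set Rm := (R : Subgroup ↥(centralizer (A : Set G))).map (centralizer (A : Set G)).subtype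
  haveI : IsMulCommutative ↥Rm := IsCyclic.isMulCommutative
  have hc : k' * y = y * k' := congrArg Subtype.val (mul_comm'
    (⟨k', hR k' (mem_sup_left (mem_zpowers _)) (pow_mem hk m)⟩ : ↥Rm)
    ⟨y, hR y (mem_sup_right (mem_zpowers _)) hy⟩)
  rw [hc, mul_inv_cancel_right] at hk'
  exact h.z1 (by rw [← hyy]; nth_rw 2 [hk']; exact mul_inv_cancel y)

theorem t_not_mem {z t : G} (h : IsPair A z t) : t ∉ A := fun ht =>
  C.not_mem_sup h ht (one_mem _) (mul_one t).symm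

/-- **`z` lies in `A`.** -/
theorem z_mem {z t : G} (h : IsPair A z t) : z ∈ A := by
  by_contra hz
  haveI : Fact (Nat.Prime 2) := ⟨Nat.prime_two⟩
  have htN : t ∈ normalizer (A : Set G) := C.fix h.zK h.z2 h.z1 h.comm
  have hto : orderOf t = 2 := orderOf_eq_prime (by rw [pow_two, h.t2]) h.t1
  set X := A ⊔ zpowers t with hX
  have htX : t ∈ X := mem_sup_right (mem_zpowers t)
  have hmem : ∀ x ∈ X, ∃ a ∈ A, x * t * x⁻¹ = a * t * a⁻¹ := by
    intro x hx
    obtain ⟨a, ha, b, hb, rfl⟩ := CfsgLib.mem_sup_of_le_normalizer (zpowers_le.mpr htN) hx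
    obtain ⟨i, rfl⟩ := hb
    exact ⟨a, ha, by group⟩
  have hiso : IsIsolated (⟨t, htX⟩ : ↥X) := by
    intro x hx
    obtain ⟨a, ha, e⟩ := hmem x x.2
    refine Subtype.ext ?_
    show (x : G) * t * (x : G)⁻¹ = t
    have hx' : (x : G) * t * (x : G)⁻¹ * t = t * ((x : G) * t * (x : G)⁻¹) := by
      have h2 := congrArg Subtype.val hx
      push_cast at h2
      first | exact h2 | exact h2.symm
    rw [e] at hx' ⊢
    have haz : a * z = z * a := h.zK a ha
    obtain ⟨f, hf⟩ := h.conj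
    have hv : IsPair A z (a * t * a⁻¹) := by
      refine ⟨h.zK, h.z2, h.z1, ⟨a * f, by rw [hf]; group⟩, fun e2 => h.ne ?_, ?_⟩
      · calc t = a⁻¹ * (a * t * a⁻¹) * a := by group
          _ = z := by rw [e2, mul_assoc, ← haz, inv_mul_cancel_left]
      · calc a * t * a⁻¹ * z = a * (t * (a⁻¹ * (z * a))) * a⁻¹ := by group
          _ = a * (t * z) * a⁻¹ := by rw [← haz, inv_mul_cancel_left]
          _ = (a * z) * t * a⁻¹ := by rw [h.comm]; group
          _ = z * (a * t * a⁻¹) := by rw [haz]; group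
    rcases C.mates h hv hx' with h3 | h3
    · exact h3
    · refine absurd ?_ hz
      have e3 : z = t * a * t⁻¹ * a⁻¹ := by
        calc z = t * (t * z) := by rw [← mul_assoc, h.t2, one_mul]
          _ = t * (a * t * a⁻¹) := by rw [h3]
          _ = t * a * t⁻¹ * a⁻¹ := by rw [h.tinv]; group
      rw [e3]
      exact mul_mem ((mem_normalizer_iff.mp htN a).mp ha) (inv_mem ha)
  have hodd : Odd (Nat.card ↥(pPrimeCore 2 ↥X)) := Nat.coprime_two_right.mp (CfsgLib.card_pPrimeCore_coprime 2)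
  set O := (pPrimeCore 2 ↥X).map X.subtype with hO
  have hcomm : ∀ a ∈ A, a * t * a⁻¹ * t⁻¹ ∈ A ⊓ O := fun a ha => by
    refine mem_inf.mpr ⟨?_, ?_⟩
    · rw [show a * t * a⁻¹ * t⁻¹ = a * (t * a⁻¹ * t⁻¹) by group]
      exact mul_mem ha ((mem_normalizer_iff.mp htN _).mp (inv_mem ha))
    · refine ⟨_, inv_mem (CfsgLib.ZStar.commutator_mem (u := (⟨t, htX⟩ : ↥X)) (by rw [orderOf_mk]; exact hto) hiso
        ⟨a, mem_sup_left ha⟩), ?_⟩
      show (t * a * t⁻¹ * a⁻¹)⁻¹ = _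
      group
  haveI : ((A ⊓ O).subgroupOf A).Normal := by
    refine (normal_subgroupOf_iff_le_normalizer inf_le_left).mpr fun a ha => ?_
    refine mem_normalizer_iff.mpr fun w => ?_
    have key : ∀ b ∈ A, ∀ w ∈ A ⊓ O, b * w * b⁻¹ ∈ A ⊓ O := fun b hb w hw => by
      obtain ⟨hwA, ⟨v, hv, rfl⟩⟩ := mem_inf.mp hw
      refine mem_inf.mpr ⟨mul_mem (mul_mem hb hwA) (inv_mem hb),
        ⟨⟨b, mem_sup_left hb⟩ * v * ⟨b, mem_sup_left hb⟩⁻¹, ?_, rfl⟩⟩
      exact (inferInstance : (pPrimeCore 2 ↥X).Normal).conj_mem v hv _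
    refine ⟨key a ha w, fun hw => ?_⟩
    simpa [mul_assoc] using key a⁻¹ (inv_mem ha) _ hw
  have hcen : ∀ c ∈ A ⊓ O, ∀ b ∈ A, b * c = c * b := by
    rcases CfsgLib.quasisimple_normal_le_center_or_eq_top C.std.1 ((A ⊓ O).subgroupOf A) with h1 | h1
    · intro c hc b hb
      exact congrArg Subtype.val (Subgroup.mem_center_iff.mp
        (h1 (show (⟨c, (mem_inf.mp hc).1⟩ : ↥A) ∈ _ from hc)) ⟨b, hb⟩)
    · exfalso
      have hle : A ≤ O := (subgroupOf_eq_top.mp h1).trans inf_le_right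
      have hAo : Odd (Nat.card ↥A) := by
        refine Odd.of_dvd_nat ?_ (card_dvd_of_le hle)
        rwa [hO, card_map_of_injective X.subtype_injective]
      exact CfsgLib.isQuasisimple_not_isSolvable C.std.1 (Cfsg.Agent.S0205.result hAo)
  -- `a ↦ [a, t]` is a homomorphism to the centre
  let φ : ↥A →* ↥A :=
    { toFun := fun a => ⟨(a : G) * t * (a : G)⁻¹ * t⁻¹, (mem_inf.mp (hcomm a a.2)).1⟩
      map_one' := Subtype.ext (by simp)
      map_mul' := fun a b => Subtype.ext (by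
        have hb := hcen _ (hcomm b b.2) a a.2
        push_cast
        calc (a : G) * b * t * ((a : G) * b)⁻¹ * t⁻¹
            = (a : G) * ((b : G) * t * (b : G)⁻¹ * t⁻¹) * (t * (a : G)⁻¹ * t⁻¹) := by group
          _ = ((b : G) * t * (b : G)⁻¹ * t⁻¹) * a * (t * (a : G)⁻¹ * t⁻¹) := by rw [hb]
          _ = ((b : G) * t * (b : G)⁻¹ * t⁻¹) * ((a : G) * t * (a : G)⁻¹ * t⁻¹) := by group
          _ = _ := (hcen _ (hcomm b b.2) _ (mem_inf.mp (hcomm a a.2)).1).symm) }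
  have hker : commutator ↥A ≤ φ.ker := by
    rw [_root_.commutator_def, Subgroup.commutator_le]
    intro a _ b _
    rw [MonoidHom.mem_ker, map_commutatorElement, commutatorElement_eq_one_iff_mul_comm]
    exact Subtype.ext (hcen _ (hcomm b b.2) _ (mem_inf.mp (hcomm a a.2)).1)
  haveI := C.std.1.1
  refine C.not_mem_sup h (one_mem A) (k := t) ?_ (one_mul t).symm
  intro a ha
  have h1 : φ ⟨a, ha⟩ = 1 := MonoidHom.mem_ker.mp (hker Group.IsPerfect.mem_commutator)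
  exact mul_inv_eq_iff_eq_mul.mp (mul_inv_eq_one.mp (congrArg Subtype.val h1))

end Ctx

end CfsgLib.CyclicStandard
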