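import Cfsg.Agent.Lib.CyclicStandard.Outer
import Cfsg.Prelude.Def_TwoFusion

/-!
The quaternion group `Q = ⟨r, a⟩` is strongly closed in `T`, and `C_T(Q)` exceeds `⟨z⟩` unless `C_T(t) = ⟨z⟩`.

Blueprint: `blueprint/S3148.md`, step 5.
-/

set_option autoImplicit false
set_option linter.unusedSectionVars false
set_option linter.style.haveILetI false

namespace CfsgLib.CyclicStandard

open Subgroup Cfsg

universe u

variable {G : Type u} [Group G] [Finite G] {A : Subgroup G}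

/-- The rotations with an exchanging element `a`, a conjugate of `d` of square `z`. -/
structure Quat (A : Subgroup G) (z t : G) (T : Subgroup G) (r d : G) (m : ℕ) (a : G) : Prop where
  rot : Rot A z t T r d m
  aT : a ∈ T
  aa : a * a = z
  odd : ∃ j : ℤ, Odd j ∧ a * t * a⁻¹ = t * r ^ j
  cl : ∃ b ∈ A, a = b * d * b⁻¹

/-- The conjugates of `d` in `T`. -/
def cls (A T : Subgroup G) (d : G) : Set G := {c | c ∈ T ∧ ∃ b ∈ A, c = b * d * b⁻¹}

theorem conj_mem_cls {T : Subgroup G} {d : G} (hTA : T ≤ A) {c : G} (hc : c ∈ cls A T d) {s : G} (hs : s ∈ T) :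
    s * c * s⁻¹ ∈ cls A T d := by
  obtain ⟨hcT, b, hb, rfl⟩ := hc
  exact ⟨mul_mem (mul_mem hs hcT) (inv_mem hs), s * b, mul_mem (hTA hs) hb, by group⟩

namespace Quat

variable {z t r d a : G} {T : Subgroup G} {m : ℕ} (Q : Quat A z t T r d m a)
include Q

theorem d_conj (i : ℤ) (k : ℤ) {s : G} (h : s * r * s⁻¹ = r ^ k) :
    s * (r ^ i) * s⁻¹ = r ^ (k * i) := by
  rw [← conj_zpow, h, ← zpow_mul]

/-- `a` inverts `r`. -/
theorem a_inv : a * r * a⁻¹ = r⁻¹ := by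
  have R := Q.rot
  obtain ⟨j, hjodd, hj⟩ := Q.odd
  obtain ⟨-, k, -, hk⟩ := R.frame.act Q.aT
  have h1 : a * a * t * (a * a)⁻¹ = t * r ^ (j + k * j) := by
    rw [show a * a * t * (a * a)⁻¹ = a * (a * t * a⁻¹) * a⁻¹ by group, hj,
      show a * (t * r ^ j) * a⁻¹ = a * t * a⁻¹ * (a * r ^ j * a⁻¹) by group, hj, Q.d_conj j k hk, mul_assoc,
      ← zpow_add]
  have h2 : r ^ (j + k * j) = r ^ (0 : ℤ) := by
    rw [Q.aa, ← R.frame.base.pair.comm, mul_inv_cancel_right] at h1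
    rw [zpow_zero]
    exact (mul_eq_left.mp h1.symm)
  obtain ⟨a1, b1, hab⟩ := exists_bezout hjodd m
  rw [R.zpow_eq] at h2
  obtain ⟨c, hc⟩ := h2
  rw [hk, ← zpow_neg_one, R.zpow_eq]
  exact ⟨a1 * c - b1 * (k + 1) , by linear_combination a1 * hc + (k + 1) * hab⟩

/-- The class of the reflection classes: even or odd. -/
theorem parity {s : G} (hs : s ∈ T) :
    (∃ i : ℤ, s * t * s⁻¹ = t * r ^ (2 * i)) ∨ ∃ i : ℤ, a⁻¹ * s * t * (a⁻¹ * s)⁻¹ = t * r ^ (2 * i) := by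
  obtain ⟨j, k, hj, hk⟩ := Q.rot.frame.act hs
  rcases j.even_or_odd' with ⟨i, rfl | rfl⟩
  · exact Or.inl ⟨i, hj⟩
  right
  obtain ⟨j0, ⟨i0, hi0⟩, hj0⟩ := Q.odd
  have hainv : a⁻¹ * r * a⁻¹⁻¹ = r⁻¹ := by
    have h := Q.a_inv
    calc a⁻¹ * r * a⁻¹⁻¹ = (a⁻¹ * (a * r * a⁻¹) * a)⁻¹ := by rw [h]; group
      _ = r⁻¹ := by group
  have hat : a⁻¹ * t * a⁻¹⁻¹ = t * r ^ j0 := by
    calc a⁻¹ * t * a⁻¹⁻¹ = a⁻¹ * (t * r ^ j0) * a⁻¹⁻¹ * (a⁻¹ * r ^ j0 * a⁻¹⁻¹)⁻¹ := by group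
      _ = a⁻¹ * (a * t * a⁻¹) * a⁻¹⁻¹ * (a⁻¹ * r ^ j0 * a⁻¹⁻¹)⁻¹ := by rw [hj0]
      _ = t * r ^ j0 := by
        rw [← conj_zpow, hainv, inv_zpow, inv_inv]; group
  refine ⟨i0 - i, ?_⟩
  rw [show a⁻¹ * s * t * (a⁻¹ * s)⁻¹ = a⁻¹ * (s * t * s⁻¹) * a⁻¹⁻¹ by group, hj,
    show a⁻¹ * (t * r ^ (2 * i + 1)) * a⁻¹⁻¹ = a⁻¹ * t * a⁻¹⁻¹ * (a⁻¹ * r ^ (2 * i + 1) * a⁻¹⁻¹) by group, hat,
    ← conj_zpow, hainv, inv_zpow', mul_assoc, ← zpow_add, hi0]
  congr 2
  ring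

/-- Even elements centralise `d`. -/
theorem even_fix {s : G} (hs : s ∈ T) {i : ℤ} (h : s * t * s⁻¹ = t * r ^ (2 * i)) : s * d * s⁻¹ = d := by
  obtain ⟨hq, hqt⟩ := Q.rot.frame.even_split hs h
  have h1 := Q.rot.fix_d hq hqt
  rw [show r ^ i * s * d * (r ^ i * s)⁻¹ = r ^ i * (s * d * s⁻¹) * (r ^ i)⁻¹ by group, mul_inv_eq_iff_eq_mul] at h1
  refine mul_left_cancel (h1.trans ?_)
  rw [Q.rot.hd]
  exact ((Commute.refl r).zpow_zpow _ _).eq

theorem a_d : a * d * a⁻¹ = d⁻¹ := by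
  rw [Q.rot.hd, ← conj_zpow, Q.a_inv, inv_zpow]

/-- An element centralising `d` is even. -/
theorem even_of_fix {s : G} (hs : s ∈ T) (h : s * d * s⁻¹ = d) : ∃ i : ℤ, s * t * s⁻¹ = t * r ^ (2 * i) := by
  refine (Q.parity hs).resolve_right ?_
  rintro ⟨i, hi⟩
  have h1 := Q.even_fix (mul_mem (inv_mem Q.aT) hs) hi
  rw [show a⁻¹ * s * d * (a⁻¹ * s)⁻¹ = a⁻¹ * (s * d * s⁻¹) * a by group, h] at h1
  refine Q.rot.d_ne ?_
  calc d⁻¹ = a * d * a⁻¹ := Q.a_d.symm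
    _ = a * (a⁻¹ * d * a) * a⁻¹ := by rw [h1]
    _ = d := by group

theorem a_cls : a ∈ cls A T d := ⟨Q.aT, Q.cl⟩

theorem dinv_cls {c b : G} (hc : c ∈ T) (hb : b ∈ A) (h : c = b * d⁻¹ * b⁻¹) : c ∈ cls A T d :=
  ⟨hc, b * a, mul_mem hb (Q.rot.frame.base.TA Q.aT), by rw [h, ← Q.a_d]; group⟩

theorem t_cls {c : G} (hc : c ∈ cls A T d) : t * c * t⁻¹ ∈ cls A T d := by
  obtain ⟨hcT, b, hb, rfl⟩ := hc
  refine Q.dinv_cls (Q.rot.frame.base.tT _ hcT) ((mem_normalizer_iff.mp Q.rot.frame.base.tN b).mp hb) ?_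
  rw [← Q.rot.d_inv]
  group

/-- All `a r^x` are conjugates of `d`. -/
theorem ar_cls (x : ℤ) : a * r ^ x ∈ cls A T d := by
  obtain ⟨j, ⟨j0, hj0⟩, hj⟩ := Q.odd
  have hconj : ∀ (i : ℤ) (y : ℤ), r ^ i * (a * r ^ y) * (r ^ i)⁻¹ = a * r ^ (y - 2 * i) := by
    intro i y
    have h : r ^ i * a = a * r ^ (-i) := zpow_refl (t := a) Q.a_inv i
    rw [← mul_assoc, h, ← zpow_neg, mul_assoc, mul_assoc, ← zpow_add, ← zpow_add]
    congr 2
    ring
  have hta : t * a * t⁻¹ = a * r ^ (-j) := by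
    have h : r ^ j * a = a * r ^ (-j) := zpow_refl (t := a) Q.a_inv j
    rw [← h]
    calc t * a * t⁻¹ = t * (a * t * a⁻¹) * a * (t * t)⁻¹ := by group
      _ = r ^ j * a := by rw [hj, ← mul_assoc, Q.rot.frame.base.pair.t2, one_mul, inv_one, mul_one]
  rcases x.even_or_odd' with ⟨i, rfl | rfl⟩
  · have h := conj_mem_cls Q.rot.frame.base.TA Q.a_cls (zpow_mem Q.rot.frame.rT (-i))
    have e := hconj (-i) 0
    rw [zpow_zero, mul_one] at e
    rw [e] at h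
    convert h using 3
    ring
  · have h := conj_mem_cls Q.rot.frame.base.TA (Q.t_cls Q.a_cls) (zpow_mem Q.rot.frame.rT (-i - j0 - 1))
    rw [hta, hconj] at h
    convert h using 3
    rw [hj0]; ring

theorem cls_sq {c : G} (hc : c ∈ cls A T d) : c * c = z := by
  obtain ⟨-, b, hb, rfl⟩ := hc
  rw [show b * d * b⁻¹ * (b * d * b⁻¹) = b * (d * d) * b⁻¹ by group, Q.rot.dd, Q.rot.frame.base.zc hb,
    mul_inv_cancel_right]

/-- Conjugates of `d` centralising `d` are rotations. -/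
theorem cls_even {c : G} (hc : c ∈ cls A T d) {i : ℤ} (hi : c * t * c⁻¹ = t * r ^ (2 * i)) : c ∈ zpowers r := by
  obtain ⟨hcT, b, hb, e⟩ := hc
  refine Q.rot.fused_even hcT (inv_mem hb) ?_ hi ?_
  · rw [e, show b⁻¹ * (b * d * b⁻¹) * b⁻¹⁻¹ = d by group, Q.rot.hd]; exact zpow_mem (mem_zpowers r) _
  · rw [Q.cls_sq ⟨hcT, b, hb, e⟩]; exact Q.rot.zr

/-- Two commuting conjugates of `d` differ by `1` or `z`. -/
theorem cls_comm {c c' : G} (hc : c ∈ cls A T d) (hc' : c' ∈ cls A T d) (h : c' * c = c * c') :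
    c' = c ∨ c' = c * z := by
  haveI : Fact (Nat.Prime 2) := ⟨Nat.prime_two⟩
  have R := Q.rot
  obtain ⟨hcT, b, hb, hce⟩ := hc
  set u := b⁻¹ * c' * b with hu
  have huA : u ∈ A := mul_mem (mul_mem (inv_mem hb) (R.frame.base.TA hc'.1)) hb
  have hud : u * d = d * u := by
    have e : d = b⁻¹ * c * b := by rw [hce]; group
    calc u * d = b⁻¹ * (c' * c) * b := by rw [hu, e]; group
      _ = b⁻¹ * (c * c') * b := by rw [h]
      _ = d * u := by rw [hu, e]; group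
  set N := A ⊓ normalizer (zpowers d : Set G) with hN
  have hTN : T ≤ N := le_inf R.frame.base.TA fun s hs => mem_normalizer_iff.mpr fun x => by
    have key : ∀ s ∈ T, ∀ x ∈ zpowers d, s * x * s⁻¹ ∈ zpowers d := fun s hs x hx => by
      obtain ⟨i, rfl⟩ := hx
      rw [← conj_zpow]
      exact zpow_mem (R.frame.rot_normal (mem_sup_left hs) (R.hd ▸ zpow_mem (mem_zpowers r) _)) i
    exact ⟨key s hs x, fun h => by simpa [mul_assoc] using key s⁻¹ (inv_mem hs) _ h⟩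
  let T0 : Sylow 2 ↥N := (R.frame.base.Tp.of_equiv (subgroupOfEquivOfLe hTN).symm).toSylow (by
    intro h2
    refine R.frame.base.Tfull (h2.trans ?_)
    show T.relIndex N ∣ _
    rw [← relIndex_mul_relIndex _ N _ hTN inf_le_left]
    exact dvd_mul_right _ _)
  set K := (centralizer ({d} : Set G)).subgroupOf N with hK
  haveI : K.Normal := ⟨fun x hx n => by
    rw [hK, mem_subgroupOf, mem_centralizer_singleton_iff] at hx ⊢
    obtain ⟨i, hi⟩ := (mem_normalizer_iff.mp (mem_inf.mp (inv_mem n.2)).2 d).mp (mem_zpowers d)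
    replace hi : d ^ i = (n : G)⁻¹ * d * (n : G)⁻¹⁻¹ := hi
    have hxi : (x : G) * d ^ i = d ^ i * (x : G) := ((show Commute (x : G) d from hx).zpow_right i).eq
    push_cast
    calc (n : G) * x * (n : G)⁻¹ * d = n * (x * d ^ i) * (n : G)⁻¹ := by rw [hi]; group
      _ = n * (d ^ i * x) * (n : G)⁻¹ := by rw [hxi]
      _ = d * ((n : G) * x * (n : G)⁻¹) := by rw [hi]; group⟩
  have huN : u ∈ N := mem_inf.mpr ⟨huA, centralizer_le_normalizer _ (mem_centralizer_iff.mpr fun x hx => by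
    obtain ⟨i, rfl⟩ := hx
    exact ((show Commute u d from hud).zpow_right i).eq.symm)⟩
  have hu4 : u ^ 2 ^ 2 = 1 := by
    have hsq : u * u = z := by
      rw [hu, show b⁻¹ * c' * b * (b⁻¹ * c' * b) = b⁻¹ * (c' * c') * b by group, Q.cls_sq hc',
        R.frame.base.zc (inv_mem hb), mul_assoc]
      simp
    rw [show 2 ^ 2 = 2 + 2 from rfl, pow_add, pow_two, hsq, R.frame.base.pair.z2]
  let uK : ↥K := ⟨⟨u, huN⟩, mem_centralizer_singleton_iff.mpr hud⟩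
  obtain ⟨k, -, hko⟩ := (Nat.dvd_prime_pow Nat.prime_two).mp
    (orderOf_dvd_of_pow_eq_one (x := uK) (n := 2 ^ 2) (Subtype.ext (Subtype.ext hu4)))
  obtain ⟨h0, hh0⟩ := CfsgLib.LocalFusion.exists_conj_mem (CfsgLib.sylowInfNormal T0 K) (t := uK) (a := k) hko
  set g : G := ((h0 : ↥N) : G) with hg
  have hgd : g * d = d * g := mem_centralizer_singleton_iff.mp h0.2
  have hgA : g ∈ A := (mem_inf.mp (h0 : ↥N).2).1
  have hgT : g * u * g⁻¹ ∈ T := hh0
  have hgud : g * u * g⁻¹ * d * (g * u * g⁻¹)⁻¹ = d := by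
    rw [mul_inv_eq_iff_eq_mul]
    calc g * u * g⁻¹ * d = g * u * (g⁻¹ * (d * g)) * g⁻¹ := by group
      _ = g * (u * d) * g⁻¹ := by rw [← hgd, inv_mul_cancel_left]; group
      _ = (g * d) * u * g⁻¹ := by rw [hud]; group
      _ = d * (g * u * g⁻¹) := by rw [hgd]; group
  obtain ⟨i, hi⟩ := Q.even_of_fix hgT hgud
  obtain ⟨hc'T, b', hb', hc'e⟩ := hc'
  obtain ⟨n, hn⟩ := Q.cls_even (c := g * u * g⁻¹) ⟨hgT, g * b⁻¹ * b', mul_mem (mul_mem hgA (inv_mem hb)) hb', by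
    rw [hu, hc'e]; group⟩ hi
  replace hn : r ^ n = g * u * g⁻¹ := hn
  -- a rotation of square `z` is `d` or `d z`
  have hsq : r ^ n * r ^ n = z := by
    rw [hn, show g * u * g⁻¹ * (g * u * g⁻¹) = g * b⁻¹ * (c' * c') * b * g⁻¹ by rw [hu]; group,
      Q.cls_sq ⟨hc'T, b', hb', hc'e⟩, R.frame.base.zc (mul_mem hgA (inv_mem hb))]
    group
  have hfin : r ^ n = d ∨ r ^ n = d * z := by
    rw [R.hd] at hgud ⊢
    rcases R.frame.rot_fixed (n - (2 : ℤ) ^ (m - 2)) (by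
        rw [zpow_refl R.frame.inv]; congr 1
        have h1 : r ^ (2 * n) = r ^ (2 * (2 : ℤ) ^ (m - 2)) := by
          rw [two_mul, zpow_add, hsq, ← R.dd, R.hd, ← zpow_add, two_mul]
        obtain ⟨c3, hc3⟩ := R.zpow_eq.mp h1
        rw [R.zpow_eq]
        exact ⟨-c3, by linear_combination -hc3⟩) with h3 | h3
    · left; rw [zpow_sub, mul_inv_eq_one] at h3; exact h3
    · right
      rw [show n = (2 : ℤ) ^ (m - 2) + (n - (2 : ℤ) ^ (m - 2)) by ring, zpow_add, h3]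
  have hback : c' = b * (g⁻¹ * r ^ n * g) * b⁻¹ := by rw [hn, hu]; group
  rcases hfin with h4 | h4
  · left
    rw [hback, h4, mul_assoc g⁻¹, ← hgd, inv_mul_cancel_left, hce]
  · right
    rw [hback, h4, hce, show g⁻¹ * (d * z) * g = g⁻¹ * d * g * (g⁻¹ * z * g) by group, mul_assoc g⁻¹ d, ← hgd,
      inv_mul_cancel_left, R.frame.base.zc (inv_mem hgA), inv_mul_cancel_right]
    calc b * (d * z) * b⁻¹ = b * d * (z * b⁻¹) := by group
      _ = b * d * (b⁻¹ * z) := by rw [R.frame.base.zc (inv_mem hb)]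
      _ = b * d * b⁻¹ * z := by group

/-- The inverted part of a conjugate of `d` is a rotation. -/
theorem inverted_rot : ∀ (k : ℕ) (c : G), c ^ 2 ^ k = 1 → c ∈ T → c * r = r * c →
    (∃ i : ℤ, c * t * c⁻¹ = t * r ^ (2 * i)) → a * c * a⁻¹ = c⁻¹ → a * c ∈ cls A T d → c ∈ zpowers r := by
  have R := Q.rot
  intro k
  induction k with
  | zero => intro c h _ _ _ _ _; rw [pow_zero, pow_one] at h; rw [h]; exact one_mem _
  | succ k ih =>
    intro c hk hcT hcr ⟨i, hi⟩ hinv hcl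
    have hinv2 : a * (c * c) * a⁻¹ = (c * c)⁻¹ := by
      rw [show a * (c * c) * a⁻¹ = a * c * a⁻¹ * (a * c * a⁻¹) by group, hinv]; group
    have hcl2 : a * (c * c) ∈ cls A T d := by
      have h := conj_mem_cls R.frame.base.TA Q.a_cls (inv_mem hcT)
      have e : c⁻¹ * a = a * c := by rw [← hinv]; group
      rwa [inv_inv, e, mul_assoc] at h
    have heven2 : ∃ i' : ℤ, c * c * t * (c * c)⁻¹ = t * r ^ (2 * i') := by
      refine ⟨2 * i, ?_⟩
      rw [show c * c * t * (c * c)⁻¹ = c * (c * t * c⁻¹) * c⁻¹ by group, hi,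
        show c * (t * r ^ (2 * i)) * c⁻¹ = c * t * c⁻¹ * (c * r ^ (2 * i) * c⁻¹) by group, hi, ← conj_zpow,
        show c * r * c⁻¹ = r by rw [hcr, mul_inv_cancel_right], mul_assoc, ← zpow_add, ← two_mul]
    have hc2 := ih (c * c) (by rw [← pow_two, ← pow_mul, ← pow_succ', hk]) (mul_mem hcT hcT)
      (by rw [mul_assoc, hcr, ← mul_assoc, hcr, mul_assoc]) heven2 hinv2 hcl2
    obtain ⟨hq, hqt⟩ := R.frame.even_split hcT hi
    set q := r ^ i * c with hq'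
    have hrc : Commute (r ^ i) c := (show Commute r c from hcr.symm).zpow_left i
    obtain ⟨n, hn⟩ : q * q ∈ zpowers r := by
      rw [hq', show r ^ i * c * (r ^ i * c) = r ^ i * r ^ i * (c * c) by
        rw [mul_assoc, ← mul_assoc c, ← hrc.eq]; group]
      exact mul_mem (mul_mem (zpow_mem (mem_zpowers r) i) (zpow_mem (mem_zpowers r) i)) hc2
    replace hn : r ^ n = q * q := hn
    have hqq1 : q * q = 1 := by
      rw [← hn]
      refine (R.frame.rot_fixed n ?_).resolve_right fun h => R.frame.nosq hq hqt (hn ▸ h)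
      rw [hn, mul_assoc, hqt, ← mul_assoc, hqt, mul_assoc]
    have har : a * r ^ i * a⁻¹ = r ^ (-i) := by rw [← conj_zpow, Q.a_inv, inv_zpow']
    have haq : a * q * a⁻¹ = q := by
      rw [hq', show a * (r ^ i * c) * a⁻¹ = a * r ^ i * a⁻¹ * (a * c * a⁻¹) by group, har, hinv, zpow_neg,
        ← mul_inv_rev, ← hrc.eq]
      exact inv_eq_of_mul_eq_one_right hqq1
    have har2 := Q.ar_cls (-i)
    have hc' : c = r ^ (-i) * q := by rw [hq', zpow_neg]; group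
    have e : a * c = a * r ^ (-i) * q := by rw [hc', mul_assoc]
    have hqr : Commute (r ^ (-i)) q := by
      rw [hq']; exact ((Commute.refl r).zpow_zpow _ _).mul_right ((show Commute r c from hcr.symm).zpow_left _)
    have hcomm : a * c * (a * r ^ (-i)) = a * r ^ (-i) * (a * c) := by
      have h5 : Commute (a * r ^ (-i)) q :=
        (show Commute a q from mul_inv_eq_iff_eq_mul.mp haq).mul_left hqr
      rw [e]
      exact ((Commute.refl _).mul_left h5.symm).eq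
    rw [hc']
    refine mul_mem (zpow_mem (mem_zpowers r) _) ?_
    rcases Q.cls_comm har2 hcl hcomm with h | h <;> rw [e] at h
    · rw [mul_eq_left.mp h]; exact one_mem _
    · rw [mul_left_cancel h]; exact R.zr

/-- **Conjugates of `d` in `T` lie in `⟨r, a⟩`.** -/
theorem cls_cases {c : G} (hc : c ∈ cls A T d) : c ∈ zpowers r ∨ ∃ x : ℤ, c = a * r ^ x := by
  have R := Q.rot
  rcases Q.parity hc.1 with ⟨i, hi⟩ | ⟨i, hi⟩
  · exact Or.inl (Q.cls_even hc hi)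
  right
  set c0 := a⁻¹ * c with hc0
  have hc0T : c0 ∈ T := mul_mem (inv_mem Q.aT) hc.1
  have hcc := Q.cls_sq hc
  -- `c` inverts `r`
  have hinvd : c * d * c⁻¹ = d⁻¹ := by
    have h1 := Q.even_fix hc0T hi
    rw [show c * d * c⁻¹ = a * (c0 * d * c0⁻¹) * a⁻¹ by rw [hc0]; group, h1, Q.a_d]
  obtain ⟨j, k, hj, hk⟩ := R.frame.act hc.1
  have hjodd : Odd j := by
    rcases j.even_or_odd' with ⟨i', rfl | rfl⟩
    · exfalso
      have h2 := Q.even_fix hc.1 hj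
      rw [h2] at hinvd
      exact R.d_ne hinvd.symm
    · exact ⟨i', rfl⟩
  have hkk : c * r * c⁻¹ = r⁻¹ := by
    have h1 : c * c * t * (c * c)⁻¹ = t * r ^ (j + k * j) := by
      rw [show c * c * t * (c * c)⁻¹ = c * (c * t * c⁻¹) * c⁻¹ by group, hj,
        show c * (t * r ^ j) * c⁻¹ = c * t * c⁻¹ * (c * r ^ j * c⁻¹) by group, hj, Q.d_conj j k hk, mul_assoc,
        ← zpow_add]
    rw [hcc, ← R.frame.base.pair.comm, mul_inv_cancel_right] at h1
    have h2 : r ^ (j + k * j) = r ^ (0 : ℤ) := by rw [zpow_zero]; exact mul_eq_left.mp h1.symm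
    obtain ⟨a1, b1, hab⟩ := exists_bezout hjodd m
    obtain ⟨c1, hc1⟩ := R.zpow_eq.mp h2
    rw [hk, ← zpow_neg_one, R.zpow_eq]
    exact ⟨a1 * c1 - b1 * (k + 1), by linear_combination a1 * hc1 + (k + 1) * hab⟩
  have hc0r : c0 * r = r * c0 := by
    refine mul_inv_eq_iff_eq_mul.mp ?_
    rw [hc0, show a⁻¹ * c * r * (a⁻¹ * c)⁻¹ = a⁻¹ * (c * r * c⁻¹) * a by group, hkk, ← Q.a_inv]
    group
  have hinv : a * c0 * a⁻¹ = c0⁻¹ := by
    calc a * c0 * a⁻¹ = c * a⁻¹ := by rw [hc0]; group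
      _ = c⁻¹ * (c * c) * a⁻¹ := by group
      _ = c⁻¹ * (a * a) * a⁻¹ := by rw [hcc, Q.aa]
      _ = c0⁻¹ := by rw [hc0]; group
  obtain ⟨kk, hkk'⟩ := R.frame.base.Tp ⟨c0, hc0T⟩
  obtain ⟨x, hx⟩ := Q.inverted_rot kk c0 (congrArg Subtype.val hkk') hc0T hc0r ⟨i, hi⟩ hinv
    (by rw [hc0, mul_inv_cancel_left]; exact hc)
  exact ⟨x, by rw [show r ^ x = c0 from hx, hc0, mul_inv_cancel_left]⟩

/-- The quaternion subgroup. -/
def grp (_ : Quat A z t T r d m a) : Subgroup G := zpowers r ⊔ zpowers a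

theorem mem_grp_of_rot {x : G} (hx : x ∈ zpowers r) : x ∈ Q.grp := mem_sup_left hx

theorem ar_mem (x : ℤ) : a * r ^ x ∈ Q.grp :=
  mul_mem (mem_sup_right (mem_zpowers a)) (mem_sup_left (zpow_mem (mem_zpowers r) x))

theorem grp_le : Q.grp ≤ T := sup_le (zpowers_le.mpr Q.rot.frame.rT) (zpowers_le.mpr Q.aT)

theorem a_norm : zpowers a ≤ normalizer (zpowers r : Set G) := by
  rw [zpowers_le]
  refine mem_normalizer_iff.mpr fun x => ⟨?_, ?_⟩
  · rintro ⟨i, rfl⟩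
    exact ⟨-i, show r ^ (-i) = a * r ^ i * a⁻¹ by rw [← conj_zpow, Q.a_inv, inv_zpow']⟩
  · rintro ⟨i, hi⟩
    replace hi : r ^ i = a * x * a⁻¹ := hi
    refine ⟨-i, show r ^ (-i) = x from ?_⟩
    have h2 : a * r ^ (-i) * a⁻¹ = r ^ i := by rw [← conj_zpow, Q.a_inv, inv_zpow', neg_neg]
    exact mul_left_cancel (mul_right_cancel (h2.trans hi))

theorem grp_cases {x : G} (hx : x ∈ Q.grp) : x ∈ zpowers r ∨ ∃ i : ℤ, x = a * r ^ i := by
  obtain ⟨u, ⟨i, rfl⟩, v, ⟨n, rfl⟩, rfl⟩ := CfsgLib.mem_sup_of_le_normalizer Q.a_norm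
    (show x ∈ zpowers r ⊔ zpowers a from hx)
  rcases n.even_or_odd' with ⟨q, rfl | rfl⟩
  · left
    show r ^ i * a ^ (2 * q) ∈ zpowers r
    rw [zpow_mul, zpow_two, Q.aa]
    exact mul_mem (zpow_mem (mem_zpowers r) i) (zpow_mem Q.rot.zr q)
  · right
    obtain ⟨w, hw⟩ := Q.rot.zr
    replace hw : r ^ w = z := hw
    refine ⟨w * q - i, ?_⟩
    show r ^ i * a ^ (2 * q + 1) = _
    rw [show (2 * q + 1 : ℤ) = 1 + 2 * q by ring, zpow_add, zpow_one, zpow_mul, zpow_two, Q.aa, ← hw, ← zpow_mul,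
      ← mul_assoc, zpow_refl (t := a) Q.a_inv, mul_assoc, ← zpow_add]
    congr 2
    ring

/-- An element of order at most 2 in `⟨r, a⟩` is `1` or `z`. -/
theorem grp_inv {x : G} (hx : x ∈ Q.grp) (h2 : x * x = 1) : x = 1 ∨ x = z := by
  rcases Q.grp_cases hx with ⟨i, rfl⟩ | ⟨i, rfl⟩
  · refine Q.rot.frame.rot_fixed i ?_
    rw [zpow_refl Q.rot.frame.inv, zpow_neg, inv_eq_of_mul_eq_one_right h2]
  · exact absurd ((Q.cls_sq (Q.ar_cls i)).symm.trans h2) Q.rot.frame.base.pair.z1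

theorem cls_mem {c : G} (hc : c ∈ cls A T d) : c ∈ Q.grp := by
  rcases Q.cls_cases hc with h | ⟨x, rfl⟩
  exacts [Q.mem_grp_of_rot h, Q.ar_mem x]

/-- A rotation of square `z` is `d` or `d⁻¹`. -/
theorem rot_sq {n : ℤ} (hsq : r ^ n * r ^ n = z) : r ^ n = d ∨ r ^ n = d⁻¹ := by
  have R := Q.rot
  rcases R.frame.rot_fixed (n - (2 : ℤ) ^ (m - 2)) (by
      rw [zpow_refl R.frame.inv]; congr 1
      have h1 : r ^ (2 * n) = r ^ (2 * (2 : ℤ) ^ (m - 2)) := by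
        rw [two_mul, zpow_add, hsq, ← R.dd, R.hd, ← zpow_add, two_mul]
      obtain ⟨c3, hc3⟩ := R.zpow_eq.mp h1
      rw [R.zpow_eq]
      exact ⟨-c3, by linear_combination -hc3⟩) with h3 | h3
  · left; rw [zpow_sub, mul_inv_eq_one, ← R.hd] at h3; exact h3
  · right
    rw [show n = (2 : ℤ) ^ (m - 2) + (n - (2 : ℤ) ^ (m - 2)) by ring, zpow_add, h3, ← R.hd, R.dinv_eq]

/-- **`⟨r, a⟩` is strongly closed in `T`.** -/
theorem closed {x g : G} (hx : x ∈ Q.grp) (hg : g ∈ A) (hc : g * x * g⁻¹ ∈ T) : g * x * g⁻¹ ∈ Q.grp := by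
  have R := Q.rot
  rcases Q.grp_cases hx with hxr | ⟨i, rfl⟩
  swap
  · obtain ⟨-, b, hb, e⟩ := Q.ar_cls i
    exact Q.cls_mem ⟨hc, g * b, mul_mem hg hb, by rw [e]; group⟩
  suffices key : ∀ (k : ℕ) (x : G), x ^ 2 ^ k = 1 → x ∈ zpowers r → g * x * g⁻¹ ∈ T → g * x * g⁻¹ ∈ Q.grp by
    obtain ⟨k, hk⟩ := R.frame.base.Tp ⟨x, (zpowers_le.mpr R.frame.rT) hxr⟩
    exact key k x (congrArg Subtype.val hk) hxr hc
  intro k
  induction k with
  | zero => intro x h _ _; rw [pow_zero, pow_one] at h; rw [h]; simp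
  | succ k ih =>
    intro x hk hxr hcT
    set c := g * x * g⁻¹ with hcdef
    have hfix : ∀ w ∈ zpowers r, w * w = 1 → w = 1 ∨ w = z := fun w hw => Q.grp_inv (Q.mem_grp_of_rot hw)
    rcases eq_or_ne (x * x) 1 with h2 | h2
    · rcases hfix x hxr h2 with h | h
      · rw [hcdef, h]; simp
      · rw [hcdef, h, R.frame.base.zc hg, mul_inv_cancel_right]; exact Q.mem_grp_of_rot R.zr
    rcases eq_or_ne (x * x * (x * x)) 1 with h4 | h4
    · have hsq := (hfix _ (mul_mem hxr hxr) h4).resolve_left h2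
      obtain ⟨n, hn⟩ := hxr
      replace hn : r ^ n = x := hn
      rw [← hn] at hsq
      rcases Q.rot_sq hsq with h | h <;> rw [hn] at h
      · exact Q.cls_mem ⟨hcT, g, hg, by rw [hcdef, h]⟩
      · exact Q.cls_mem (Q.dinv_cls hcT hg (by rw [hcdef, h]))
    have hc2 : c * c = g * (x * x) * g⁻¹ := by rw [hcdef]; group
    have hIH := ih (x * x) (by rw [← pow_two, ← pow_mul, ← pow_succ', hk]) (mul_mem hxr hxr)
      (hc2 ▸ mul_mem hcT hcT)
    rw [← hc2] at hIH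
    obtain ⟨j, k', hj, hk'⟩ := R.frame.act hcT
    obtain ⟨q, rfl⟩ := R.odd_exp hk'
    -- a square is even
    have hccr : c * c ∈ zpowers r := by
      refine (Q.grp_cases hIH).resolve_right ?_
      rintro ⟨y, hy⟩
      have h7 : c * c * t * (c * c)⁻¹ = t * r ^ (2 * (j + q * j)) := by
        rw [show c * c * t * (c * c)⁻¹ = c * (c * t * c⁻¹) * c⁻¹ by group, hj,
          show c * (t * r ^ j) * c⁻¹ = c * t * c⁻¹ * (c * r ^ j * c⁻¹) by group, hj, ← conj_zpow, hk', ← zpow_mul,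
          mul_assoc, ← zpow_add]
        congr 2
        ring
      have h8 := Q.even_fix (mul_mem hcT hcT) h7
      rw [hy, show a * r ^ y * d * (a * r ^ y)⁻¹ = a * (r ^ y * d * (r ^ y)⁻¹) * a⁻¹ by group,
        show r ^ y * d * (r ^ y)⁻¹ = d by
          rw [R.hd, ((Commute.refl r).zpow_zpow _ _).eq, mul_inv_cancel_right], Q.a_d] at h8
      exact R.d_ne h8
    -- `c` centralises `d`
    have hcd : c * d * c⁻¹ = d := by
      obtain ⟨y, hy⟩ := hccr
      replace hy : r ^ y = c * c := hy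
      have hcy : Commute c (r ^ y) := by rw [hy]; exact (Commute.refl c).mul_right (Commute.refl c)
      have hy4 : r ^ y * r ^ y ≠ 1 := by
        rw [hy, hc2, show g * (x * x) * g⁻¹ * (g * (x * x) * g⁻¹) = g * (x * x * (x * x)) * g⁻¹ by group]
        exact fun e => h4 (conj_eq_one_iff.mp e)
      have h9 : r ^ ((2 * q + 1) * y) = r ^ y := by
        rw [← Q.d_conj y _ hk', hcy.eq, mul_inv_cancel_right]
      rw [R.hd, ← conj_zpow, hk', ← zpow_mul]
      rcases Int.even_or_odd q with ⟨q', rfl⟩ | hq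
      · rw [R.zpow_eq]
        have e4 : (2 : ℤ) ^ m = 4 * 2 ^ (m - 2) := by
          rw [show (4 : ℤ) = 2 ^ 2 by norm_num, ← pow_add]; congr 1; have := R.two_le; omega
        exact ⟨-q', by rw [e4]; ring⟩
      · exfalso
        obtain ⟨a1, b1, hab⟩ := exists_bezout hq m
        obtain ⟨c1, hc1⟩ := R.zpow_eq.mp h9
        refine hy4 ?_
        rw [← zpow_add, ← zpow_zero r, R.zpow_eq]
        exact ⟨a1 * c1 - b1 * (2 * y), by linear_combination a1 * hc1 + (2 * y) * hab⟩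
    obtain ⟨i, hi⟩ := Q.even_of_fix hcT hcd
    refine Q.mem_grp_of_rot (R.fused_even hcT (inv_mem hg) ?_ hi hccr)
    rw [hcdef, show g⁻¹ * (g * x * g⁻¹) * g⁻¹⁻¹ = x by group]
    exact hxr

theorem grp_normal {s x : G} (hs : s ∈ T) (hx : x ∈ Q.grp) : s * x * s⁻¹ ∈ Q.grp :=
  Q.closed hx (Q.rot.frame.base.TA hs) (mul_mem (mul_mem hs (Q.grp_le hx)) (inv_mem hs))

/-- `C_T(Q)` exceeds `⟨z⟩` unless `C_T(t) = ⟨z⟩`. -/
theorem exists_cent {p0 : G} (hp0 : p0 ∈ T) (hp0t : p0 * t = t * p0) (h1 : p0 ≠ 1) (hz : p0 ≠ z) :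
    ∃ p ∈ T, (∀ q ∈ Q.grp, q * p = p * q) ∧ p ∉ Q.grp := by
  have R := Q.rot
  haveI : Fact (Nat.Prime 2) := ⟨Nat.prime_two⟩
  -- an involution of `C_T(t)` other than `z`
  obtain ⟨p1, hp1, hp1t, hp12, hp1r⟩ : ∃ p1 ∈ T, p1 * t = t * p1 ∧ p1 * p1 = 1 ∧ p1 ∉ zpowers r := by
    suffices key : ∀ (k : ℕ) (p : G), p ^ 2 ^ k = 1 → p ∈ T → p * t = t * p → p ≠ 1 → p ≠ z →
        ∃ p1 ∈ T, p1 * t = t * p1 ∧ p1 * p1 = 1 ∧ p1 ≠ 1 ∧ p1 ≠ z by
      obtain ⟨k, hk⟩ := R.frame.base.Tp ⟨p0, hp0⟩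
      obtain ⟨p1, hp1, hp1t, hp12, hp11, hp1z⟩ := key k p0 (congrArg Subtype.val hk) hp0 hp0t h1 hz
      refine ⟨p1, hp1, hp1t, hp12, ?_⟩
      rintro ⟨i, rfl⟩
      rcases R.frame.rot_fixed i hp1t with h | h
      exacts [hp11 h, hp1z h]
    intro k
    induction k with
    | zero => intro p h _ _ h1' _; rw [pow_zero, pow_one] at h; exact absurd h h1'
    | succ k ih =>
      intro p hk hp hpt hp1 hpz
      by_cases h2 : p * p = 1
      · exact ⟨p, hp, hpt, h2, hp1, hpz⟩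
      · exact ih (p * p) (by rw [← pow_two, ← pow_mul, ← pow_succ', hk]) (mul_mem hp hp)
          (by rw [mul_assoc, hpt, ← mul_assoc, hpt, mul_assoc]) h2 (R.frame.nosq hp hpt)
  have hp1c := R.fix_r hp1 hp1t hp12
  -- an element of `C_T(r)`, an involution central modulo `⟨r⟩`
  set V := T ⊓ centralizer ({r} : Set G) with hV
  set R0 := (zpowers r).subgroupOf T with hR0
  haveI : R0.Normal := ⟨fun x hx s => by
    rw [hR0, mem_subgroupOf] at hx ⊢
    exact zpowers_le.mpr hx (R.frame.rot_normal (mem_sup_left s.2) hx)⟩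
  let π := QuotientGroup.mk' R0
  haveI : (V.subgroupOf T).Normal := ⟨fun x hx s => by
    rw [mem_subgroupOf, hV, mem_inf, mem_centralizer_singleton_iff] at hx ⊢
    refine ⟨(s * x * s⁻¹).2, ?_⟩
    obtain ⟨-, k, -, hk⟩ := R.frame.act (inv_mem s.2)
    push_cast
    have h5 : Commute (x : G) ((s : G)⁻¹ * r * (s : G)⁻¹⁻¹) := by
      rw [hk]; exact (show Commute (x : G) r from hx.2).zpow_right k
    calc (s : G) * x * (s : G)⁻¹ * r = s * (x * ((s : G)⁻¹ * r * (s : G)⁻¹⁻¹)) * (s : G)⁻¹ := by group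
      _ = s * ((s : G)⁻¹ * r * (s : G)⁻¹⁻¹ * x) * (s : G)⁻¹ := by rw [h5.eq]
      _ = r * ((s : G) * x * (s : G)⁻¹) := by group⟩
  haveI hVn : ((V.subgroupOf T).map π).Normal := Subgroup.Normal.map inferInstance π (QuotientGroup.mk'_surjective _)
  haveI : Group.IsNilpotent (↥T ⧸ R0) := (R.frame.base.Tp.to_quotient R0).isNilpotent
  have hne : (V.subgroupOf T).map π ≠ ⊥ := fun e => hp1r (by
    have h5 : π ⟨p1, hp1⟩ ∈ (V.subgroupOf T).map π := mem_map_of_mem π (show p1 ∈ V from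
      mem_inf.mpr ⟨hp1, mem_centralizer_singleton_iff.mpr (mul_inv_eq_iff_eq_mul.mp hp1c)⟩)
    rw [e, Subgroup.mem_bot] at h5
    exact (QuotientGroup.eq_one_iff (N := R0) _).mp h5)
  set W := (V.subgroupOf T).map π ⊓ Subgroup.center (↥T ⧸ R0) with hW
  have hWne : W ≠ ⊥ := inf_center_ne_bot_of_nilpotent hne
  have hWp : IsPGroup 2 ↥W := (R.frame.base.Tp.to_quotient R0).to_subgroup W
  haveI : Nontrivial ↥W := (Subgroup.nontrivial_iff_ne_bot W).mpr hWne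
  obtain ⟨n0, hn0, hn0c⟩ := hWp.nontrivial_iff_card.mp inferInstance
  obtain ⟨⟨w, hw⟩, hwo⟩ := exists_prime_orderOf_dvd_card' (G := ↥W) 2 (hn0c ▸ dvd_pow_self 2 (by omega))
  rw [orderOf_mk] at hwo
  obtain ⟨⟨v, hv, hvw⟩, hwc⟩ := mem_inf.mp hw
  subst hvw
  obtain ⟨hvT, hvr⟩ := mem_inf.mp (show (v : G) ∈ V from hv)
  replace hvr : (v : G) * r = r * v := mem_centralizer_singleton_iff.mp hvr
  have hvn : (v : G) ∉ zpowers r := fun h => by
    rw [(QuotientGroup.eq_one_iff (N := R0) v).mpr h |> fun e : π v = 1 => e, orderOf_one] at hwo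
    exact absurd hwo (by norm_num)
  have hvv : (v : G) * v ∈ zpowers r := by
    have h5 : π (v * v) = 1 := by rw [map_mul, ← pow_two, ← hwo, pow_orderOf_eq_one]
    exact (QuotientGroup.eq_one_iff (N := R0) _).mp h5
  have hcen : ∀ s ∈ T, s * (v : G) * s⁻¹ * (v : G)⁻¹ ∈ zpowers r := fun s hs => by
    have h6 : π (⟨s, hs⟩ * v * ⟨s, hs⟩⁻¹ * v⁻¹) = 1 := by
      rw [map_mul, map_mul, map_mul, map_inv, map_inv, Subgroup.mem_center_iff.mp hwc (π ⟨s, hs⟩)]; group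
    exact (QuotientGroup.eq_one_iff (N := R0) _).mp h6
  obtain ⟨i, hi⟩ := Q.even_of_fix hvT (by
    rw [R.hd, ((show Commute (v : G) r from hvr).zpow_right _).eq, mul_inv_cancel_right])
  obtain ⟨hq, hqt⟩ := R.frame.even_split hvT hi
  set q := r ^ i * (v : G) with hq'
  have hqr : Commute q r := ((Commute.refl r).zpow_left i).mul_left hvr
  have hqn : q ∉ zpowers r := fun h => hvn (by
    have := mul_mem (inv_mem (zpow_mem (mem_zpowers r) i)) h
    rwa [hq', inv_mul_cancel_left] at this)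
  have hqq : q * q = 1 := by
    obtain ⟨n, hn⟩ : q * q ∈ zpowers r := by
      rw [hq', show r ^ i * (v : G) * (r ^ i * v) = r ^ i * r ^ i * (v * v) by
        rw [mul_assoc, ← mul_assoc (v : G), ((show Commute (v : G) r from hvr).zpow_right i).eq]; group]
      exact mul_mem (mul_mem (zpow_mem (mem_zpowers r) i) (zpow_mem (mem_zpowers r) i)) hvv
    replace hn : r ^ n = q * q := hn
    rw [← hn]
    refine (R.frame.rot_fixed n ?_).resolve_right fun h => R.frame.nosq hq hqt (hn ▸ h)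
    rw [hn, mul_assoc, hqt, ← mul_assoc, hqt, mul_assoc]
  obtain ⟨y, hy⟩ : a * q * a⁻¹ * q⁻¹ ∈ zpowers r := by
    rw [show a * q * a⁻¹ * q⁻¹ = a * r ^ i * a⁻¹ * (a * (v : G) * a⁻¹ * (v : G)⁻¹) * (r ^ i)⁻¹ by rw [hq']; group]
    exact mul_mem (mul_mem ((zpowers_le.mpr (zpow_mem (mem_zpowers r) i))
      (R.frame.rot_normal (mem_sup_left Q.aT) (zpow_mem (mem_zpowers r) i))) (hcen a Q.aT))
      (inv_mem (zpow_mem (mem_zpowers r) i))
  replace hy : r ^ y = a * q * a⁻¹ * q⁻¹ := hy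
  have hy2 : r ^ y * r ^ y = 1 := by
    have h5 : r ^ y * q = a * q * a⁻¹ := by rw [hy]; group
    have h6 : (r ^ y * q) * (r ^ y * q) = 1 := by
      rw [h5, show a * q * a⁻¹ * (a * q * a⁻¹) = a * (q * q) * a⁻¹ by group, hqq]; group
    rwa [mul_assoc, ← mul_assoc q, (hqr.zpow_right y).eq, mul_assoc (r ^ y) q, hqq, mul_one] at h6
  have hsplit : ∀ p : G, Commute p r → a * p * a⁻¹ = p → p ∉ zpowers r → p ∈ T →
      ∃ p ∈ T, (∀ w ∈ Q.grp, w * p = p * w) ∧ p ∉ Q.grp := by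
    intro p hpr hpa hpn hpT
    have hap : Commute a p := mul_inv_eq_iff_eq_mul.mp hpa
    refine ⟨p, hpT, fun w hw => ?_, fun h => ?_⟩
    · rcases Q.grp_cases hw with ⟨k, rfl⟩ | ⟨k, rfl⟩
      · exact (hpr.zpow_right k).eq.symm
      · exact (hap.mul_left (hpr.zpow_right k).symm).eq
    · refine (Q.grp_cases h).elim hpn ?_
      rintro ⟨k, hk⟩
      have h5 : p * r * p⁻¹ = r := by rw [hpr.eq, mul_inv_cancel_right]
      rw [hk, show a * r ^ k * r * (a * r ^ k)⁻¹ = a * (r ^ k * r * (r ^ k)⁻¹) * a⁻¹ by group,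
        show r ^ k * r * (r ^ k)⁻¹ = r by rw [((Commute.refl r).zpow_left k).eq, mul_inv_cancel_right], Q.a_inv] at h5
      have h6 : r * r = 1 := by nth_rw 1 [← h5]; exact inv_mul_cancel r
      have h7 := orderOf_dvd_of_pow_eq_one (x := r) (n := 2) (by rw [pow_two]; exact h6)
      rw [R.ord] at h7
      have := Nat.le_of_dvd two_pos h7
      have := Nat.pow_le_pow_right two_pos R.two_le
      omega
  rcases Q.grp_inv (Q.mem_grp_of_rot (zpow_mem (mem_zpowers r) y)) hy2 with h | h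
  · exact hsplit q hqr (by rw [h] at hy; exact mul_inv_eq_one.mp hy.symm) hqn hq
  · refine hsplit (q * d) (hqr.mul_left (by rw [R.hd]; exact (Commute.refl r).zpow_left _)) ?_ ?_ (mul_mem hq R.dT)
    · rw [show a * (q * d) * a⁻¹ = a * q * a⁻¹ * (a * d * a⁻¹) by group, Q.a_d,
        show a * q * a⁻¹ = r ^ y * q by rw [hy]; group, h, R.dinv_eq, mul_assoc, ← mul_assoc q,
        R.frame.base.comm_z (mem_sup_left (mul_mem hq R.dT)), ← mul_assoc, R.frame.base.pair.z2, one_mul]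
    · intro hmem
      refine hqn ?_
      have := mul_mem hmem (inv_mem (R.hd ▸ zpow_mem (mem_zpowers r) _ : d ∈ zpowers r))
      rwa [mul_inv_cancel_right] at this

end Quat

end CfsgLib.CyclicStandard
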