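import Cfsg.Agent.Lib.CyclicStandard.TwoCases
import Cfsg.Agent.Lib.TwoCompFour.Quat

/-!
A 2-group `S` of `N(A)` centralising `z` and containing `T = S ∩ A` and `t`: the conjugates of `z` in `S` other than
`z` are the reflections `t r^x` of `T⟨t⟩`; elements of `S` centralising `T` form a cyclic group.

Blueprint: `blueprint/S3148.md`, step 8.
-/

set_option autoImplicit false
set_option linter.unusedSectionVars false
set_option linter.style.haveILetI false

namespace CfsgLib.CyclicStandard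

open Subgroup Cfsg

universe u

variable {G : Type u} [Group G] [Finite G] {A : Subgroup G}

/-- A 2-subgroup of `N(A)` centralising `z`. -/
structure Sett (A S : Subgroup G) (z t : G) : Prop where
  base : Base A z t (S ⊓ A)
  tS : t ∈ S
  Sp : IsPGroup 2 ↥S
  SN : S ≤ normalizer (A : Set G)
  zc : ∀ s ∈ S, s * z = z * s

/-- The conjugates of `z` in `S`, apart from `z`. -/
def others (S : Subgroup G) (z : G) : Set G := {u | u ∈ S ∧ u ≠ z ∧ ∃ g : G, u = g * z * g⁻¹}

namespace Sett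

variable {S : Subgroup G} {z t r d a : G} {m : ℕ} (E : Sett A S z t)
include E

theorem zS : z ∈ S := (mem_inf.mp E.base.zT).1

theorem pair_of {v : G} (hv : v ∈ others S z) : IsPair A z v :=
  ⟨E.base.pair.zK, E.base.pair.z2, E.base.pair.z1, hv.2.2, hv.2.1, E.zc v hv.1⟩

theorem T_conj {s x : G} (hs : s ∈ S) (hx : x ∈ S ⊓ A) : s * x * s⁻¹ ∈ S ⊓ A :=
  mem_inf.mpr ⟨mul_mem (mul_mem hs (mem_inf.mp hx).1) (inv_mem hs),
    (mem_normalizer_iff.mp (E.SN hs) x).mp (mem_inf.mp hx).2⟩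

theorem others_conj {s v : G} (hs : s ∈ S) (hv : v ∈ others S z) : s * v * s⁻¹ ∈ others S z := by
  obtain ⟨hvS, hvz, g, rfl⟩ := hv
  refine ⟨mul_mem (mul_mem hs hvS) (inv_mem hs), fun e => hvz ?_, s * g, by group⟩
  calc g * z * g⁻¹ = s⁻¹ * (s * (g * z * g⁻¹) * s⁻¹) * s := by group
    _ = z := by rw [e, mul_assoc, ← E.zc s hs, inv_mul_cancel_left]

theorem t_others : t ∈ others S z := ⟨E.tS, E.base.pair.ne, E.base.pair.conj⟩

/-- Elements of order 4 of `S ∩ K` above `z` are equal or inverse. -/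
theorem K_sq {x x' : G} (hx : x ∈ S) (hxK : x ∈ centralizer (A : Set G)) (hxx : x * x = z) (hx' : x' ∈ S)
    (hxK' : x' ∈ centralizer (A : Set G)) (hxx' : x' * x' = z) : x' = x ∨ x' = x⁻¹ := by
  have P0 := E.base.pair
  obtain ⟨R, hzR, hR, -⟩ := E.base.ctx.exists_sylow P0.zK P0.z2 P0.z1 E.Sp E.zc
  haveI := E.base.ctx.isCyclic_map R
  set Rm := (R : Subgroup ↥(centralizer (A : Set G))).map (centralizer (A : Set G)).subtype
  haveI : IsMulCommutative ↥Rm := IsCyclic.isMulCommutative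
  have hc : x' * x = x * x' := congrArg Subtype.val (mul_comm' (⟨x', hR x' hx' hxK'⟩ : ↥Rm) ⟨x, hR x hx hxK⟩)
  have h2 : x' * x * (x' * x) = 1 := by
    calc x' * x * (x' * x) = x' * (x * x') * x := by group
      _ = x' * (x' * x) * x := by rw [hc]
      _ = (x' * x') * (x * x) := by group
      _ = 1 := by rw [hxx, hxx', P0.z2]
  rcases eq_or_ne (x' * x) 1 with h3 | h3
  · exact Or.inr (eq_inv_of_mul_eq_one_left h3)
  · left
    have h4 : x' * x = z :=
      cyclic_involution (mul_mem (hR x' hx' hxK') (hR x hx hxK)) hzR h2 P0.z2 h3 P0.z1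
    rw [← hxx] at h4
    exact mul_right_cancel h4

/-- An involution of `S ∩ K` is `z`. -/
theorem K_inv {x : G} (hx : x ∈ S) (hxK : x ∈ centralizer (A : Set G)) (h2 : x * x = 1) : x = 1 ∨ x = z :=
  or_iff_not_imp_left.mpr fun h1 =>
    E.base.ctx.eq_of_comm E.base.pair.zK E.base.pair.z2 E.base.pair.z1 hxK h2 h1 (E.zc x hx)

theorem base_of {v : G} (hv : v ∈ others S z) : Base A z v (S ⊓ A) :=
  ⟨E.base.ctx, E.pair_of hv, E.base.TA, E.base.Tp, E.base.Tfull, fun s hs => E.T_conj hv.1 hs⟩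

theorem exists_rot : ∃ r0 ∈ S, t * r0 * t⁻¹ = r0⁻¹ ∧ (∀ i : ℤ, t * r0 ^ i ∈ others S z) ∧
    ∀ v ∈ others S z, ∃ i : ℤ, v = t * r0 ^ i := by
  refine exists_dihedral E.Sp E.base.pair.z2 (Ω := others S z) (fun v hv => hv.1)
    (fun v hv => (E.pair_of hv).t2) (fun h => (E.pair_of h).t1 rfl) (fun u hu w hw => E.others_conj hw.1 hu)
    (fun u hu v hv h => E.base.ctx.mates (E.pair_of hu) (E.pair_of hv) h)
    (fun u hu s hs h e => ?_) E.t_others
  obtain ⟨k, hk⟩ := E.Sp ⟨s, hs⟩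
  exact E.base.ctx.not_square (E.pair_of hu) (k := k) (congrArg Subtype.val hk) h e

theorem omega_sub {v : G} (hv : v ∈ omega A (S ⊓ A) t) : v ∈ others S z :=
  ⟨(sup_le inf_le_left (zpowers_le.mpr E.tS)) hv.1, (E.base.pair_of hv.2).ne, (E.base.pair_of hv.2).conj⟩

variable (Q : Quat A z t (S ⊓ A) r d m a)
include Q

/-- An element centralising `T` with square in `⟨z⟩` centralises `A`. -/
theorem cent_small {x : G} (hx : x ∈ S) (hxc : ∀ s ∈ S ⊓ A, s * x = x * s) (h2 : x * x = 1 ∨ x * x = z) :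
    x ∈ centralizer (A : Set G) := by
  have B := E.base
  set T := S ⊓ A with hT
  have hzT : z ∈ T := B.zT
  have hTz : ∀ s ∈ T, (∀ q ∈ T, q * s = s * q) → s = 1 ∨ s = z := fun s hs hc =>
    Q.grp_center (by rw [Q.T_eq]; exact hs) fun q hq => hc q (Q.grp_le hq)
  by_cases hxA : x ∈ A
  · rcases hTz x (mem_inf.mpr ⟨hx, hxA⟩) hxc with h | h
    · rw [h]; exact one_mem _
    · rw [h]; exact B.pair.zK
  set X := zpowers x
  have hxz : x ∉ zpowers z := fun h => hxA ((zpowers_le.mpr B.zA) h)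
  have hxN : X ≤ normalizer (A : Set G) := zpowers_le.mpr (E.SN hx)
  have hXT : X ≤ normalizer (T : Set G) := zpowers_le.mpr (mem_normalizer_iff.mpr fun s =>
    ⟨E.T_conj hx, fun h => by
      have h5 := E.T_conj (inv_mem hx) h
      rwa [show x⁻¹ * (x * s * x⁻¹) * x⁻¹⁻¹ = s by group] at h5⟩)
  set P := T ⊔ X with hP
  have hPA : P ⊓ A = T := by
    refine le_antisymm (fun w hw => ?_) (le_inf le_sup_left B.TA)
    have hle : P ≤ S := sup_le inf_le_left (zpowers_le.mpr hx)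
    exact mem_inf.mpr ⟨hle (mem_inf.mp hw).1, (mem_inf.mp hw).2⟩
  have e1 : P ⊔ A = A ⊔ X :=
    le_antisymm (sup_le (sup_le (B.TA.trans le_sup_left) le_sup_right) le_sup_left)
      (sup_le le_sup_right (le_sup_of_le_left le_sup_right))
  have hn : P ⊔ A ≤ normalizer (A : Set G) :=
    sup_le (sup_le (B.TA.trans le_normalizer) hxN) le_normalizer
  haveI : (A.subgroupOf (P ⊔ A)).Normal := (normal_subgroupOf_iff_le_normalizer le_sup_right).mpr hn
  have hPfull : ¬ 2 ∣ P.relIndex (A ⊔ X) := by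
    have h3 : A.relIndex (P ⊔ A) = T.relIndex P := by
      have h5 : P.subgroupOf (P ⊔ A) ⊔ A.subgroupOf (P ⊔ A) = ⊤ := by
        rw [← subgroupOf_sup le_sup_left le_sup_right, subgroupOf_self]
      have h6 := relIndex_sup_right (P.subgroupOf (P ⊔ A)) (A.subgroupOf (P ⊔ A))
      rw [h5, relIndex_top_right, relIndex_subgroupOf le_sup_left, ← inf_relIndex_right, inf_comm, hPA] at h6
      exact h6
    have a1 := relIndex_mul_relIndex T P (P ⊔ A) le_sup_left le_sup_left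
    have a2 := relIndex_mul_relIndex T A (P ⊔ A) B.TA le_sup_right
    rw [h3, ← a1, mul_comm (T.relIndex A)] at a2
    have hne : T.relIndex P ≠ 0 := index_ne_zero_of_finite
    rw [← e1, ← Nat.eq_of_mul_eq_mul_left (Nat.pos_of_ne_zero hne) a2]
    exact B.Tfull
  have hYz : ∀ g ∈ A ⊔ X, g * z = z * g := by
    intro g hg
    obtain ⟨b, hb, w, hw, rfl⟩ := CfsgLib.mem_sup_of_le_normalizer hxN hg
    have hwS : w ∈ S := (zpowers_le.mpr hx) hw
    rw [mul_assoc, E.zc w hwS, ← mul_assoc, B.zc hb, mul_assoc]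
  have hC0 : A ⊔ X ≤ normalizer (zpowers z : Set G) := fun g hg =>
    centralizer_le_normalizer _ (mem_centralizer_iff.mpr fun w hw => by
      obtain ⟨i, rfl⟩ := hw
      exact ((show Commute g z from hYz g hg).zpow_right i).eq.symm)
  have hxx : x * x ∈ zpowers z := by
    rcases h2 with h | h <;> rw [h]
    exacts [one_mem _, mem_zpowers z]
  refine mem_centralizer_iff.mpr fun b hb => ?_
  refine centralizes_of_isolated B.ctx.std.1 le_sup_left (sup_le le_normalizer hxN)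
    (zpowers_le.mpr (mem_inf.mpr ⟨B.zA, B.pair.zK⟩)) ((zpowers_le.mpr hzT).trans le_sup_left)
    (sup_le (B.TA.trans le_sup_left) le_sup_right)
    (IsPGroup.to_sup_of_normal_left' B.Tp (E.Sp.to_le (zpowers_le.mpr hx)) hXT) hPfull hC0
    (mem_sup_right (mem_zpowers x)) hxz hxx (fun g hg hgP => ?_) b hb
  set s := g * x * g⁻¹ * x⁻¹ with hs
  have hsA : s ∈ A := by
    obtain ⟨b', hb', w, hw, rfl⟩ := CfsgLib.mem_sup_of_le_normalizer hxN hg
    obtain ⟨i, rfl⟩ := hw
    have e : x ^ i * x * (x ^ i)⁻¹ = x := by rw [((Commute.refl x).zpow_left i).eq, mul_inv_cancel_right]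
    rw [hs, show b' * x ^ i * x * (b' * x ^ i)⁻¹ * x⁻¹ = b' * (x ^ i * x * (x ^ i)⁻¹ * b'⁻¹ * x⁻¹) by group, e]
    exact mul_mem hb' ((mem_normalizer_iff.mp (E.SN hx) _).mp (inv_mem hb'))
  have hsT : s ∈ T := hPA.le (mem_inf.mpr ⟨mul_mem hgP (inv_mem (mem_sup_right (mem_zpowers x))), hsA⟩)
  have hsq : s * s = 1 := by
    have h5 : s * s * (x * x) = g * (x * x) * g⁻¹ := by
      have hsx : s * x = x * s := hxc s hsT
      calc s * s * (x * x) = s * (s * x) * x := by group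
        _ = s * (x * s) * x := by rw [hsx]
        _ = s * x * (s * x) := by group
        _ = g * (x * x) * g⁻¹ := by rw [hs]; group
    rcases h2 with h | h <;> rw [h] at h5
    · rwa [mul_one, mul_one, mul_inv_cancel] at h5
    · rw [hYz g hg, mul_inv_cancel_right] at h5
      exact mul_eq_right.mp h5
  rcases Q.T_inv hsT hsq with h | h <;> rw [h]
  exacts [one_mem _, mem_zpowers z]

/-- Elements of `S` centralising `T` form a cyclic group. -/
theorem cent_cyclic : IsCyclic ↥(S ⊓ centralizer ((S ⊓ A : Subgroup G) : Set G)) := by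
  set W := S ⊓ centralizer ((S ⊓ A : Subgroup G) : Set G) with hW
  have B := E.base
  have hWp : IsPGroup 2 ↥W := E.Sp.to_le inf_le_left
  have hc : ∀ w : ↥W, ∀ s ∈ S ⊓ A, s * (w : G) = w * s := fun w s hs => (mem_inf.mp w.2).2 s hs
  have hzW : z ∈ W := mem_inf.mpr ⟨E.zS, mem_centralizer_iff.mpr fun s hs => B.zc (B.TA hs)⟩
  have huniq : CfsgLib.TwoCompFour.UniqInv (⟨z, hzW⟩ : ↥W) := by
    refine ⟨?_, fun x hx => ?_⟩
    · rw [orderOf_mk]; exact orderOf_eq_prime (by rw [pow_two, B.pair.z2]) B.pair.z1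
    have h2 : (x : G) * x = 1 := by
      have := pow_orderOf_eq_one x
      rw [hx, pow_two] at this
      exact congrArg Subtype.val this
    refine Subtype.ext ((E.K_inv (mem_inf.mp x.2).1 (E.cent_small Q (mem_inf.mp x.2).1 (hc x) (Or.inl h2))
      h2).resolve_left fun e => ?_)
    rw [show x = 1 from Subtype.ext e, orderOf_one] at hx
    exact absurd hx (by norm_num)
  by_contra hnc
  obtain ⟨n, hn, ⟨e⟩⟩ := CfsgLib.TwoCompFour.exists_quat hWp huniq hnc
  haveI : NeZero (2 ^ n) := ⟨by positivity⟩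
  set i := e.symm (QuaternionGroup.xa 0) with hi
  have hio : orderOf i = 4 := by rw [hi, MulEquiv.orderOf_eq, QuaternionGroup.orderOf_xa]
  obtain ⟨q, hq, hqi⟩ := CfsgLib.TwoCompFour.exists_inverter hWp huniq hnc hio
  have hsq : ∀ x : ↥W, orderOf x = 4 → (x : G) * x = z ∧ (x : G) ∈ centralizer (A : Set G) := fun x hx => by
    have h1 : x ^ 2 = ⟨z, hzW⟩ := huniq.2 _ (by rw [orderOf_pow' x two_ne_zero, hx]; rfl)
    have h2 : (x : G) * x = z := by rw [← pow_two]; exact congrArg Subtype.val h1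
    exact ⟨h2, E.cent_small Q (mem_inf.mp x.2).1 (hc x) (Or.inr h2)⟩
  obtain ⟨hii, hiK⟩ := hsq i hio
  obtain ⟨hqq, hqK⟩ := hsq q hq
  have hcomm : q * i = i * q := by
    rcases E.K_sq (mem_inf.mp i.2).1 hiK hii (mem_inf.mp q.2).1 hqK hqq with h | h
    · rw [show q = i from Subtype.ext h]
    · rw [show q = i⁻¹ from Subtype.ext h, inv_mul_cancel, mul_inv_cancel]
  rw [hcomm, mul_inv_cancel_right] at hqi
  have h5 : i ^ 2 = 1 := by rw [pow_two]; nth_rw 2 [hqi]; exact mul_inv_cancel i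
  have := Nat.le_of_dvd two_pos (orderOf_dvd_of_pow_eq_one h5)
  omega

/-- A member of `others` inverts `r`, and moves the reflection classes oddly. -/
theorem others_odd {v : G} (hv : v ∈ others S z) (hvr : v * r * v⁻¹ = r⁻¹) :
    ∃ i : ℤ, Odd i ∧ v * a * v⁻¹ = a * r ^ i := by
  have B := E.base
  have hP := E.pair_of hv
  have hcl : v * a * v⁻¹ ∈ cls A (S ⊓ A) d := by
    obtain ⟨b, hb, e⟩ := Q.cl
    have hvd : v * d * v⁻¹ = d⁻¹ := by rw [Q.rot.hd, ← conj_zpow, hvr, inv_zpow]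
    refine Q.dinv_cls (E.T_conj hv.1 Q.aT) ((mem_normalizer_iff.mp (E.SN hv.1) b).mp hb) ?_
    rw [← hvd, e]; group
  obtain ⟨i, hi⟩ := (Q.cls_cases hcl).resolve_left (fun hh => by
    obtain ⟨n, hn⟩ := hh
    replace hn : r ^ n = v * a * v⁻¹ := hn
    have hd' : v⁻¹ * r ^ n * v = r ^ (-n) := by
      have h9 : v⁻¹ * r * v⁻¹⁻¹ = r⁻¹ := by rw [hP.tinv]; exact (hP.tinv ▸ hvr)
      rw [show v⁻¹ * r ^ n * v = v⁻¹ * r ^ n * v⁻¹⁻¹ by group, ← conj_zpow, h9, inv_zpow']
    have ha : a = r ^ (-n) := by rw [← hd', hn]; group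
    exact Q.rot.d_ne (by
      rw [← Q.a_d, ha, Q.rot.hd, ((Commute.refl r).zpow_zpow _ _).eq, mul_inv_cancel_right]))
  rcases i.even_or_odd' with ⟨l, rfl | rfl⟩
  swap
  · exact ⟨_, ⟨l, rfl⟩, hi⟩
  exfalso
  set v' := r ^ l * v with hv'
  have hrl : ∀ y : ℤ, r ^ l * (a * r ^ y) * (r ^ l)⁻¹ = a * r ^ (y - 2 * l) := by
    intro y
    have h : r ^ l * a = a * r ^ (-l) := zpow_refl (t := a) Q.a_inv l
    rw [← mul_assoc, h, ← zpow_neg, mul_assoc, mul_assoc, ← zpow_add, ← zpow_add]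
    congr 2
    ring
  have h1 : v' * a * v'⁻¹ = a := by
    rw [hv', show r ^ l * v * a * (r ^ l * v)⁻¹ = r ^ l * (v * a * v⁻¹) * (r ^ l)⁻¹ by group, hi, hrl,
      sub_self, zpow_zero, mul_one]
  have h2 : v' * r * v'⁻¹ = r⁻¹ := by
    rw [hv', show r ^ l * v * r * (r ^ l * v)⁻¹ = r ^ l * (v * r * v⁻¹) * (r ^ l)⁻¹ by group, hvr,
      ((Commute.refl r).zpow_left l).inv_right.eq, mul_inv_cancel_right]
  set w := a * v' with hw
  have hwS : w ∈ S :=
    mul_mem (mem_inf.mp Q.aT).1 (mul_mem (mem_inf.mp (zpow_mem Q.rot.frame.rT l)).1 hv.1)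
  have hwr : Commute w r := by
    refine mul_inv_eq_iff_eq_mul.mp ?_
    rw [hw, show a * v' * r * (a * v')⁻¹ = a * (v' * r * v'⁻¹) * a⁻¹ by group, h2,
      show a * r⁻¹ * a⁻¹ = (a * r * a⁻¹)⁻¹ by group, Q.a_inv, inv_inv]
  have hwa : Commute w a := by
    refine mul_inv_eq_iff_eq_mul.mp ?_
    rw [hw, show a * v' * a * (a * v')⁻¹ = a * (v' * a * v'⁻¹) * a⁻¹ by group, h1, mul_inv_cancel_right]
  have hwc : ∀ s ∈ S ⊓ A, s * w = w * s := by
    intro s hs
    rcases Q.grp_cases (by rw [Q.T_eq]; exact hs) with ⟨k, rfl⟩ | ⟨k, rfl⟩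
    · exact (hwr.zpow_right k).eq.symm
    · exact (hwa.mul_right (hwr.zpow_right k)).eq.symm
  set s0 := (r ^ l)⁻¹ * a⁻¹ with hs0
  have hs0T : s0 ∈ S ⊓ A := mul_mem (inv_mem (zpow_mem Q.rot.frame.rT l)) (inv_mem Q.aT)
  have hve : v = s0 * w := by rw [hs0, hw, hv']; group
  have hww : w * w = 1 ∨ w * w = z := by
    have hsq : s0 * s0 * (w * w) = 1 := by
      rw [← hP.t2, hve]
      calc s0 * s0 * (w * w) = s0 * (s0 * w) * w := by group
        _ = s0 * (w * s0) * w := by rw [hwc s0 hs0T]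
        _ = _ := by group
    have hwT : w * w ∈ S ⊓ A := by
      rw [eq_inv_of_mul_eq_one_right hsq]
      exact inv_mem (mul_mem hs0T hs0T)
    exact Q.grp_center (by rw [Q.T_eq]; exact hwT) fun q hq =>
      ((show Commute q w from hwc q (Q.grp_le hq)).mul_right (hwc q (Q.grp_le hq))).eq
  exact B.ctx.not_mem_sup hP (B.TA hs0T) (E.cent_small Q hwS hwc hww) hve

/-- The conjugates of `z` in `S` other than `z` lie in `T⟨t⟩`; `S` normalises `⟨r⟩`. -/
theorem others_eq : (∀ v ∈ others S z, v ∈ (S ⊓ A) ⊔ zpowers t) ∧ ∀ e ∈ S, ∃ k : ℤ, e * r * e⁻¹ = r ^ k := by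
  obtain ⟨r0, hr0, hinv, hall, hcover⟩ := E.exists_rot
  have R := Q.rot
  have hrr0 : r ∈ zpowers r0 := by
    obtain ⟨i, hi⟩ := hcover _ (E.omega_sub (R.frame.all 1))
    rw [zpow_one] at hi
    exact ⟨i, (mul_left_cancel hi).symm⟩
  obtain ⟨i0, hi0⟩ := hrr0
  replace hi0 : r0 ^ i0 = r := hi0
  have hcr : Commute r0 r := hi0 ▸ (Commute.refl r0).zpow_right i0
  obtain ⟨j, hjodd, hj⟩ := Q.odd
  have hta : t * a * t⁻¹ = a * r ^ (-j) := by
    have h : r ^ j * a = a * r ^ (-j) := zpow_refl (t := a) Q.a_inv j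
    rw [← h]
    calc t * a * t⁻¹ = t * (a * t * a⁻¹) * a * (t * t)⁻¹ := by group
      _ = r ^ j * a := by rw [hj, ← mul_assoc, R.frame.base.pair.t2, one_mul, inv_one, mul_one]
  -- `r0` centralises `⟨r, a⟩` up to a rotation
  have hv : t * r0 ∈ others S z := by simpa using hall 1
  obtain ⟨i, hiodd, hi⟩ := E.others_odd Q hv (by
    rw [show t * r0 * r * (t * r0)⁻¹ = t * (r0 * r * r0⁻¹) * t⁻¹ by group, hcr.eq, mul_inv_cancel_right, R.frame.inv])
  obtain ⟨l, hl⟩ := hjodd.add_odd hiodd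
  have hc : r0 * a * r0⁻¹ = a * r ^ (-(l + l)) := by
    calc r0 * a * r0⁻¹ = t⁻¹ * (t * r0 * a * (t * r0)⁻¹) * t := by group
      _ = t * (a * r ^ i) * t⁻¹ := by rw [hi, R.frame.base.pair.tinv]
      _ = t * a * t⁻¹ * (t * r ^ i * t⁻¹) := by group
      _ = _ := by
        rw [hta, refl_zpow R.frame.inv, mul_assoc, ← zpow_add]
        congr 2
        omega
  set w := r ^ (-l) * r0 with hw
  have hwa : Commute w a := by
    refine mul_inv_eq_iff_eq_mul.mp ?_
    have h : r ^ (-l) * a = a * r ^ (-(-l)) := zpow_refl (t := a) Q.a_inv (-l)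
    rw [hw, show r ^ (-l) * r0 * a * (r ^ (-l) * r0)⁻¹ = r ^ (-l) * (r0 * a * r0⁻¹) * (r ^ (-l))⁻¹ by group, hc,
      ← mul_assoc, h, ← zpow_neg, mul_assoc, mul_assoc, ← zpow_add, ← zpow_add,
      show -(-l) + (-(l + l) + -(-l)) = (0 : ℤ) by ring, zpow_zero, mul_one]
  have hw0 : w ∈ zpowers r0 := mul_mem (zpow_mem (show r ∈ zpowers r0 from ⟨i0, hi0⟩) _) (mem_zpowers r0)
  have key : ∀ (k : ℕ) (w : G), w ^ 2 ^ k = 1 → w ∈ zpowers r0 → Commute w a → w = 1 ∨ w = z := by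
    intro k
    induction k with
    | zero => intro w h _ _; rw [pow_zero, pow_one] at h; exact Or.inl h
    | succ k ih =>
      intro w h hw0 hwa
      have hwS : w ∈ S := (zpowers_le.mpr hr0) hw0
      have hwr : Commute w r := by
        obtain ⟨x, rfl⟩ := hw0
        exact hi0 ▸ (Commute.refl r0).zpow_zpow x i0
      have hwc : ∀ s ∈ S ⊓ A, s * w = w * s := by
        intro s hs
        rcases Q.grp_cases (by rw [Q.T_eq]; exact hs) with ⟨k, rfl⟩ | ⟨k, rfl⟩
        · exact (hwr.zpow_right k).eq.symm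
        · exact (hwa.mul_right (hwr.zpow_right k)).eq.symm
      have h2 := ih (w * w) (by rw [← pow_two, ← pow_mul, ← pow_succ', h]) (mul_mem hw0 hw0) (hwa.mul_left hwa)
      have hK := E.cent_small Q hwS hwc h2
      rcases h2 with h2 | h2
      · exact E.K_inv hwS hK h2
      exfalso
      -- `w` would be `d` or `d⁻¹`
      have hd0 : d ∈ zpowers r0 := by rw [R.hd]; exact zpow_mem (show r ∈ zpowers r0 from ⟨i0, hi0⟩) _
      have hzr0 : z ∈ zpowers r0 := h2 ▸ mul_mem hw0 hw0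
      have hwd : Commute w d := by rw [R.hd]; exact hwr.zpow_right _
      have hsq : w * d * (w * d) = 1 := by
        calc w * d * (w * d) = w * (d * w) * d := by group
          _ = w * (w * d) * d := by rw [hwd.eq]
          _ = (w * w) * (d * d) := by group
          _ = 1 := by rw [h2, R.dd, E.base.pair.z2]
      have had : Commute a d := by
        rcases eq_or_ne (w * d) 1 with h6 | h6
        · rw [eq_inv_of_mul_eq_one_right h6]; exact hwa.symm.inv_right
        · have h7 : w * d = z := cyclic_involution (R := zpowers r0) (mul_mem hw0 hd0) hzr0 hsq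
            E.base.pair.z2 h6 E.base.pair.z1
          rw [show d = w⁻¹ * z by rw [← h7, inv_mul_cancel_left]]
          exact hwa.symm.inv_right.mul_right (E.base.zc (E.base.TA Q.aT))
      exact R.d_ne (by rw [← Q.a_d, had.eq, mul_inv_cancel_right])
  obtain ⟨k, hk⟩ := E.Sp ⟨w, (zpowers_le.mpr hr0) hw0⟩
  have hr0T : r0 ∈ zpowers r := by
    have e : r0 = r ^ l * w := by rw [hw, zpow_neg, mul_inv_cancel_left]
    rw [e]
    refine mul_mem (zpow_mem (mem_zpowers r) l) ?_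
    rcases key k w (congrArg Subtype.val hk) hw0 hwa with h | h <;> rw [h]
    exacts [one_mem _, R.zr]
  refine ⟨fun v hv => ?_, fun e he => ?_⟩
  · obtain ⟨x, rfl⟩ := hcover v hv
    exact mul_mem (mem_sup_right (mem_zpowers t))
      (mem_sup_left ((zpowers_le.mpr R.frame.rT) (zpow_mem hr0T x)))
  · obtain ⟨x, hx⟩ := hcover _ (E.others_conj he E.t_others)
    obtain ⟨y, hy⟩ := hcover _ (E.others_conj he (E.omega_sub (R.frame.all 1)))
    rw [zpow_one] at hy
    have h : e * r * e⁻¹ = r0 ^ (-x + y) := by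
      calc e * r * e⁻¹ = e * (t * t * r) * e⁻¹ := by rw [R.frame.base.pair.t2, one_mul]
        _ = e * t * e⁻¹ * (e * (t * r) * e⁻¹) := by group
        _ = t * r0 ^ x * (t * r0 ^ y) := by rw [hx, hy]
        _ = t * (r0 ^ x * t) * r0 ^ y := by group
        _ = _ := by rw [zpow_refl hinv, ← mul_assoc, R.frame.base.pair.t2, one_mul, ← zpow_add]
    obtain ⟨q, hq⟩ := zpow_mem hr0T (-x + y)
    exact ⟨q, h.trans hq.symm⟩

end Sett

end CfsgLib.CyclicStandard
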