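import Mathlib
import Cfsg.Agent.Lib.SylowExtra
import Cfsg.Agent.Lib.LocalFusionExtra

/-!
Elementary tools for standard subgroups with cyclic Sylow 2-subgroups in the centralizer: cyclic 2-groups,
automorphisms of odd order, invariant Sylow subgroups.
-/

set_option autoImplicit false
set_option linter.unusedSectionVars false
set_option linter.style.haveILetI false

namespace CfsgLib.CyclicStandard

open Subgroup

variable {G : Type*} [Group G] [Finite G]

theorem isPGroup_zpowers {x : G} {k : ℕ} (h : x ^ 2 ^ k = 1) : IsPGroup 2 ↥(zpowers x) := by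
  rintro ⟨y, m, rfl⟩
  refine ⟨k, Subtype.ext ?_⟩
  show (x ^ m) ^ 2 ^ k = 1
  rw [← zpow_natCast, ← zpow_mul, mul_comm, zpow_mul, zpow_natCast, h, one_zpow]

/-- A cyclic subgroup has one involution. -/
theorem cyclic_involution {R : Subgroup G} [IsCyclic ↥R] {a b : G} (ha : a ∈ R) (hb : b ∈ R) (ha2 : a * a = 1)
    (hb2 : b * b = 1) (ha1 : a ≠ 1) (hb1 : b ≠ 1) : a = b := by
  haveI := Fintype.ofFinite ↥R
  have ho : ∀ {x : ↥R}, (x : G) * x = 1 → (x : G) ≠ 1 → orderOf x = 2 := fun {x} h h1 =>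
    orderOf_eq_prime (Subtype.ext (by rw [coe_pow, pow_two, h, OneMemClass.coe_one]))
      fun e => h1 (congrArg Subtype.val e)
  have h1 := ho (x := ⟨a, ha⟩) ha2 ha1
  have h2 := ho (x := ⟨b, hb⟩) hb2 hb1
  have hcard : (Finset.univ.filter fun x : ↥R => orderOf x = 2).card ≤ 1 := by
    rw [IsCyclic.card_orderOf_eq_totient (h1 ▸ orderOf_dvd_card)]
    rfl
  exact congrArg Subtype.val (Finset.card_le_one.mp hcard ⟨a, ha⟩ (by simp [h1]) ⟨b, hb⟩ (by simp [h2]))

/-- An element normalising a cyclic 2-group and fixing what its square fixes has its square centralising it. -/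
theorem sq_fix_of_fix {R : Subgroup G} [IsCyclic ↥R] (hR : IsPGroup 2 ↥R) {g : G}
    (hg : ∀ r ∈ R, g * r * g⁻¹ ∈ R) (h : ∀ r ∈ R, g * g * r = r * (g * g) → g * r = r * g) :
    ∀ r ∈ R, g * g * r = r * (g * g) := by
  have key : ∀ (k : ℕ) (r : G), r ∈ R → r ^ 2 ^ k = 1 → g * g * r = r * (g * g) := by
    intro k
    induction k with
    | zero => intro r _ h1; simp_all
    | succ k ih =>
      intro w hw h1
      have h2 : g * g * (w * w) = w * w * (g * g) :=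
        ih _ (mul_mem hw hw) (by rw [← pow_two, ← pow_mul, ← pow_succ', h1])
      have h3 := h _ (mul_mem hw hw) h2
      haveI : IsMulCommutative ↥R := IsCyclic.isMulCommutative
      have hcR : ∀ a ∈ R, ∀ b ∈ R, a * b = b * a := fun a ha b hb =>
        congrArg Subtype.val (mul_comm' (⟨a, ha⟩ : ↥R) ⟨b, hb⟩)
      set f := g * w * g⁻¹ * w⁻¹ with hf
      have hfR : f ∈ R := mul_mem (hg w hw) (inv_mem hw)
      have hf2 : f * f = 1 := by
        have c := hcR _ (hg w hw) _ (inv_mem hw)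
        calc f * f = g * w * g⁻¹ * (w⁻¹ * (g * w * g⁻¹)) * w⁻¹ := by rw [hf]; group
          _ = g * w * g⁻¹ * (g * w * g⁻¹ * w⁻¹) * w⁻¹ := by rw [← c]
          _ = g * (w * w) * g⁻¹ * (w * w)⁻¹ := by group
          _ = 1 := by rw [h3]; group
      have hgf : g * f * g⁻¹ = f := by
        by_cases hf1 : f = 1
        · simp [hf1]
        refine cyclic_involution (hg f hfR) hfR ?_ hf2 (fun e => hf1 (conj_eq_one_iff.mp e)) hf1
        rw [show g * f * g⁻¹ * (g * f * g⁻¹) = g * (f * f) * g⁻¹ by group, hf2]; group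
      have e1 : g * w * g⁻¹ = f * w := by rw [hf]; group
      have e2 : g * g * w * (g * g)⁻¹ = w := by
        calc g * g * w * (g * g)⁻¹ = g * (g * w * g⁻¹) * g⁻¹ := by group
          _ = g * (f * w) * g⁻¹ := by rw [e1]
          _ = g * f * g⁻¹ * (g * w * g⁻¹) := by group
          _ = f * f * w := by rw [hgf, e1, ← mul_assoc]
          _ = w := by rw [hf2, one_mul]
      exact mul_inv_eq_iff_eq_mul.mp e2
  intro r hr
  obtain ⟨k, hk⟩ := hR ⟨r, hr⟩
  exact key k r hr (congrArg Subtype.val hk)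

/-- A power with odd exponent of order a power of two. -/
theorem exists_odd_pow (x : G) : ∃ m k : ℕ, Odd m ∧ (x ^ m) ^ 2 ^ k = 1 := by
  obtain ⟨k, m, hm, h⟩ := Nat.exists_eq_two_pow_mul_odd (n := orderOf x) (orderOf_pos x).ne'
  exact ⟨m, k, hm, by rw [← pow_mul, mul_comm, ← h, pow_orderOf_eq_one]⟩

/-- An element inverting `y` has a 2-element power inverting it. -/
theorem inv_pow_odd {k y : G} (h : k * y * k⁻¹ = y⁻¹) {m : ℕ} (hm : Odd m) :
    k ^ m * y * (k ^ m)⁻¹ = y⁻¹ := by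
  obtain ⟨j, rfl⟩ := hm
  have h' : k * y⁻¹ * k⁻¹ = y := by
    rw [show k * y⁻¹ * k⁻¹ = (k * y * k⁻¹)⁻¹ by group, h, inv_inv]
  induction j with
  | zero => simpa using h
  | succ j ih =>
    rw [show 2 * (j + 1) + 1 = 2 + (2 * j + 1) by ring, pow_add, pow_two]
    calc k * k * k ^ (2 * j + 1) * y * (k * k * k ^ (2 * j + 1))⁻¹
        = k * (k * (k ^ (2 * j + 1) * y * (k ^ (2 * j + 1))⁻¹) * k⁻¹) * k⁻¹ := by group
      _ = y⁻¹ := by rw [ih, h', h]

/-- A 2-group normalising a subgroup normalises a Sylow 2-subgroup of it containing those of its own elements. -/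
theorem exists_invariant_sylow {N K P : Subgroup G} (hKN : K ≤ N) (hn : N ≤ normalizer (K : Set G))
    (hP : IsPGroup 2 ↥P) (hPN : P ≤ N) :
    ∃ R : Sylow 2 ↥K, (∀ x ∈ P, x ∈ K → x ∈ (R : Subgroup ↥K).map K.subtype) ∧
      ∀ p ∈ P, ∀ r ∈ (R : Subgroup ↥K).map K.subtype, p * r * p⁻¹ ∈ (R : Subgroup ↥K).map K.subtype := by
  haveI : Fact (Nat.Prime 2) := ⟨Nat.prime_two⟩
  haveI : (K.subgroupOf N).Normal := (normal_subgroupOf_iff_le_normalizer hKN).mpr hn
  obtain ⟨S, hS⟩ := (hP.of_equiv (subgroupOfEquivOfLe hPN).symm).exists_le_sylow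
  let e : ↥(K.subgroupOf N) ≃* ↥K := subgroupOfEquivOfLe hKN
  let R : Sylow 2 ↥K := Sylow.mapSurjective (f := e.toMonoidHom) e.surjective (CfsgLib.sylowInfNormal S (K.subgroupOf N))
  have hmem : ∀ x : G, x ∈ (R : Subgroup ↥K).map K.subtype ↔ x ∈ K ∧ ∃ hx : x ∈ N, (⟨x, hx⟩ : ↥N) ∈ S := by
    intro x
    constructor
    · rintro ⟨w, ⟨v, hv, rfl⟩, rfl⟩
      exact ⟨(e v).2, (v : ↥N).2, hv⟩
    · rintro ⟨hxK, hxN, hxS⟩
      exact ⟨⟨x, hxK⟩, ⟨⟨⟨x, hxN⟩, hxK⟩, hxS, rfl⟩, rfl⟩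
  refine ⟨R, fun x hx hxK => (hmem x).mpr ⟨hxK, hPN hx, hS (x := ⟨x, hPN hx⟩) hx⟩, fun p hp r hr => ?_⟩
  obtain ⟨hrK, hrN, hrS⟩ := (hmem r).mp hr
  exact (hmem _).mpr ⟨(mem_normalizer_iff.mp (hn (hPN hp)) r).mp hrK,
    mul_mem (mul_mem (hPN hp) hrN) (inv_mem (hPN hp)),
    mul_mem (mul_mem (hS (x := ⟨p, hPN hp⟩) hp) hrS) (inv_mem (hS (x := ⟨p, hPN hp⟩) hp))⟩

end CfsgLib.CyclicStandard
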