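import Cfsg.Agent.Lib.CyclicStandard.Quat
import Cfsg.Agent.Lib.CyclicStandard.CentClosed
import Cfsg.Agent.Lib.Components
import Cfsg.Agent.S2767
import Cfsg.Prelude.Def_CaseTheorems

/-!
`C_T(t) = ⟨z⟩`, so `T` is a quaternion group and `T⟨t⟩` is semidihedral.

Blueprint: `blueprint/S3148.md`, step 6.
-/

set_option autoImplicit false
set_option linter.unusedSectionVars false
set_option linter.style.haveILetI false

namespace CfsgLib.CyclicStandard

open Subgroup Cfsg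

universe u

variable {G : Type u} [Group G] [Finite G] {A : Subgroup G}

theorem card_sup_cyclicStandard {X Y : Subgroup G} (h : Y ≤ normalizer (X : Set G)) :
    Nat.card ↥(X ⊔ Y) * Nat.card ↥(X ⊓ Y) = Nat.card X * Nat.card Y := by
  set L := X ⊔ Y
  haveI hn : (X.subgroupOf L).Normal :=
    (normal_subgroupOf_iff_le_normalizer le_sup_left).mpr (sup_le le_normalizer h)
  have h1 : X.relIndex L = X.relIndex Y := by
    have a1 : (X.subgroupOf L).relIndex (L.subgroupOf L) = X.relIndex L := relIndex_subgroupOf le_rfl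
    have a2 : (X.subgroupOf L).relIndex (Y.subgroupOf L) = X.relIndex Y := relIndex_subgroupOf le_sup_right
    rw [← a1, ← a2]
    have a3 : L.subgroupOf L = X.subgroupOf L ⊔ Y.subgroupOf L :=
      subgroupOf_sup (le_sup_left : X ≤ L) (le_sup_right : Y ≤ L)
    rw [a3]
    exact Subgroup.relIndex_sup_left (K := X.subgroupOf L) (H := Y.subgroupOf L)
  have e1 := CfsgLib.card_mul_relIndex (le_sup_left : X ≤ L)
  have e2 := CfsgLib.card_mul_relIndex (inf_le_right : X ⊓ Y ≤ Y)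
  rw [inf_relIndex_right] at e2
  rw [← e1, ← e2, h1]
  ring

/-- An element of a Sylow subgroup, central in a perfect group, lies in the derived subgroup of the Sylow subgroup. -/
theorem central_mem_commutator {H : Type*} [Group H] [Finite H] [Group.IsPerfect H] {p : ℕ} [Fact p.Prime]
    (P : Sylow p H) {x : H} (hx : x ∈ (P : Subgroup H)) (hc : x ∈ center H) :
    (⟨x, hx⟩ : ↥(P : Subgroup H)) ∈ _root_.commutator ↥(P : Subgroup H) := by
  let ϕ : ↥(P : Subgroup H) →* Abelianization ↥(P : Subgroup H) := Abelianization.of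
  have key : ∀ (k : ℕ) (g₀ : H), g₀⁻¹ * x ^ k * g₀ ∈ (P : Subgroup H) → g₀⁻¹ * x ^ k * g₀ = x ^ k := by
    intro k g₀ _
    rw [mul_assoc, ← Subgroup.mem_center_iff.mp ((center H).pow_mem hc k) g₀, inv_mul_cancel_left]
  have h1 : MonoidHom.transfer ϕ x = 1 := by
    have h2 : x ∈ _root_.commutator H := Group.IsPerfect.mem_commutator
    exact Abelianization.commutator_subset_ker _ h2
  rw [MonoidHom.transfer_eq_pow ϕ x key] at h1
  have h3 : (⟨x, hx⟩ : ↥(P : Subgroup H)) ^ (P : Subgroup H).index ∈ _root_.commutator ↥(P : Subgroup H) :=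
    (QuotientGroup.eq_one_iff _).mp h1
  have hco : Nat.Coprime (orderOf (⟨x, hx⟩ : ↥(P : Subgroup H))) (P : Subgroup H).index := by
    obtain ⟨k, hk⟩ := P.2 ⟨x, hx⟩
    exact Nat.Coprime.coprime_dvd_left (orderOf_dvd_of_pow_eq_one hk)
      (((Fact.out : p.Prime).coprime_iff_not_dvd.mpr P.not_dvd_index).pow_left k)
  obtain ⟨j, hj⟩ := exists_pow_eq_self_of_coprime hco.symm
  rw [← hj]
  exact pow_mem h3 j

namespace Quat

variable {z t r d a : G} {T : Subgroup G} {m : ℕ} (Q : Quat A z t T r d m a)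
include Q

/-- The centre of `⟨r, a⟩` is `⟨z⟩`. -/
theorem grp_center {x : G} (hx : x ∈ Q.grp) (hc : ∀ q ∈ Q.grp, q * x = x * q) : x = 1 ∨ x = z := by
  have hd : d ∈ Q.grp := Q.mem_grp_of_rot (Q.rot.hd ▸ zpow_mem (mem_zpowers r) _)
  rcases Q.grp_cases hx with ⟨i, rfl⟩ | ⟨i, rfl⟩
  · refine Q.grp_inv hx ?_
    have h : a * r ^ i * a⁻¹ = r ^ i := mul_inv_eq_iff_eq_mul.mpr (hc a (mem_sup_right (mem_zpowers a)))
    rw [← conj_zpow, Q.a_inv, inv_zpow] at h
    calc r ^ i * r ^ i = (r ^ i)⁻¹ * r ^ i := by rw [h]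
      _ = 1 := inv_mul_cancel _
  · exfalso
    have h : a * r ^ i * d * (a * r ^ i)⁻¹ = d := mul_inv_eq_iff_eq_mul.mpr (hc d hd).symm
    rw [show a * r ^ i * d * (a * r ^ i)⁻¹ = a * (r ^ i * d * (r ^ i)⁻¹) * a⁻¹ by group,
      show r ^ i * d * (r ^ i)⁻¹ = d by
        rw [Q.rot.hd, ((Commute.refl r).zpow_zpow _ _).eq, mul_inv_cancel_right], Q.a_d] at h
    exact Q.rot.d_ne h

/-- Every element of `T` is a product of an element of `⟨r, a⟩` and one fixing `t`. -/
theorem split {s : G} (hs : s ∈ T) : ∃ g ∈ Q.grp, ∃ w ∈ T, w * t = t * w ∧ s = g * w := by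
  rcases Q.parity hs with ⟨i, hi⟩ | ⟨i, hi⟩
  · obtain ⟨h1, h2⟩ := Q.rot.frame.even_split hs hi
    exact ⟨(r ^ i)⁻¹, inv_mem (Q.mem_grp_of_rot (zpow_mem (mem_zpowers r) i)), _, h1, h2, by group⟩
  · obtain ⟨h1, h2⟩ := Q.rot.frame.even_split (mul_mem (inv_mem Q.aT) hs) hi
    exact ⟨a * (r ^ i)⁻¹, mul_mem (mem_sup_right (mem_zpowers a))
      (inv_mem (Q.mem_grp_of_rot (zpow_mem (mem_zpowers r) i))), _, h1, h2, by group⟩

/-- Commutators of elements of `C_T(t)` centralise `⟨r, a⟩`. -/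
theorem comm_cent_aux {w w' : G} (hw : w ∈ T) (hwt : w * t = t * w) (hw' : w' ∈ T) (hwt' : w' * t = t * w') :
    ∀ q ∈ Q.grp, q * ((w' * w)⁻¹ * (w * w')) = (w' * w)⁻¹ * (w * w') * q := by
  have R := Q.rot
  obtain ⟨j, hjodd, hj⟩ := Q.odd
  have coef : ∀ s ∈ T, s * t = t * s → ∃ k x : ℤ, s * r * s⁻¹ = r ^ k ∧ s * a * s⁻¹ = a * r ^ x ∧
      r ^ (2 * x) = r ^ (j * (k - 1)) := by
    intro s hs hst
    obtain ⟨-, k, -, hk⟩ := R.frame.act hs
    obtain ⟨q, hq⟩ := R.odd_exp hk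
    have hfix : s * d * s⁻¹ = d := R.fix_d hs hst
    obtain ⟨x, hx⟩ : ∃ x : ℤ, s * a * s⁻¹ = a * r ^ x := by
      refine (Q.cls_cases (conj_mem_cls R.frame.base.TA Q.a_cls hs)).resolve_left ?_
      rintro ⟨n, hn⟩
      replace hn : r ^ n = s * a * s⁻¹ := hn
      have h : s * (a * d * a⁻¹) * s⁻¹ = d := by
        rw [show s * (a * d * a⁻¹) * s⁻¹ = s * a * s⁻¹ * (s * d * s⁻¹) * (s * a * s⁻¹)⁻¹ by group, hfix, ← hn, R.hd,
          ((Commute.refl r).zpow_zpow _ _).eq, mul_inv_cancel_right]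
      rw [Q.a_d, show s * d⁻¹ * s⁻¹ = (s * d * s⁻¹)⁻¹ by group, hfix] at h
      exact R.d_ne h
    refine ⟨k, x, hk, hx, ?_⟩
    have hta : t * a * t⁻¹ = a * r ^ (-j) := by
      have h : r ^ j * a = a * r ^ (-j) := zpow_refl (t := a) Q.a_inv j
      rw [← h]
      calc t * a * t⁻¹ = t * (a * t * a⁻¹) * a * (t * t)⁻¹ := by group
        _ = r ^ j * a := by rw [hj, ← mul_assoc, R.frame.base.pair.t2, one_mul, inv_one, mul_one]
    have hts : t * (s * a * s⁻¹) * t⁻¹ = s * (t * a * t⁻¹) * s⁻¹ := by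
      calc t * (s * a * s⁻¹) * t⁻¹ = (t * s) * a * (t * s)⁻¹ := by group
        _ = (s * t) * a * (s * t)⁻¹ := by rw [hst]
        _ = s * (t * a * t⁻¹) * s⁻¹ := by group
    rw [hx, hta, show s * (a * r ^ (-j)) * s⁻¹ = s * a * s⁻¹ * (s * r ^ (-j) * s⁻¹) by group, hx, Q.d_conj _ k hk,
      show t * (a * r ^ x) * t⁻¹ = t * a * t⁻¹ * (t * r ^ x * t⁻¹) by group, hta, refl_zpow R.frame.inv, mul_assoc,
      ← zpow_add, mul_assoc, ← zpow_add, mul_right_inj, R.zpow_eq] at hts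
    rw [R.zpow_eq]
    obtain ⟨c, hc⟩ := hts
    exact ⟨-c, by linear_combination -hc⟩
  obtain ⟨k, x, hk, hx, hxk⟩ := coef w hw hwt
  obtain ⟨k', x', hk', hx', hxk'⟩ := coef w' hw' hwt'
  obtain ⟨u, hu⟩ := R.odd_exp hk
  obtain ⟨u', hu'⟩ := R.odd_exp hk'
  have hr : ∀ i : ℤ, w * r ^ i * w⁻¹ = r ^ (k * i) := fun i => Q.d_conj i k hk
  have hr' : ∀ i : ℤ, w' * r ^ i * w'⁻¹ = r ^ (k' * i) := fun i => Q.d_conj i k' hk'
  have hrr : w * w' * r * (w * w')⁻¹ = w' * w * r * (w' * w)⁻¹ := by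
    rw [show w * w' * r * (w * w')⁻¹ = w * (w' * r * w'⁻¹) * w⁻¹ by group, hk', hr,
      show w' * w * r * (w' * w)⁻¹ = w' * (w * r * w⁻¹) * w'⁻¹ by group, hk, hr', mul_comm k]
  have haa : w * w' * a * (w * w')⁻¹ = w' * w * a * (w' * w)⁻¹ := by
    rw [show w * w' * a * (w * w')⁻¹ = w * (w' * a * w'⁻¹) * w⁻¹ by group, hx',
      show w * (a * r ^ x') * w⁻¹ = w * a * w⁻¹ * (w * r ^ x' * w⁻¹) by group, hx, hr,
      show w' * w * a * (w' * w)⁻¹ = w' * (w * a * w⁻¹) * w'⁻¹ by group, hx,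
      show w' * (a * r ^ x) * w'⁻¹ = w' * a * w'⁻¹ * (w' * r ^ x * w'⁻¹) by group, hx', hr', mul_assoc, ← zpow_add,
      mul_assoc, ← zpow_add, mul_right_inj, R.zpow_eq]
    obtain ⟨c, hc⟩ := R.zpow_eq.mp hxk
    obtain ⟨c', hc'⟩ := R.zpow_eq.mp hxk'
    subst hu hu'
    exact ⟨u * c' - u' * c, by linear_combination u * hc' - u' * hc⟩
  intro q hq
  have key : ∀ y : G, w * w' * y * (w * w')⁻¹ = w' * w * y * (w' * w)⁻¹ → Commute ((w' * w)⁻¹ * (w * w')) y := by
    intro y hy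
    show _ = _
    calc (w' * w)⁻¹ * (w * w') * y = (w' * w)⁻¹ * (w * w' * y * (w * w')⁻¹) * (w * w') := by group
      _ = (w' * w)⁻¹ * (w' * w * y * (w' * w)⁻¹) * (w * w') := by rw [hy]
      _ = y * ((w' * w)⁻¹ * (w * w')) := by group
  rcases Q.grp_cases hq with ⟨i, rfl⟩ | ⟨i, rfl⟩
  · exact ((key r hrr).zpow_right i).eq.symm
  · exact ((key a haa).mul_right ((key r hrr).zpow_right i)).eq.symm

theorem comm_cent {w w' : G} (hw : w ∈ T) (hwt : w * t = t * w) (hw' : w' ∈ T) (hwt' : w' * t = t * w') :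
    ∀ q ∈ Q.grp, q * (w * w' * w⁻¹ * w'⁻¹) = w * w' * w⁻¹ * w'⁻¹ * q := by
  have h := Q.comm_cent_aux (inv_mem hw) (show Commute w t from hwt).inv_left.eq (inv_mem hw')
    (show Commute w' t from hwt').inv_left.eq
  rwa [show (w'⁻¹ * w⁻¹)⁻¹ * (w⁻¹ * w'⁻¹) = w * w' * w⁻¹ * w'⁻¹ by group] at h

/-- **`C_T(t) = ⟨z⟩`.** -/
theorem cent_t {p0 : G} (hp0 : p0 ∈ T) (hp0t : p0 * t = t * p0) : p0 = 1 ∨ p0 = z := by
  by_contra hcon
  obtain ⟨p, hpT, hpc, hpQ⟩ := Q.exists_cent hp0 hp0t (fun h => hcon (Or.inl h)) fun h => hcon (Or.inr h)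
  haveI : Fact (Nat.Prime 2) := ⟨Nat.prime_two⟩
  have R := Q.rot
  have hTA := R.frame.base.TA
  have hqs : IsQuasisimple ↥A := R.frame.base.ctx.std.1
  haveI : Group.IsPerfect ↥A := hqs.1
  let T0 : Sylow 2 ↥A := (R.frame.base.Tp.of_equiv (subgroupOfEquivOfLe hTA).symm).toSylow R.frame.base.Tfull
  have hT0 : ∀ x : ↥A, x ∈ (T0 : Subgroup ↥A) ↔ (x : G) ∈ T := fun x => Iff.rfl
  let Q0 : Subgroup ↥A := Q.grp.subgroupOf A
  have hQ0 : IsStronglyClosed Q0 (T0 : Subgroup ↥A) :=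
    ⟨fun x hx => Q.grp_le hx, fun x hx g hg => Q.closed hx g.2 hg⟩
  have hM := centralizer_closed T0 Q0 hQ0 fun b hb b' hb' h h' h1 h1' => Subtype.ext
    (((Q.grp_inv hb (congrArg Subtype.val h)).resolve_left fun e => h1 (Subtype.ext e)).trans
      ((Q.grp_inv hb' (congrArg Subtype.val h')).resolve_left fun e => h1' (Subtype.ext e)).symm)
  set M : Subgroup ↥A := (T0 : Subgroup ↥A) ⊓ centralizer (Q0 : Set ↥A) with hMdef
  have hMG : ∀ x : ↥A, x ∈ M → ∀ q ∈ Q.grp, q * (x : G) = x * q := fun x hx q hq =>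
    congrArg Subtype.val ((mem_inf.mp hx).2 ⟨q, hTA (Q.grp_le hq)⟩ hq)
  by_cases hcen : M ≤ center ↥A
  · -- the Sylow subgroup modulo `⟨r, a⟩` is abelian
    have hcomm : ∀ s ∈ T, ∀ s' ∈ T, s * s' * s⁻¹ * s'⁻¹ ∈ Q.grp := by
      intro s hs s' hs'
      obtain ⟨g, hg, w, hw, hwt, rfl⟩ := Q.split hs
      obtain ⟨g', hg', w', hw', hwt', rfl⟩ := Q.split hs'
      have hn : ∀ u ∈ T, ∀ q ∈ Q.grp, u * q * u⁻¹ ∈ Q.grp := fun u hu q hq => Q.grp_normal hu hq
      have hgT := Q.grp_le hg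
      have hgT' := Q.grp_le hg'
      set c := w * w' * w⁻¹ * w'⁻¹ with hc
      have hcQ : c ∈ Q.grp := by
        have hcT : c ∈ T := mul_mem (mul_mem (mul_mem hw hw') (inv_mem hw)) (inv_mem hw')
        have hcA : c ∈ A := hTA hcT
        have hcz := hcen (show (⟨c, hcA⟩ : ↥A) ∈ M from
          mem_inf.mpr ⟨hcT, fun q hq => Subtype.ext (Q.comm_cent hw hwt hw' hwt' q hq)⟩)
        have hcK : c ∈ centralizer (A : Set G) := fun b hb =>
          congrArg Subtype.val (Subgroup.mem_center_iff.mp hcz ⟨b, hb⟩)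
        have hct : c * t = t * c :=
          (((show Commute w t from hwt).mul_left hwt').mul_left (show Commute w t from hwt).inv_left).mul_left
            (show Commute w' t from hwt').inv_left
        have hcc : c * z = z * c := R.frame.base.zc hcA
        obtain ⟨k, hk⟩ := R.frame.base.Tp ⟨c, hcT⟩
        suffices key : ∀ (k : ℕ) (c : G), c ^ 2 ^ k = 1 → c ∈ centralizer (A : Set G) → c * t = t * c →
            c * z = z * c → c = 1 ∨ c = z by
          rcases key k c (congrArg Subtype.val hk) hcK hct hcc with h | h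
          · rw [h]; exact one_mem _
          · rw [h]; exact Q.mem_grp_of_rot R.zr
        intro k
        induction k with
        | zero => intro c h _ _ _; rw [pow_zero, pow_one] at h; exact Or.inl h
        | succ k ih =>
          intro c h hK hct hcz
          rcases ih (c * c) (by rw [← pow_two, ← pow_mul, ← pow_succ', h]) (mul_mem hK hK)
            ((show Commute c t from hct).mul_left hct).eq ((show Commute c z from hcz).mul_left hcz).eq with e | e
          · exact or_iff_not_imp_left.mpr fun h1 => R.frame.base.ctx.eq_of_comm R.frame.base.pair.zK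
              R.frame.base.pair.z2 R.frame.base.pair.z1 hK e h1 hcz
          · exact (R.frame.base.ctx.inverts R.frame.base.pair hK e hct).elim
      have e : g * w * (g' * w') * (g * w)⁻¹ * (g' * w')⁻¹ =
          g * (w * g' * w⁻¹) * (c * (w' * g⁻¹ * w'⁻¹) * c⁻¹) * c * g'⁻¹ := by rw [hc]; group
      rw [e]
      exact mul_mem (mul_mem (mul_mem (mul_mem hg (hn w hw g' hg'))
        (mul_mem (mul_mem hcQ (hn w' hw' _ (inv_mem hg))) (inv_mem hcQ))) hcQ) (inv_mem hg')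
    have hpA : p ∈ A := hTA hpT
    have hpz := hcen (show (⟨p, hpA⟩ : ↥A) ∈ M from
      mem_inf.mpr ⟨hpT, fun q hq => Subtype.ext (hpc q hq)⟩)
    have h1 := central_mem_commutator T0 (x := (⟨p, hpA⟩ : ↥A)) hpT hpz
    have h2 : _root_.commutator ↥(T0 : Subgroup ↥A) ≤ Q0.subgroupOf (T0 : Subgroup ↥A) := by
      rw [_root_.commutator_def]
      exact Subgroup.commutator_le.mpr fun s _ s' _ => hcomm _ s.2 _ s'.2
    exact hpQ (h2 h1)
  · have h2767 := Cfsg.Agent.S2767.result T0 Q0 M hQ0 hM fun b hb b' hb' => (mem_inf.mp hb').2 b hb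
    have htop : ∀ {X : Subgroup ↥A}, ¬ X ≤ center ↥A → normalClosure (X : Set ↥A) = ⊤ := fun {X} hX =>
      (quasisimple_normal_le_center_or_eq_top hqs _).resolve_left fun h => hX (le_trans subset_normalClosure h)
    have hQne : ¬ Q0 ≤ center ↥A := fun h => by
      have hdQ : d ∈ Q.grp := Q.mem_grp_of_rot (R.hd ▸ zpow_mem (mem_zpowers r) _)
      have h5 := Subgroup.mem_center_iff.mp (h (x := (⟨d, hTA R.dT⟩ : ↥A)) hdQ) ⟨a, hTA Q.aT⟩
      have h6 : a * d = d * a := congrArg Subtype.val h5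
      exact R.d_ne (by rw [← Q.a_d, h6, mul_inv_cancel_right])
    have hI : normalClosure ((Q0 ⊓ M : Subgroup ↥A) : Set ↥A) ≤ center ↥A := normalClosure_le_normal (by
      intro x hx
      obtain ⟨hxQ, hxM⟩ := mem_inf.mp hx
      rcases Q.grp_center hxQ (hMG x hxM) with h | h
      · rw [show x = 1 from Subtype.ext h]; exact one_mem _
      · exact Subgroup.mem_center_iff.mpr fun b => Subtype.ext (by
          rw [Subgroup.coe_mul, Subgroup.coe_mul, show (x : G) = z from h]; exact R.frame.base.zc b.2))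
    haveI := pPrimeCore_normal 2 ↥A
    rcases quasisimple_normal_le_center_or_eq_top hqs (pPrimeCore 2 ↥A) with hO | hO
    · rw [htop hQne, htop hcen, ← _root_.commutator_def] at h2767
      haveI : Group.IsPerfect ↥A := hqs.1
      rw [Group.IsPerfect.commutator_eq_top] at h2767
      exact hQne (le_top.trans (h2767.trans (sup_le hI hO)))
    · have h5 := odd_card_oddCore (G := ↥A)
      rw [show oddCore ↥A = pPrimeCore 2 ↥A from rfl, hO, card_top] at h5
      have h6 : 2 ∣ Nat.card ↥A := by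
        have h7 := Subgroup.orderOf_dvd_natCard _ R.frame.base.zA
        rwa [orderOf_eq_prime (by rw [pow_two, R.frame.base.pair.z2]) R.frame.base.pair.z1] at h7
      exact (Nat.not_even_iff_odd.mpr h5) (even_iff_two_dvd.mpr h6)

theorem T_eq : Q.grp = T := le_antisymm Q.grp_le fun s hs => by
  obtain ⟨g, hg, w, hw, hwt, rfl⟩ := Q.split hs
  rcases Q.cent_t hw hwt with h | h
  · rw [h, mul_one]; exact hg
  · rw [h]; exact mul_mem hg (Q.mem_grp_of_rot Q.rot.zr)

/-- The only involution of `T` is `z`. -/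
theorem T_inv {x : G} (hx : x ∈ T) (h2 : x * x = 1) : x = 1 ∨ x = z := Q.grp_inv (by rw [Q.T_eq]; exact hx) h2

/-- **`T⟨t⟩` is semidihedral.** -/
theorem isQuasiDihedral : IsQuasiDihedral ↥(T ⊔ zpowers t) := by
  have R := Q.rot
  have B := R.frame.base
  obtain ⟨j, hjodd, hj⟩ := Q.odd
  obtain ⟨w, hw⟩ := R.zr
  replace hw : r ^ w = z := hw
  have hm1 : 1 ≤ m := le_trans one_le_two R.two_le
  have em : (2 : ℤ) ^ m = 2 * 2 ^ (m - 1) := by rw [← pow_succ']; congr 1; omega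
  have em2 : (2 : ℤ) ^ (m - 1) = 2 * 2 ^ (m - 2) := by
    rw [← pow_succ']; congr 1; have := R.two_le; omega
  have hzpow : r ^ ((2 : ℤ) ^ (m - 1)) = z := by rw [← R.dd, R.hd, ← zpow_add, em2, two_mul]
  set x := t * a with hx
  have hxx : x * x = r ^ (j + 2 ^ (m - 1)) := by
    calc x * x = t * (a * t * a⁻¹) * (a * a) := by rw [hx]; group
      _ = r ^ j * z := by rw [hj, Q.aa, ← mul_assoc t t, B.pair.t2, one_mul]
      _ = _ := by rw [zpow_add, hzpow]
  have heodd : Odd (j + (2 : ℤ) ^ (m - 1)) := hjodd.add_even ⟨2 ^ (m - 2), by rw [em2, two_mul]⟩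
  obtain ⟨u, v, huv⟩ := exists_bezout heodd m
  have hr_mem : r ∈ zpowers x := by
    refine ⟨2 * u, ?_⟩
    show x ^ (2 * u) = r
    rw [zpow_mul, zpow_two, hxx, ← zpow_mul]
    conv_rhs => rw [← zpow_one r]
    rw [R.zpow_eq]
    exact ⟨v, by linear_combination -huv⟩
  have hxpow : x ^ (2 ^ m : ℕ) = z := by
    obtain ⟨i, hi⟩ := heodd
    rw [show (2 : ℕ) ^ m = 2 * 2 ^ (m - 1) by rw [← pow_succ']; congr 1; omega, pow_mul, pow_two, hxx,
      ← zpow_natCast, ← zpow_mul, ← hzpow, R.zpow_eq]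
    push_cast
    exact ⟨-i, by rw [em]; linear_combination -(2 : ℤ) ^ (m - 1) * hi⟩
  have hord : orderOf x = 2 ^ (m + 1) := by
    haveI : Fact (Nat.Prime 2) := ⟨Nat.prime_two⟩
    refine orderOf_eq_prime_pow ?_ ?_
    · rw [hxpow]; exact B.pair.z1
    · rw [pow_succ, pow_mul, hxpow, pow_two, B.pair.z2]
  have hconj : t * x * t⁻¹ = x ^ (2 ^ m - 1 : ℕ) := by
    have h1 : x ^ (2 ^ m - 1 : ℕ) * x = z := by
      rw [← pow_succ, Nat.sub_add_cancel Nat.one_le_two_pow, hxpow]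
    have h2 : t * x * t⁻¹ * x = z := by
      calc t * x * t⁻¹ * x = t * t * a * (t⁻¹ * t) * a := by rw [hx]; group
        _ = z := by rw [B.pair.t2, inv_mul_cancel, one_mul, mul_one, Q.aa]
    exact mul_right_cancel (h2.trans h1.symm)
  have hsup : T ⊔ zpowers t = zpowers x ⊔ zpowers t := by
    have ht : t ∈ zpowers x ⊔ zpowers t := mem_sup_right (mem_zpowers t)
    refine le_antisymm (sup_le ?_ le_sup_right) (sup_le (zpowers_le.mpr ?_) le_sup_right)
    · rw [← Q.T_eq]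
      refine sup_le (zpowers_le.mpr (mem_sup_left hr_mem)) (zpowers_le.mpr ?_)
      have := mul_mem ht (mem_sup_left (mem_zpowers x) : x ∈ zpowers x ⊔ zpowers t)
      rwa [hx, ← mul_assoc, B.pair.t2, one_mul] at this
    · exact mul_mem (mem_sup_right (mem_zpowers t)) (mem_sup_left Q.aT)
  have hnorm : zpowers t ≤ normalizer (zpowers x : Set G) := by
    rw [zpowers_le]
    have key : ∀ y ∈ zpowers x, t * y * t⁻¹ ∈ zpowers x := by
      rintro _ ⟨i, rfl⟩
      rw [← conj_zpow, hconj]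
      exact zpow_mem (pow_mem (mem_zpowers x) _) i
    refine mem_normalizer_iff.mpr fun y => ⟨key y, fun h => ?_⟩
    have := key _ h
    rwa [show t * (t * y * t⁻¹) * t⁻¹ = t * t * y * (t * t)⁻¹ by group, B.pair.t2, one_mul, inv_one, mul_one] at this
  have hint : zpowers x ⊓ zpowers t = ⊥ := by
    refine eq_bot_iff.mpr fun y hy => ?_
    obtain ⟨hyx, i, rfl⟩ := mem_inf.mp hy
    rcases B.t_pow i with h | h
    · exact h
    · exfalso
      replace hyx : t ∈ zpowers x := h ▸ (show t ^ i ∈ zpowers x from hyx)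
      obtain ⟨l, hl⟩ := hyx
      have hc : t * x * t⁻¹ = x := by
        replace hl : x ^ l = t := hl
        rw [← hl, ((Commute.refl x).zpow_left l).eq, mul_inv_cancel_right]
      have hat : a * t = t * a := by
        rw [hx, ← mul_assoc, B.pair.t2, one_mul, B.pair.tinv] at hc
        exact hc
      rw [mul_inv_eq_iff_eq_mul.mpr hat] at hj
      have h5 : r ^ j = r ^ (0 : ℤ) := by rw [zpow_zero]; exact mul_eq_left.mp hj.symm
      obtain ⟨c, hc⟩ := R.zpow_eq.mp h5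
      obtain ⟨i', hi'⟩ := hjodd
      rw [em] at hc
      have h2 : j = 2 * -(2 ^ (m - 1) * c) := by linear_combination -hc
      exact (Int.not_even_iff_odd.mpr ⟨i', hi'⟩) (h2 ▸ even_two_mul _)
  refine ⟨m + 1, by have := R.two_le; omega, ?_,
    ⟨x, hsup ▸ mem_sup_left (mem_zpowers x)⟩, ⟨t, mem_sup_right (mem_zpowers t)⟩, ?_, ?_, ?_⟩
  · have h := card_sup_cyclicStandard hnorm
    rw [hint, card_bot, mul_one, Nat.card_zpowers, Nat.card_zpowers, hord, ← hsup,
      orderOf_eq_prime (by rw [pow_two, B.pair.t2]) B.pair.t1] at h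
    rw [h]; ring
  · rw [orderOf_mk, hord]
  · rw [orderOf_mk, orderOf_eq_prime (by rw [pow_two, B.pair.t2]) B.pair.t1]
  · refine Subtype.ext ?_
    push_cast
    exact hconj

end Quat

end CfsgLib.CyclicStandard
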